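import Mathlib
import Cfsg.Prelude.Def_Local

/-!
Definitions for the lemma server "TH1" (statement S3797: a finite solvable group with one class of
involutions and non-cyclic/quaternion Sylow 2-subgroups has 2-length 1).
All structures are `Prop`-valued bundles of hypotheses about subgroups of one finite group `G`.
-/

set_option autoImplicit false

namespace Cfsg.Agent.Helper89.TH1

open Cfsg Subgroup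
open scoped commutatorElement

universe u

/-- two distinct commuting involutions. -/
def TwoInv (G : Type u) [Group G] : Prop :=
  ∃ x y : G, x ≠ y ∧ x ≠ 1 ∧ x ^ 2 = 1 ∧ y ≠ 1 ∧ y ^ 2 = 1 ∧ x * y = y * x

/-- all involutions conjugate. -/
def OneClass (G : Type u) [Group G] : Prop :=
  ∀ x y : G, x ≠ 1 → x ^ 2 = 1 → y ≠ 1 → y ^ 2 = 1 → IsConj x y

/-- Setting after the reduction `O(G) = 1`: `Q = O_2(G) = pCore 2 G`, `W = Ω_1(Z(Q))` contains all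
involutions of `G`, `G` is transitive on `W \ {1}`. -/
structure Base (G : Type u) [Group G] [Finite G] (W : Subgroup G) : Prop where
  solv : Group.IsSolvable G
  core : pPrimeCore 2 G = ⊥
  cent : centralizer (pCore 2 G : Set G) ≤ pCore 2 G
  W_le : W ≤ pCore 2 G
  W_normal : W.Normal
  W_central : ∀ w ∈ W, ∀ q ∈ pCore 2 G, w * q = q * w
  W_exp : ∀ w ∈ W, w ^ 2 = 1
  inv_mem : ∀ x : G, x ^ 2 = 1 → x ∈ W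
  W_trans : ∀ w ∈ W, ∀ w' ∈ W, w ≠ 1 → w' ≠ 1 → ∃ g : G, g * w * g⁻¹ = w'
  W_card : 4 ≤ Nat.card W

/-- `K` is a Hall 2'-subgroup (complement to `Q = O_2(G)`) of `R = O_{2,2'}(G) = Q K`. -/
structure KData (G : Type u) [Group G] [Finite G] (K : Subgroup G) : Prop where
  K_odd : Odd (Nat.card K)
  R_normal : (pCore 2 G ⊔ K).Normal
  frat : ∀ g : G, ∃ q ∈ pCore 2 G, q * g ∈ normalizer (K : Set G)
  centR : ∀ g : G, (∀ k ∈ K, ⁅g, k⁆ ∈ pCore 2 G) → g ∈ pCore 2 G ⊔ K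

/-- Case B data, first half: `T` a Sylow 2-subgroup of `H = N_G(K)`, `N = N_H(T)`. -/
structure TNData (G : Type u) [Group G] [Finite G] (W K T N : Subgroup G) : Prop where
  N_le : N ≤ normalizer (K : Set G)
  T_le : T ≤ N
  N_T : ∀ g ∈ N, ∀ t ∈ T, g * t * g⁻¹ ∈ T
  T_two : IsPGroup 2 T
  N_trans : ∀ w ∈ W, ∀ w' ∈ W, w ≠ 1 → w' ≠ 1 → ∃ g ∈ N, g * w * g⁻¹ = w'
  T_W : ∀ t ∈ T, ∀ w ∈ W, t * w = w * t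
  Q₀_lt : pCore 2 G ⊓ normalizer (K : Set G) < T
  cent_T : ∀ t ∈ T, (∀ k ∈ K, t * k = k * t) → t ∈ pCore 2 G

/-- Case B data, second half: `Q₀ = C_Q(K)`, `E` = preimage in `T` of `Ω_1(Z(T/Q₀))`,
`K₁ = [K, E]`. -/
structure HData (G : Type u) [Group G] [Finite G] (W K N E K₁ Q₀ : Subgroup G) : Prop where
  N_le : N ≤ normalizer (K : Set G)
  N_trans : ∀ w ∈ W, ∀ w' ∈ W, w ≠ 1 → w' ≠ 1 → ∃ g ∈ N, g * w * g⁻¹ = w'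
  E_two : IsPGroup 2 E
  E_le_N : E ≤ N
  N_E : ∀ g ∈ N, ∀ e ∈ E, g * e * g⁻¹ ∈ E
  E_W : ∀ e ∈ E, ∀ w ∈ W, e * w = w * e
  K₁_le : K₁ ≤ K
  K₁_ne : K₁ ≠ ⊥
  K_K₁ : ∀ k ∈ K, ∀ x ∈ K₁, k * x * k⁻¹ ∈ K₁
  N_K₁ : ∀ g ∈ N, ∀ k ∈ K₁, g * k * g⁻¹ ∈ K₁
  K_comm : K₁ ≤ ⁅K₁, E⁆
  Q₀_le : Q₀ ≤ E
  Q₀_K : ∀ q ∈ Q₀, ∀ k ∈ K, q * k = k * q
  E_sq : ∀ e ∈ E, e ^ 2 ∈ Q₀
  E_comm : ∀ a ∈ E, ∀ b ∈ E, ⁅a, b⁆ ∈ Q₀

/-- The configuration that is shown to be impossible.  `M = Y/W` is an `𝔽₂`-space, `sq : M → W`,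
`x ↦ x²` is an anisotropic `W`-valued quadratic map with polar form the commutator; `N` acts on
everything and is transitive on `W \ {1}`; `K₁` (odd order) and `E` (2-group) act trivially on `W`;
`K₁` has no nonzero fixed point on `M`; `E/Q₀` is elementary abelian, `Q₀` centralizes `K₁`,
`K₁ = [K₁, E]`. -/
structure Core (G : Type u) [Group G] [Finite G] (W Y K₁ E Q₀ N : Subgroup G) : Prop where
  inv_mem : ∀ x : G, x ^ 2 = 1 → x ∈ W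
  W_exp : ∀ w ∈ W, w ^ 2 = 1
  W_card : 4 ≤ Nat.card W
  W_lt_Y : W < Y
  Y_two : IsPGroup 2 Y
  W_central : ∀ w ∈ W, ∀ y ∈ Y, w * y = y * w
  sq_mem : ∀ y ∈ Y, y ^ 2 ∈ W
  comm_mem : ∀ x ∈ Y, ∀ y ∈ Y, ⁅x, y⁆ ∈ W
  N_W : ∀ g ∈ N, ∀ w ∈ W, g * w * g⁻¹ ∈ W
  N_Y : ∀ g ∈ N, ∀ y ∈ Y, g * y * g⁻¹ ∈ Y
  N_K : ∀ g ∈ N, ∀ k ∈ K₁, g * k * g⁻¹ ∈ K₁
  N_E : ∀ g ∈ N, ∀ e ∈ E, g * e * g⁻¹ ∈ E
  N_trans : ∀ w ∈ W, ∀ w' ∈ W, w ≠ 1 → w' ≠ 1 → ∃ g ∈ N, g * w * g⁻¹ = w'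
  K_odd : Odd (Nat.card K₁)
  K_Y : ∀ k ∈ K₁, ∀ y ∈ Y, k * y * k⁻¹ ∈ Y
  K_W : ∀ k ∈ K₁, ∀ w ∈ W, k * w = w * k
  K_fpf : ∀ y ∈ Y, (∀ k ∈ K₁, ⁅y, k⁆ ∈ W) → y ∈ W
  E_two : IsPGroup 2 E
  E_le_N : E ≤ N
  E_W : ∀ e ∈ E, ∀ w ∈ W, e * w = w * e
  K_comm : K₁ ≤ ⁅K₁, E⁆
  Q₀_le : Q₀ ≤ E
  Q₀_K : ∀ q ∈ Q₀, ∀ k ∈ K₁, q * k = k * q
  E_sq : ∀ e ∈ E, e ^ 2 ∈ Q₀
  E_comm : ∀ a ∈ E, ∀ b ∈ E, ⁅a, b⁆ ∈ Q₀

/-- `X` normalizes `Y` (elementwise form). -/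
def Nzes {G : Type u} [Group G] (X Y : Subgroup G) : Prop :=
  ∀ g ∈ X, ∀ y ∈ Y, g * y * g⁻¹ ∈ Y

end Cfsg.Agent.Helper89.TH1
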