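import Mathlib
import Cfsg.Prelude.Def_OddOrderLocal
import Cfsg.Agent.S1412
import Cfsg.Agent.Lib.Helper30.BGFusD
import Cfsg.Agent.Lib.Helper55.BGCyclic

/-!
# Bender–Glauberman 12.14 (statement S1423), part a

Structure of a nonabelian Sylow `p`-subgroup of rank at most two (from S1412).
-/

set_option autoImplicit false
set_option linter.unusedSectionVars false

namespace Cfsg.Agent.Helper89.BG12

open Subgroup Cfsg
open scoped commutatorElement Pointwise

variable {G : Type*} [Group G] [Finite G]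

/-- A nonabelian Sylow `p`-subgroup `P` of rank at most two of a minimal simple group of odd
order contains a nonabelian subgroup `P₁` of order `p ^ 3` and exponent `p` whose centre contains
`[P, P]` and is central in `P`. -/
theorem rank_two_structure (hG : IsMinSimpleOddOrder G) (p : ℕ) [Fact p.Prime] (P : Sylow p G)
    (hr : PRankLE p 2 ↥(P : Subgroup G)) (hna : ¬ IsMulCommutative ↥(P : Subgroup G)) :
    ∃ P₁ : Subgroup G, P₁ ≤ (P : Subgroup G) ∧ Nat.card P₁ = p ^ 3 ∧ ¬ IsMulCommutative P₁ ∧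
      (∀ a ∈ P₁, a ^ p = 1) ∧
      ⁅(P : Subgroup G), (P : Subgroup G)⁆ ≤ P₁ ⊓ centralizer (P₁ : Set G) ∧
      P₁ ⊓ centralizer (P₁ : Set G) ≤ centralizer ((P : Subgroup G) : Set G) := by
  rcases Cfsg.Agent.S1412.result hG p P hr with
    h | ⟨P₁, P₂, hsup, hcomm, hna₁, hcard, hexp, hcyc, -⟩
  · exact absurd h hna
  have hP₁P : P₁ ≤ (P : Subgroup G) := hsup ▸ le_sup_left
  have hP₂P : P₂ ≤ (P : Subgroup G) := hsup ▸ le_sup_right
  -- `P₂` is central in `P`
  have hP₂c : ∀ b ∈ P₂, ∀ x ∈ (P : Subgroup G), b * x = x * b := by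
    intro b hb x hx
    have hle : (P : Subgroup G) ≤ centralizer ({b} : Set G) := by
      rw [← hsup]
      refine sup_le ?_ ?_
      · intro a ha
        rw [mem_centralizer_iff]
        intro c hc
        rw [Set.mem_singleton_iff] at hc
        subst hc
        exact (hcomm a ha c hb).symm
      · intro a ha
        rw [mem_centralizer_iff]
        intro c hc
        rw [Set.mem_singleton_iff] at hc
        subst hc
        exact Cfsg.Agent.Helper55.BGB.commute_of_isCyclic hcyc hb ha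
    have := (mem_centralizer_iff.mp (hle hx)) b (Set.mem_singleton b)
    exact this
  -- decomposition of the elements of `P`
  have hdec : ∀ x ∈ (P : Subgroup G), ∃ a ∈ P₁, ∃ b ∈ P₂, x = a * b := by
    intro x hx
    have hnorm : P₁ ≤ normalizer (P₂ : Set G) := by
      intro a ha
      rw [mem_normalizer_iff]
      intro c
      constructor
      · intro hc
        have : a * c * a⁻¹ = c := by rw [hcomm a ha c hc, mul_inv_cancel_right]
        rw [this]; exact hc
      · intro hc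
        have h1 : a⁻¹ * (a * c * a⁻¹) * a = c := by group
        have h2 : a⁻¹ * (a * c * a⁻¹) * a = a * c * a⁻¹ := by
          have := hcomm a⁻¹ (inv_mem ha) _ hc
          rw [this, inv_mul_cancel_right]
        rw [← h1, h2]; exact hc
    have hx' : x ∈ ((P₁ ⊔ P₂ : Subgroup G) : Set G) := by rw [hsup]; exact hx
    rw [coe_mul_of_left_le_normalizer_right P₁ P₂ hnorm] at hx'
    obtain ⟨a, ha, b, hb, rfl⟩ := Set.mem_mul.mp hx'
    exact ⟨a, ha, b, hb, rfl⟩
  have hZ : ⁅P₁, P₁⁆ = P₁ ⊓ centralizer (P₁ : Set G) :=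
    Cfsg.Agent.Helper30.BGFus.commutator_eq_inf_centralizer_of_card_cube P₁ hcard hna₁
  refine ⟨P₁, hP₁P, hcard, hna₁, ?_, ?_, ?_⟩
  · intro a ha
    have := Monoid.pow_exponent_eq_one (⟨a, ha⟩ : P₁)
    rw [hexp] at this
    simpa using congrArg Subtype.val this
  · rw [Subgroup.commutator_le]
    intro x hx y hy
    obtain ⟨a₁, ha₁, a₂, ha₂, rfl⟩ := hdec x hx
    obtain ⟨b₁, hb₁, b₂, hb₂, rfl⟩ := hdec y hy
    have e1 : ⁅a₁ * a₂, b₁ * b₂⁆ = ⁅a₁, b₁⁆ := by
      have h1 : a₂ * (b₁ * b₂) * a₂⁻¹ = b₁ * b₂ := by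
        rw [hP₂c a₂ ha₂ (b₁ * b₂) hy, mul_inv_cancel_right]
      have h2 : b₂ * a₁⁻¹ * b₂⁻¹ = a₁⁻¹ := by
        rw [hP₂c b₂ hb₂ a₁⁻¹ (inv_mem (hP₁P ha₁)), mul_inv_cancel_right]
      calc ⁅a₁ * a₂, b₁ * b₂⁆ = a₁ * (a₂ * (b₁ * b₂) * a₂⁻¹) * a₁⁻¹ * (b₁ * b₂)⁻¹ := by
            rw [commutatorElement_def]; group
        _ = a₁ * (b₁ * b₂) * a₁⁻¹ * (b₁ * b₂)⁻¹ := by rw [h1]
        _ = a₁ * b₁ * (b₂ * a₁⁻¹ * b₂⁻¹) * b₁⁻¹ := by group
        _ = a₁ * b₁ * a₁⁻¹ * b₁⁻¹ := by rw [h2]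
        _ = ⁅a₁, b₁⁆ := by rw [commutatorElement_def]
    rw [e1, ← hZ]
    exact Subgroup.commutator_mem_commutator ha₁ hb₁
  · intro z hz
    obtain ⟨hz₁, hz₂⟩ := Subgroup.mem_inf.mp hz
    rw [mem_centralizer_iff]
    intro x hx
    obtain ⟨a, ha, b, hb, rfl⟩ := hdec x hx
    have h1 : a * z = z * a := (mem_centralizer_iff.mp hz₂) a ha
    have h2 : b * z = z * b := hP₂c b hb z (hP₁P hz₁)
    calc a * b * z = a * (b * z) := by group
      _ = a * (z * b) := by rw [h2]
      _ = (a * z) * b := by group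
      _ = (z * a) * b := by rw [h1]
      _ = z * (a * b) := by group

end Cfsg.Agent.Helper89.BG12
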