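import Mathlib
import Cfsg.Prelude.Def_OddOrderLocal
import Cfsg.Agent.Lib.Helper79.BG10.Alpha
import Cfsg.Agent.Lib.Helper55.BGCyclic

/-!
# Small tools for Bender–Glauberman section 12 (second half)

Relative Sylow subgroups (`IsSylowIn`) versus divisibility of relative indices, and
conjugation bookkeeping in the `cj` form of helper79's library.
-/

set_option autoImplicit false
set_option linter.unusedSectionVars false

namespace Cfsg.Agent.Helper89.BG12

open Subgroup
open Cfsg.Agent.Helper16
open Cfsg.Agent.Helper79.BG10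

variable {G : Type*} [Group G] [Finite G] {p : ℕ} [Fact p.Prime]

/-- a relative Sylow subgroup has relative index prime to `p` -/
theorem not_dvd_relIndex_of_isSylowIn {K T : Subgroup G} (h : IsSylowIn p K T) :
    ¬ p ∣ T.relIndex K := by
  obtain ⟨S, rfl⟩ := h
  have e : ((S : Subgroup K).map K.subtype).subgroupOf K = (S : Subgroup K) :=
    Subgroup.comap_map_eq_self_of_injective (Subgroup.subtype_injective K) _
  show ¬ p ∣ (((S : Subgroup K).map K.subtype).subgroupOf K).index
  rw [e]
  exact S.not_dvd_index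

/-- a `p`-subgroup of `K` of relative index prime to `p` is a relative Sylow subgroup -/
theorem isSylowIn_of_not_dvd_relIndex {K T : Subgroup G} (hT : IsPGroup p T) (hTK : T ≤ K)
    (h : ¬ p ∣ T.relIndex K) : IsSylowIn p K T := by
  have hT' : IsPGroup p (T.subgroupOf K) := hT.comap_subtype
  have h' : ¬ p ∣ (T.subgroupOf K).index := h
  refine ⟨hT'.toSylow h', ?_⟩
  rw [IsPGroup.toSylow_coe, Subgroup.map_subgroupOf_eq_of_le hTK]

/-- a relative Sylow subgroup is maximal among `p`-subgroups -/
theorem eq_of_isSylowIn_le {K T Y : Subgroup G} (hT : IsSylowIn p K T) (hY : IsPGroup p Y)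
    (hYK : Y ≤ K) (hTY : T ≤ Y) : Y = T := by
  have h1 := card_le_of_isSylowIn hY hYK hT
  have h2 : Nat.card T ≤ Nat.card Y := Nat.le_of_dvd Nat.card_pos (Subgroup.card_dvd_of_le hTY)
  have h3 : Nat.card Y = Nat.card T := le_antisymm h1 h2
  symm
  apply Subgroup.eq_of_le_of_card_ge hTY
  omega

/-- a Sylow subgroup of `⊤` as a term of `Sylow p G` -/
theorem exists_sylow_of_isSylowIn_top {Q : Subgroup G} (h : IsSylowIn p ⊤ Q) :
    ∃ P : Sylow p G, (P : Subgroup G) = Q := by
  have hc := h.card
  rw [Subgroup.card_top] at hc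
  exact ⟨Sylow.ofCard Q hc, Sylow.coe_ofCard _ _⟩

/-- a term of `Sylow p G` is a Sylow subgroup of `⊤` -/
theorem isSylowIn_top_of_sylow (P : Sylow p G) : IsSylowIn p ⊤ (P : Subgroup G) := by
  apply isSylowIn_of_card le_top
  rw [Subgroup.card_top]
  exact P.card_eq_multiplicity

theorem cj_self_of_mem {M : Subgroup G} {g : G} (hg : g ∈ M) : cj g M = M :=
  cj_eq_self_of_mem hg

/-- an element centralizing `T` fixes `T` under conjugation -/
theorem cj_eq_self_of_mem_centralizer {T : Subgroup G} {c : G}
    (hc : c ∈ centralizer (T : Set G)) : cj c T = T :=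
  cj_eq_self_of_mem_normalizer (Subgroup.centralizer_le_normalizer _ hc)

/-- normalizer of a cyclic subgroup normalizes each of its subgroups -/
theorem normalizer_le_normalizer_of_le_cyclic {T X : Subgroup G} (hcyc : IsCyclic T)
    (hXT : X ≤ T) : normalizer (T : Set G) ≤ normalizer (X : Set G) := by
  intro g hg
  have h1 : cj g X ≤ T := by
    have := cj_mono g hXT
    rwa [cj_eq_self_of_mem_normalizer hg] at this
  exact Cfsg.Agent.Helper55.BGB.mem_normalizer_of_map_conj_eq
    (Cfsg.Agent.Helper55.BGB.map_conj_eq_of_le_cyclic hcyc hXT g h1)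

end Cfsg.Agent.Helper89.BG12
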