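import Mathlib
import Cfsg.Agent.Lib.Helper89.BG12Tools

/-!
# More small tools for Bender–Glauberman section 12
-/

set_option autoImplicit false
set_option linter.unusedSectionVars false

namespace Cfsg.Agent.Helper89.BG12

open Subgroup

variable {G : Type*} [Group G] [Finite G]

/-- a subgroup `C ≤ Y` whose order is divisible by the full `u`-part of `|Y|` for every prime `u`
is all of `Y` -/
theorem le_of_forall_prime_pow_dvd (Y C : Subgroup G) (hCY : C ≤ Y)
    (hC : ∀ u : ℕ, u.Prime → u ^ (Nat.card Y).factorization u ∣ Nat.card C) : Y ≤ C := by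
  have hdvd : Nat.card Y ∣ Nat.card C := by
    rw [← Nat.factorization_prime_le_iff_dvd Nat.card_pos.ne' Nat.card_pos.ne']
    intro u hu
    exact (hu.pow_dvd_iff_le_factorization Nat.card_pos.ne').mp (hC u hu)
  have hle : Nat.card Y ≤ Nat.card C := Nat.le_of_dvd Nat.card_pos hdvd
  exact (Subgroup.eq_of_le_of_card_ge hCY hle).ge

/-- a subgroup of prime order `p` inside a subgroup of order divisible by `p` -/
theorem exists_le_card_eq_prime (p : ℕ) [Fact p.Prime] (Y : Subgroup G) (hpY : p ∣ Nat.card Y) :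
    ∃ X : Subgroup G, X ≤ Y ∧ Nat.card X = p := by
  obtain ⟨x, hx⟩ := exists_prime_orderOf_dvd_card' p hpY
  refine ⟨zpowers (x : G), ?_, ?_⟩
  · rw [zpowers_le]; exact x.2
  · rw [Nat.card_zpowers, Subgroup.orderOf_coe, hx]

/-- a subgroup of prime order is a nontrivial `p`-group -/
theorem isPGroup_and_ne_bot_of_card_eq_prime {p : ℕ} [hp : Fact p.Prime] {X : Subgroup G}
    (hX : Nat.card X = p) : IsPGroup p X ∧ X ≠ ⊥ := by
  refine ⟨IsPGroup.of_card (n := 1) (by rw [hX, pow_one]), ?_⟩
  rintro rfl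
  rw [Subgroup.card_bot] at hX
  exact hp.out.one_lt.ne hX

/-- a nontrivial `p`-group has order divisible by `p` -/
theorem dvd_card_of_isPGroup_ne_bot {p : ℕ} [Fact p.Prime] {X : Subgroup G} (hXp : IsPGroup p X)
    (hX1 : X ≠ ⊥) : p ∣ Nat.card X := by
  obtain ⟨n, hn⟩ := IsPGroup.iff_card.mp hXp
  have hn0 : n ≠ 0 := by
    rintro rfl
    rw [pow_zero] at hn
    exact hX1 (Subgroup.eq_bot_of_card_eq X hn)
  rw [hn]
  exact dvd_pow_self p hn0

/-- a group all of whose elements have `p`-th power one and of order `> p` is not cyclic -/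
theorem not_isCyclic_of_exponent_of_lt {p : ℕ} {A : Subgroup G} (hp : 0 < p)
    (hexp : ∀ a ∈ A, a ^ p = 1) (hlt : p < Nat.card A) : ¬ IsCyclic A := by
  intro hc
  obtain ⟨g, hg⟩ := hc.exists_generator
  have h1 : orderOf g = Nat.card A := orderOf_eq_card_of_forall_mem_zpowers hg
  have h2 : g ^ p = 1 := Subtype.ext (by simpa using hexp g.1 g.2)
  have h3 : orderOf g ∣ p := orderOf_dvd_of_pow_eq_one h2
  have h4 : orderOf g ≤ p := Nat.le_of_dvd hp h3
  omega

end Cfsg.Agent.Helper89.BG12
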