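import Mathlib
import Cfsg.Prelude.Def_OddOrderLocal
import Cfsg.Agent.S1403
import Cfsg.Agent.S1405
import Cfsg.Agent.S1417
import Cfsg.Agent.Lib.Helper89.BG1214a
import Cfsg.Agent.Lib.Helper89.BG12Tools2
import Cfsg.Agent.Lib.Helper97.S1423F
import Cfsg.Agent.Lib.Helper97.S1423Q
import Cfsg.Agent.Lib.Helper83.S1423E
import Cfsg.Agent.Lib.Helper15.BGU.Rank
import Cfsg.Agent.Lib.Helper24.NarrowSolv
import Cfsg.Agent.Lib.Helper55.BGHall
import Cfsg.Agent.Lib.Helper64.Basic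

/-!
# Bender–Glauberman 12.14 (statement S1423), part b

Maximal subgroups over a nonabelian Sylow `p`-subgroup of rank two: `p ∈ σ(H)` and the Frattini
factorisation `H = H_α N_H(P)`.
-/

set_option autoImplicit false
set_option linter.unusedSectionVars false

namespace Cfsg.Agent.Helper89.BG12

open Subgroup Cfsg
open Cfsg.Agent.Helper16 Cfsg.Agent.Helper79.BG10
open scoped commutatorElement Pointwise

variable {G : Type*} [Group G] [Finite G]

/-- coatoms are incomparable -/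
theorem coatom_eq_of_le {L M : Subgroup G} (hL : IsCoatom L) (hM : IsCoatom M) (h : L ≤ M) :
    L = M := by
  rcases hL.le_iff.mp h with h1 | h1
  · exact absurd h1 hM.1
  · exact h1.symm

/-- a noncentral element of a nonabelian subgroup -/
theorem exists_mem_not_mem_centralizer {P₁ : Subgroup G} (hna : ¬ IsMulCommutative P₁) :
    ∃ y ∈ P₁, y ∉ centralizer (P₁ : Set G) := by
  by_contra hcon
  push Not at hcon
  apply hna
  refine ⟨⟨fun a b => ?_⟩⟩
  have := (mem_centralizer_iff.mp (hcon b.1 b.2)) a.1 a.2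
  exact Subtype.ext this

/-- order of `⟨y⟩` for `y ≠ 1`, `y ^ p = 1` -/
theorem card_zpowers_of_pow_prime {p : ℕ} [hp : Fact p.Prime] {y : G} (h1 : y ≠ 1)
    (hy : y ^ p = 1) : Nat.card (zpowers y) = p := by
  rw [Nat.card_zpowers]
  exact orderOf_eq_prime hy h1

/-- facts about a maximal subgroup over a nonabelian rank-2 Sylow subgroup -/
structure Over (p : ℕ) (P H : Subgroup G) : Prop where
  coatom : IsCoatom H
  le : P ≤ H
  syl : IsSylowIn p H P
  sigma : p ∈ Cfsg.sigma H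
  norm_le : normalizer (P : Set G) ≤ H
  normal : H ≤ normalizer ((alphaCore H ⊔ P : Subgroup G) : Set G)
  frat : H ≤ alphaCore H ⊔ (H ⊓ normalizer (P : Set G))
  palpha : p ∉ alpha H

theorem over_of_le (hG : IsMinSimpleOddOrder G) (p : ℕ) [Fact p.Prime] (P : Sylow p G)
    (hr : PRankLE p 2 ↥(P : Subgroup G)) (hna : ¬ IsMulCommutative ↥(P : Subgroup G))
    {H : Subgroup G} (hH : IsCoatom H) (hPH : (P : Subgroup G) ≤ H) :
    Over p (P : Subgroup G) H := by
  have hpp : p.Prime := Fact.out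
  have hU : UniqHyp G := fun K hK h1 h2 => Cfsg.Agent.S1403.result hG K hK h1 h2
  have hPtop : IsSylowIn p ⊤ (P : Subgroup G) := isSylowIn_top_of_sylow P
  have hsyl : IsSylowIn p H (P : Subgroup G) := isSylowIn_of_le hPtop hPH le_top
  obtain ⟨P₁, hP₁P, hcard, hna₁, hexp, -, -⟩ := rank_two_structure hG p P hr hna
  have hrG : PRankLE p 2 G := Cfsg.Agent.Helper24.NarrowSolv.prankLE_of_sylow P hr
  have hrH : PRankLE p 2 ↥H :=
    Cfsg.Agent.Helper55.BGB.prankLE_of_injective H.subtype (Subgroup.subtype_injective H) hrG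
  -- an elementary abelian subgroup of order `p ^ 2`
  obtain ⟨y, hy, hyc⟩ := exists_mem_not_mem_centralizer hna₁
  have hy1 : y ≠ 1 := by
    rintro rfl
    exact hyc (one_mem _)
  have hA₀c : Nat.card (zpowers y) = p := card_zpowers_of_pow_prime hy1 (hexp y hy)
  have hA₀P : zpowers y ≤ P₁ := by rw [zpowers_le]; exact hy
  have hA₀n : ¬ zpowers y ≤ centralizer (P₁ : Set G) := fun h => hyc (h (mem_zpowers y))
  obtain ⟨-, hAe, hAc⟩ :=
    Cfsg.Agent.Helper83.S1423Req.isElementaryAbelian_sup_center P₁ hcard hna₁ (zpowers y) hA₀P hA₀c hA₀n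
  set A : Subgroup G := zpowers y ⊔ (P₁ ⊓ centralizer (P₁ : Set G)) with hA
  have hAP₁ : A ≤ P₁ := sup_le hA₀P inf_le_left
  have hAH : A ≤ H := hAP₁.trans (hP₁P.trans hPH)
  have hnr1 : ¬ PRankLE p 1 ↥H := by
    apply Cfsg.Agent.Helper15.BGU.not_pRankLE_of_le hAH hAe
    rw [hAc]
    exact Nat.pow_lt_pow_right hpp.one_lt (by norm_num)
  -- `p ∈ σ(H)`
  have hσ : p ∈ Cfsg.sigma H := by
    by_contra hσ
    have hτ : p ∈ tau2 H := ⟨hpp, hσ, hrH, hnr1⟩
    obtain ⟨Sₕ, hSₕ⟩ := hsyl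
    have hcomm := ((Cfsg.Agent.S1417.result hG H hH p hτ A ⟨hAH, hAe, hAc⟩).2.1 Sₕ).1
    apply hna
    refine ⟨⟨fun a b => ?_⟩⟩
    have ha : (a : G) ∈ (Sₕ : Subgroup H).map H.subtype := by rw [hSₕ]; exact a.2
    have hb : (b : G) ∈ (Sₕ : Subgroup H).map H.subtype := by rw [hSₕ]; exact b.2
    obtain ⟨a', ha', hae⟩ := ha
    obtain ⟨b', hb', hbe⟩ := hb
    have h1 := hcomm.is_comm.comm ⟨a', ha'⟩ ⟨b', hb'⟩
    have h2 : a' * b' = b' * a' := congrArg Subtype.val h1
    have h3 : (a' : G) * (b' : G) = (b' : G) * (a' : G) := by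
      have := congrArg Subtype.val h2
      simpa using this
    apply Subtype.ext
    show (a : G) * (b : G) = (b : G) * (a : G)
    rw [← hae, ← hbe]
    exact h3
  have hN : normalizer ((P : Subgroup G) : Set G) ≤ H := normalizer_le_of_sigma hσ hsyl
  have hPc : (P : Subgroup G) ≤ ⁅H, H⁆ := sylow_le_commutator hG hU hH hσ hsyl
  obtain ⟨hF1, hF2⟩ := Cfsg.Agent.Helper97.S1423F.frattini_of_nilpotent_commutator_quotient
    H (P : Subgroup G) (piCore (alpha H) ↥H) hsyl hPc (Cfsg.Agent.S1405.result hG H hH).2.2.2.2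
  exact ⟨hH, hPH, hsyl, hσ, hN, hF1, hF2, fun h => h.2 hrH⟩

end Cfsg.Agent.Helper89.BG12
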