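import Mathlib
import Cfsg.Prelude.Def_OddOrderLocal
import Cfsg.Agent.S1416
import Cfsg.Agent.Lib.Helper89.BG1214b
import Cfsg.Agent.Lib.Helper22.RankTwo
import Cfsg.Agent.Lib.Helper19.PRank
import Cfsg.Agent.Lib.Helper15.BGU.Nine5
import Cfsg.Agent.Lib.Helper29.CoprimeHyp
import Cfsg.Agent.Lib.Helper78.BG121
import Cfsg.Agent.Lib.Helper55.BGFit

/-!
# Bender–Glauberman 12.14 (statement S1423), part c

A nonabelian Sylow `p`-subgroup of rank two lies in exactly one maximal subgroup.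
-/

set_option autoImplicit false
set_option linter.unusedSectionVars false

namespace Cfsg.Agent.Helper89.BG12

open Subgroup Cfsg
open Cfsg.Agent.Helper16 Cfsg.Agent.Helper79.BG10
open scoped commutatorElement Pointwise

variable {G : Type*} [Group G] [Finite G]

/-- `|H ⊔ K| = |H| |K|` when `K` normalizes `H` and `H ⊓ K = ⊥` -/
theorem card_sup_eq_mul' (H K : Subgroup G) (hK : K ≤ normalizer (H : Set G)) (h : H ⊓ K = ⊥) :
    Nat.card (H ⊔ K : Subgroup G) = Nat.card H * Nat.card K := by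
  rw [← Nat.card_prod]
  symm
  have hset : ((H ⊔ K : Subgroup G) : Set G) = (H : Set G) * (K : Set G) :=
    coe_mul_of_right_le_normalizer_left H K hK
  let f : H × K → (H ⊔ K : Subgroup G) := fun x =>
    ⟨(x.1 : G) * (x.2 : G), Subgroup.mul_mem_sup x.1.2 x.2.2⟩
  apply Nat.card_congr (Equiv.ofBijective f ⟨?_, ?_⟩)
  · rintro ⟨a, b⟩ ⟨a', b'⟩ hab
    have h0 : (a : G) * (b : G) = (a' : G) * (b' : G) := congrArg Subtype.val hab
    have h1 : (a' : G)⁻¹ * (a : G) = (b' : G) * (b : G)⁻¹ := by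
      calc (a' : G)⁻¹ * (a : G) = (a' : G)⁻¹ * ((a : G) * (b : G)) * (b : G)⁻¹ := by group
        _ = (a' : G)⁻¹ * ((a' : G) * (b' : G)) * (b : G)⁻¹ := by rw [h0]
        _ = (b' : G) * (b : G)⁻¹ := by group
    have h2 : (a' : G)⁻¹ * (a : G) ∈ H ⊓ K :=
      Subgroup.mem_inf.mpr
        ⟨H.mul_mem (H.inv_mem a'.2) a.2, by rw [h1]; exact K.mul_mem b'.2 (K.inv_mem b.2)⟩
    rw [h, mem_bot] at h2
    have h3 : (a : G) = (a' : G) := by
      calc (a : G) = (a' : G) * ((a' : G)⁻¹ * (a : G)) := by group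
        _ = (a' : G) := by rw [h2, mul_one]
    have h4 : (b : G) = (b' : G) := by
      rw [h3] at h0
      exact mul_left_cancel h0
    exact Prod.ext (Subtype.ext h3) (Subtype.ext h4)
  · rintro ⟨u, hu⟩
    have hu' : u ∈ ((H ⊔ K : Subgroup G) : Set G) := hu
    rw [hset] at hu'
    obtain ⟨t, ht, r, hr, hutr⟩ := Set.mem_mul.mp hu'
    exact ⟨(⟨t, ht⟩, ⟨r, hr⟩), Subtype.ext hutr⟩

/-- `α(H₁)` and `α(H₂)` are disjoint for two distinct maximal subgroups over `P`. -/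
theorem alpha_disjoint (hG : IsMinSimpleOddOrder G) {p : ℕ} [Fact p.Prime] {P H₁ H₂ : Subgroup G}
    (o₁ : Over p P H₁) (o₂ : Over p P H₂) (hne : H₁ ≠ H₂) (q : ℕ) (hq : q.Prime)
    (h₁ : q ∈ alpha H₁) (h₂ : q ∈ alpha H₂) : False := by
  have hU : UniqHyp G := fun K hK h1 h2 => Cfsg.Agent.S1403.result hG K hK h1 h2
  have : Fact q.Prime := ⟨hq⟩
  obtain ⟨F₁, hF₁e, hF₁H, hF₁c⟩ := Cfsg.Agent.Helper22.exists_elemAb_of_not_pRankLE h₁.2
  obtain ⟨F₂, hF₂e, hF₂H, hF₂c⟩ := Cfsg.Agent.Helper22.exists_elemAb_of_not_pRankLE h₂.2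
  have hF₁q : IsPGroup q F₁ := isPGroup_of_pow_eq_one F₁ hF₁e.2
  have hF₂q : IsPGroup q F₂ := isPGroup_of_pow_eq_one F₂ hF₂e.2
  obtain ⟨R₁, hF₁R₁, hR₁⟩ := exists_isSylowIn_ge hF₁q (le_top : F₁ ≤ ⊤)
  obtain ⟨R₂, hF₂R₂, hR₂⟩ := exists_isSylowIn_ge hF₂q (le_top : F₂ ≤ ⊤)
  obtain ⟨g, -, hg⟩ := exists_cj_eq_of_isSylowIn hR₁ hR₂
  have hnr₁ : ¬ PRankLE q 2 ↥F₁ := Cfsg.Agent.Helper15.BGU.not_pRankLE_of_le le_rfl hF₁e hF₁c
  have hnr₂ : ¬ PRankLE q 2 ↥F₂ := Cfsg.Agent.Helper15.BGU.not_pRankLE_of_le le_rfl hF₂e hF₂c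
  have hR₂top : R₂ ≠ ⊤ := Cfsg.Agent.Helper15.BGU.ne_top_of_isPGroup_minSimple hG hR₂.isPGroup
  have hn₂ := not_rankLE_of_not_pRankLE hq hnr₂
  have hR₂H₂ : R₂ ≤ H₂ := le_of_rank_three hU o₂.coatom hF₂H hn₂.1 hn₂.2 hR₂top hF₂R₂
  have h3 : cj g F₁ ≤ H₂ := by
    have : cj g F₁ ≤ cj g R₁ := cj_mono g hF₁R₁
    rw [← hg] at this
    exact this.trans hR₂H₂
  have hnr₁' : ¬ PRankLE q 2 ↥(cj g F₁) := by
    intro h
    exact hnr₁ ((Cfsg.Agent.Helper19.prankLE_map_conj_iff g).mp h)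
  have hn₁ := not_rankLE_of_not_pRankLE hq hnr₁'
  have hco : IsCoatom (cj g H₁) := Cfsg.Agent.Helper64.isCoatom_map_conj H₁ g o₁.coatom
  have h4 : H₂ ≤ cj g H₁ :=
    le_of_rank_three hU hco (cj_mono g hF₁H) hn₁.1 hn₁.2 o₂.coatom.1 h3
  have h5 : cj g H₁ = H₂ := (coatom_eq_of_le o₂.coatom hco h4).symm
  have h6 : IsSylowIn p H₂ (cj g P) := by
    have := isSylowIn_cj o₁.syl g
    rwa [h5] at this
  obtain ⟨m, hm, hmP⟩ := exists_cj_eq_of_isSylowIn h6 o₂.syl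
  have h7 : m * g ∈ normalizer (P : Set G) := by
    apply mem_normalizer_of_cj_eq
    rw [cj_mul]; exact hmP.symm
  have h8 : g ∈ H₂ := (H₂.mul_mem_cancel_left hm).mp (o₂.norm_le h7)
  have h9 : H₁ = H₂ := by
    have e : cj g⁻¹ (cj g H₁) = cj g⁻¹ H₂ := by rw [h5]
    rw [cj_inv_cj, cj_eq_self_of_mem (inv_mem h8)] at e
    exact e
  exact hne h9

end Cfsg.Agent.Helper89.BG12
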