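import Mathlib
import Cfsg.Prelude.Def_OddOrderLocal
import Cfsg.Agent.Lib.Helper89.BG1214c

/-!
# Bender–Glauberman 12.14 (statement S1423), part d

The key contradiction: two distinct maximal subgroups over a nonabelian rank-2 Sylow subgroup.
-/

set_option autoImplicit false
set_option linter.unusedSectionVars false

namespace Cfsg.Agent.Helper89.BG12

open Subgroup Cfsg
open Cfsg.Agent.Helper16 Cfsg.Agent.Helper79.BG10
open scoped commutatorElement Pointwise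

variable {G : Type*} [Group G] [Finite G]

/-- `H_α ≠ 1` for two distinct maximal subgroups over `P` -/
theorem alphaCore_ne_bot {p : ℕ} {P H₁ H₂ : Subgroup G}
    (o₁ : Over p P H₁) (o₂ : Over p P H₂) (hne : H₁ ≠ H₂) : alphaCore H₂ ≠ ⊥ := by
  intro h
  have h1 : H₂ ≤ H₁ := by
    calc H₂ ≤ alphaCore H₂ ⊔ (H₂ ⊓ normalizer (P : Set G)) := o₂.frat
      _ = H₂ ⊓ normalizer (P : Set G) := by rw [h, bot_sup_eq]
      _ ≤ normalizer (P : Set G) := inf_le_right
      _ ≤ H₁ := o₁.norm_le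
  exact hne (coatom_eq_of_le o₂.coatom o₁.coatom h1).symm

theorem key_false (hG : IsMinSimpleOddOrder G) {p : ℕ} [Fact p.Prime] {P P₁ H₁ H₂ : Subgroup G}
    (hPp : IsPGroup p P) (hP₁P : P₁ ≤ P) (hexp : ∀ a ∈ P₁, a ^ p = 1)
    (hna₁ : ¬ IsMulCommutative P₁) (hcard : Nat.card P₁ = p ^ 3)
    (hder : ⁅P, P⁆ ≤ P₁ ⊓ centralizer (P₁ : Set G))
    (o₁ : Over p P H₁) (o₂ : Over p P H₂) (hne : H₁ ≠ H₂)
    (hy : ∀ y ∈ P₁, y ∉ centralizer (P₁ : Set G) → centralizer ({y} : Set G) ≤ H₁) : False := by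
  have hpp : p.Prime := Fact.out
  have hU : UniqHyp G := fun K hK h1 h2 => Cfsg.Agent.S1403.result hG K hK h1 h2
  obtain ⟨hα₂, -, -, -, -⟩ := Cfsg.Agent.S1405.result hG H₂ o₂.coatom
  obtain ⟨hα₁, -, -, -, -⟩ := Cfsg.Agent.S1405.result hG H₁ o₁.coatom
  have hNH₂ : alphaCore H₂ ≤ H₂ := hα₂.1
  have hH₂N : H₂ ≤ normalizer ((alphaCore H₂ : Subgroup G) : Set G) :=
    Cfsg.Agent.Helper55.BGB.le_normalizer_map_subtype H₂ _
  have hH₁N' : H₁ ≤ normalizer ((alphaCore H₁ : Subgroup G) : Set G) :=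
    Cfsg.Agent.Helper55.BGB.le_normalizer_map_subtype H₁ _
  have hN1 : alphaCore H₂ ≠ ⊥ := alphaCore_ne_bot o₁ o₂ hne
  have hZP₁ : P₁ ⊓ centralizer (P₁ : Set G) ≤ P₁ := inf_le_left
  have hZP : P₁ ⊓ centralizer (P₁ : Set G) ≤ P := hZP₁.trans hP₁P
  -- coprimality
  have hcopNN' : (Nat.card (alphaCore H₂)).Coprime (Nat.card (alphaCore H₁)) := by
    apply Nat.coprime_of_dvd
    intro q hq hqN hqN'
    exact alpha_disjoint hG o₁ o₂ hne q hq (hα₁.2.1 q hq hqN') (hα₂.2.1 q hq hqN)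
  have hcopNp : (Nat.card (alphaCore H₂)).Coprime p := by
    rw [Nat.coprime_comm, Nat.Prime.coprime_iff_not_dvd hpp]
    intro hpN
    exact o₂.palpha (hα₂.2.1 p hpp hpN)
  have hcopN'p : (Nat.card (alphaCore H₁)).Coprime p := by
    rw [Nat.coprime_comm, Nat.Prime.coprime_iff_not_dvd hpp]
    intro hpN
    exact o₁.palpha (hα₁.2.1 p hpp hpN)
  obtain ⟨k, hk⟩ := IsPGroup.iff_card.mp hPp
  -- `H₁ ∩ (H₂)_α` centralizes `P`
  have hT : alphaCore H₂ ⊓ H₁ ≤ centralizer (P : Set G) := by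
    have hN'P : alphaCore H₁ ⊓ P = ⊥ := by
      apply (Subgroup.disjoint_of_coprime_natCard _).eq_bot
      rw [hk]; exact Nat.Coprime.pow_right k hcopN'p
    have hcardsup : Nat.card (alphaCore H₁ ⊔ P : Subgroup G)
        = Nat.card (alphaCore H₁) * Nat.card P :=
      card_sup_eq_mul' _ _ (o₁.le.trans hH₁N') hN'P
    have hcop : (Nat.card (alphaCore H₂)).Coprime (Nat.card (alphaCore H₁ ⊔ P : Subgroup G)) := by
      rw [hcardsup, hk]
      exact Nat.Coprime.mul_right hcopNN' (Nat.Coprime.pow_right k hcopNp)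
    have hbot : alphaCore H₂ ⊓ (alphaCore H₁ ⊔ P) = ⊥ :=
      (Subgroup.disjoint_of_coprime_natCard hcop).eq_bot
    intro t ht
    obtain ⟨htN, htH⟩ := Subgroup.mem_inf.mp ht
    rw [mem_centralizer_iff]
    intro s hs
    have h1 : ⁅t, s⁆ ∈ alphaCore H₂ := by
      rw [commutatorElement_def]
      have hsN : s ∈ normalizer ((alphaCore H₂ : Subgroup G) : Set G) := hH₂N (o₂.le hs)
      have h2 : s * t⁻¹ * s⁻¹ ∈ alphaCore H₂ := (mem_normalizer_iff.mp hsN t⁻¹).mp (inv_mem htN)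
      have e : t * s * t⁻¹ * s⁻¹ = t * (s * t⁻¹ * s⁻¹) := by group
      rw [e]; exact mul_mem htN h2
    have hsS : s ∈ alphaCore H₁ ⊔ P := (le_sup_right : P ≤ alphaCore H₁ ⊔ P) hs
    have h2 : ⁅t, s⁆ ∈ alphaCore H₁ ⊔ P := by
      rw [commutatorElement_def]
      have htn : t ∈ normalizer ((alphaCore H₁ ⊔ P : Subgroup G) : Set G) := o₁.normal htH
      have h3 : t * s * t⁻¹ ∈ alphaCore H₁ ⊔ P := (mem_normalizer_iff.mp htn s).mp hsS
      exact mul_mem h3 (inv_mem hsS)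
    have h3 : ⁅t, s⁆ = 1 := by
      have h4 := Subgroup.mem_inf.mpr ⟨h1, h2⟩
      rw [hbot, mem_bot] at h4
      exact h4
    exact (commutatorElement_eq_one_iff_mul_comm.mp h3).symm
  -- `Z` centralizes `(H₂)_α`
  have hP₁N : P₁ ≤ normalizer ((alphaCore H₂ : Subgroup G) : Set G) :=
    (hP₁P.trans o₂.le).trans hH₂N
  have hNZ : alphaCore H₂ ≤ centralizer ((P₁ ⊓ centralizer (P₁ : Set G) : Subgroup G) : Set G) := by
    obtain ⟨y, hy₁, hyc⟩ := exists_mem_not_mem_centralizer hna₁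
    have hy1 : y ≠ 1 := by
      rintro rfl
      exact hyc (one_mem _)
    have hA₀c : Nat.card (zpowers y) = p := card_zpowers_of_pow_prime hy1 (hexp y hy₁)
    have hA₀P : zpowers y ≤ P₁ := by rw [zpowers_le]; exact hy₁
    have hA₀n : ¬ zpowers y ≤ centralizer (P₁ : Set G) := fun h => hyc (h (mem_zpowers y))
    obtain ⟨hZcard, hAe, hAc⟩ := Cfsg.Agent.Helper83.S1423Req.isElementaryAbelian_sup_center
      P₁ hcard hna₁ (zpowers y) hA₀P hA₀c hA₀n
    set A : Subgroup G := zpowers y ⊔ (P₁ ⊓ centralizer (P₁ : Set G)) with hA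
    have hAP₁ : A ≤ P₁ := sup_le hA₀P inf_le_left
    have hA1 : A ≠ ⊥ := by
      intro h
      rw [h, Subgroup.card_bot] at hAc
      have := Nat.one_lt_pow (n := 2) (by norm_num) hpp.one_lt
      omega
    have hZltA : P₁ ⊓ centralizer (P₁ : Set G) < A := by
      refine lt_of_le_of_ne le_sup_right ?_
      intro h
      have h1 : Nat.card ↥(P₁ ⊓ centralizer (P₁ : Set G)) = Nat.card A := by rw [← h]
      rw [hZcard, hAc] at h1
      have := Nat.one_lt_pow (n := 1) (by norm_num) hpp.one_lt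
      have h2 : p ^ 2 = p * p := by ring
      have h3 : 1 < p := hpp.one_lt
      nlinarith
    have hgen := Cfsg.Agent.Helper29.le_iSup_covBy A (alphaCore H₂)
      (fun a ha b hb => by
        have := hAe.1.is_comm.comm ⟨a, ha⟩ ⟨b, hb⟩
        exact congrArg Subtype.val this)
      hAe.2 hA1 (hAP₁.trans hP₁N) hcopNp
    refine hgen.trans (iSup_le ?_)
    rintro ⟨B, hB⟩
    by_cases hBZ : B ≤ P₁ ⊓ centralizer (P₁ : Set G)
    · have hBeq : B = P₁ ⊓ centralizer (P₁ : Set G) := by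
        rcases eq_or_lt_of_le hBZ with h | h
        · exact h
        · exact absurd hZltA (hB.2 h)
      show alphaCore H₂ ⊓ centralizer (B : Set G) ≤ _
      rw [hBeq]
      exact inf_le_right
    · obtain ⟨b, hbB, hbZ⟩ := SetLike.not_le_iff_exists.mp hBZ
      have hbP₁ : b ∈ P₁ := hAP₁ (hB.1.le hbB)
      have hbc : b ∉ centralizer (P₁ : Set G) := fun h => hbZ (Subgroup.mem_inf.mpr ⟨hbP₁, h⟩)
      show alphaCore H₂ ⊓ centralizer (B : Set G) ≤ _
      calc alphaCore H₂ ⊓ centralizer (B : Set G)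
          ≤ alphaCore H₂ ⊓ centralizer ({b} : Set G) :=
            inf_le_inf_left _ (Subgroup.centralizer_le (Set.singleton_subset_iff.mpr hbB))
        _ ≤ alphaCore H₂ ⊓ H₁ := inf_le_inf_left _ (hy b hbP₁ hbc)
        _ ≤ centralizer (P : Set G) := hT
        _ ≤ centralizer ((P₁ ⊓ centralizer (P₁ : Set G) : Subgroup G) : Set G) :=
            Subgroup.centralizer_le (SetLike.coe_subset_coe.mpr hZP)
  -- quotient generation: `(H₂)_α ≤ H₁`
  have hNH₁ : alphaCore H₂ ≤ H₁ := by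
    apply Cfsg.Agent.Helper97.S1423Q.le_of_class_two_action P₁ (alphaCore H₂) H₁ hexp hna₁ ?_ hP₁N
      (Subgroup.le_centralizer_iff.mp hNZ) hcopNp (hZP.trans o₁.le)
      (fun y hy₁ hyc => inf_le_right.trans (hy y hy₁ hyc))
    intro a ha b hb
    have h1 : ⁅a, b⁆ ∈ ⁅P, P⁆ := Subgroup.commutator_mem_commutator (hP₁P ha) (hP₁P hb)
    exact (Subgroup.mem_inf.mp (hder h1)).2
  -- a subgroup of rank `≥ 3` of `H₂` inside `H₁`
  have hcardN : Nat.card (alphaCore H₂) ≠ 1 := fun h => hN1 (Subgroup.eq_bot_of_card_eq _ h)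
  obtain ⟨q, hq, hqN⟩ := Nat.exists_prime_and_dvd hcardN
  have hqα : q ∈ alpha H₂ := hα₂.2.1 q hq hqN
  have : Fact q.Prime := ⟨hq⟩
  obtain ⟨F, hFe, hFH, hFc⟩ := Cfsg.Agent.Helper22.exists_elemAb_of_not_pRankLE hqα.2
  have hFq : IsPGroup q F := isPGroup_of_pow_eq_one F hFe.2
  obtain ⟨j, hj⟩ := IsPGroup.iff_card.mp hFq
  have hFN : F ≤ alphaCore H₂ := by
    apply Cfsg.Agent.Helper78.BG121.le_of_coprime_relIndex hNH₂ hFH hH₂N
    rw [hj]
    exact Nat.Coprime.pow_left j ((Nat.Prime.coprime_iff_not_dvd hq).mpr (hα₂.2.2 q hq hqα))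
  have hnr : ¬ PRankLE q 2 ↥F := Cfsg.Agent.Helper15.BGU.not_pRankLE_of_le le_rfl hFe hFc
  have h12 := not_rankLE_of_not_pRankLE hq hnr
  have hle : H₁ ≤ H₂ :=
    le_of_rank_three hU o₂.coatom hFH h12.1 h12.2 o₁.coatom.1 (hFN.trans hNH₁)
  exact hne (coatom_eq_of_le o₁.coatom o₂.coatom hle)

end Cfsg.Agent.Helper89.BG12
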