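import Mathlib
import Cfsg.Prelude.Def_OddOrderLocal
import Cfsg.Agent.Lib.Helper89.BG1214d

/-!
# Bender–Glauberman 12.14 (statement S1423), part e

A nonabelian Sylow `p`-subgroup of rank two lies in exactly one maximal subgroup (assembly).
-/

set_option autoImplicit false
set_option linter.unusedSectionVars false

namespace Cfsg.Agent.Helper89.BG12

open Subgroup Cfsg
open Cfsg.Agent.Helper16 Cfsg.Agent.Helper79.BG10
open scoped commutatorElement Pointwise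

variable {G : Type*} [Group G] [Finite G]

/-- `M` is the unique maximal subgroup containing `N_G(A₀)`. -/
def Good (H A₀ : Subgroup G) : Prop :=
  normalizer (A₀ : Set G) ≤ H ∧ ∀ L : Subgroup G, IsCoatom L → normalizer (A₀ : Set G) ≤ L → L = H

theorem Good.eq {H₁ H₂ A₀ : Subgroup G} (hH₂ : IsCoatom H₂) (h₁ : Good H₁ A₀) (h₂ : Good H₂ A₀) :
    H₁ = H₂ := (h₁.2 H₂ hH₂ h₂.1).symm

theorem Good.conj {H A₀ : Subgroup G} (h : Good H A₀) {u : G} (hu : u ∈ H) :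
    Good H (cj u A₀) := by
  constructor
  · rw [normalizer_cj]
    have := cj_mono u h.1
    rwa [cj_eq_self_of_mem hu] at this
  · intro L hL hNL
    rw [normalizer_cj, cj_le_iff] at hNL
    have hco : IsCoatom (cj u⁻¹ L) := Cfsg.Agent.Helper64.isCoatom_map_conj L u⁻¹ hL
    have h1 := h.2 _ hco hNL
    have h2 : cj u (cj u⁻¹ L) = cj u H := by rw [h1]
    rw [cj_cj_inv, cj_eq_self_of_mem hu] at h2
    exact h2

theorem exists_good (hG : IsMinSimpleOddOrder G) {H : Subgroup G} (hH : IsCoatom H)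
    (hα : alphaCore H ≠ ⊥) (p : ℕ) [Fact p.Prime] (A : Subgroup G)
    (hA : A ≤ H ∧ IsElementaryAbelian p A ∧ Nat.card A = p ^ 2) :
    ∃ A₀ : Subgroup G, A₀ ≤ A ∧ Nat.card A₀ = p ∧ Good H A₀ := by
  by_contra hcon
  push Not at hcon
  exact hα ((Cfsg.Agent.S1416.result hG H hH p A hA).2
    (fun A₀ h1 h2 h3 => hcon A₀ h1 h2 h3)).2.1

/-- centralizer of an element normalizes the cyclic group it generates -/
theorem centralizer_singleton_le_normalizer_zpowers (y : G) :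
    centralizer ({y} : Set G) ≤ normalizer ((zpowers y : Subgroup G) : Set G) := by
  intro c hc
  have hcy : y * c = c * y := (mem_centralizer_iff.mp hc) y (Set.mem_singleton y)
  have hle : zpowers y ≤ centralizer ({c} : Set G) := by
    rw [zpowers_le, mem_centralizer_iff]
    intro d hd
    rw [Set.mem_singleton_iff] at hd
    subst hd
    exact hcy.symm
  have hc' : c ∈ centralizer ((zpowers y : Subgroup G) : Set G) := by
    rw [mem_centralizer_iff]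
    intro x hx
    have := (mem_centralizer_iff.mp (hle hx)) c (Set.mem_singleton c)
    exact this.symm
  exact centralizer_le_normalizer _ hc'

/-- In a nonabelian group `P₁` of order `p ^ 3`: a subgroup `A₀ ≤ ⟨y⟩ Z` of order `p` which is
noncentral is `P₁`-conjugate to `⟨y⟩` (and conversely). -/
theorem good_of_good_of_le_sup {p : ℕ} [Fact p.Prime] {P₁ H : Subgroup G}
    (hcard : Nat.card P₁ = p ^ 3) (hna₁ : ¬ IsMulCommutative P₁) (hP₁H : P₁ ≤ H)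
    {A₀ A₀' : Subgroup G} (h₀ : A₀ ≤ P₁) (h₀' : A₀' ≤ P₁) (hc : Nat.card A₀ = p)
    (hc' : Nat.card A₀' = p) (hn' : ¬ A₀' ≤ centralizer (P₁ : Set G))
    (hsup : A₀' ≤ A₀ ⊔ (P₁ ⊓ centralizer (P₁ : Set G))) (hgood : Good H A₀) : Good H A₀' := by
  obtain ⟨u, hu, hAu⟩ := Cfsg.Agent.Helper83.S1423Req.exists_conj_of_le_sup_center P₁ hcard hna₁
    A₀ A₀' h₀ h₀' hc hc' hn' hsup
  rw [hAu]
  exact hgood.conj (hP₁H hu)

/-- two subgroups of order `p ^ 2` with one inside the other are equal -/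
theorem eq_of_le_of_card_eq {A B : Subgroup G} (h : A ≤ B) (hc : Nat.card A = Nat.card B) :
    A = B := Subgroup.eq_of_le_of_card_ge h hc.ge

/-- if `N_G(Z)` lies only in `H₂`, contradiction -/
theorem false_of_good_center (hG : IsMinSimpleOddOrder G) {p : ℕ} [Fact p.Prime]
    {P P₁ H₁ H₂ : Subgroup G}
    (hPp : IsPGroup p P) (hP₁P : P₁ ≤ P) (hexp : ∀ a ∈ P₁, a ^ p = 1)
    (hna₁ : ¬ IsMulCommutative P₁) (hcard : Nat.card P₁ = p ^ 3)
    (hder : ⁅P, P⁆ ≤ P₁ ⊓ centralizer (P₁ : Set G))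
    (o₁ : Over p P H₁) (o₂ : Over p P H₂) (hne : H₁ ≠ H₂)
    (hZ : Good H₂ (P₁ ⊓ centralizer (P₁ : Set G))) : False := by
  apply key_false hG hPp hP₁P hexp hna₁ hcard hder o₁ o₂ hne
  intro y hy₁ hyc
  have hy1 : y ≠ 1 := by
    rintro rfl
    exact hyc (one_mem _)
  have hA₀c : Nat.card (zpowers y) = p := card_zpowers_of_pow_prime hy1 (hexp y hy₁)
  have hA₀P : zpowers y ≤ P₁ := by rw [zpowers_le]; exact hy₁
  have hA₀n : ¬ zpowers y ≤ centralizer (P₁ : Set G) := fun h => hyc (h (mem_zpowers y))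
  obtain ⟨hZcard, hAe, hAc⟩ := Cfsg.Agent.Helper83.S1423Req.isElementaryAbelian_sup_center
    P₁ hcard hna₁ (zpowers y) hA₀P hA₀c hA₀n
  have hAP₁ : zpowers y ⊔ (P₁ ⊓ centralizer (P₁ : Set G)) ≤ P₁ := sup_le hA₀P inf_le_left
  have hP₁H₁ : P₁ ≤ H₁ := hP₁P.trans o₁.le
  have hα₁ : alphaCore H₁ ≠ ⊥ := alphaCore_ne_bot o₂ o₁ (Ne.symm hne)
  obtain ⟨B₀, hB₀A, hB₀c, hB₀g⟩ := exists_good hG o₁.coatom hα₁ p _ ⟨hAP₁.trans hP₁H₁, hAe, hAc⟩
  have hB₀P₁ : B₀ ≤ P₁ := hB₀A.trans hAP₁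
  have hB₀n : ¬ B₀ ≤ centralizer (P₁ : Set G) := by
    intro h
    have hB₀Z : B₀ ≤ P₁ ⊓ centralizer (P₁ : Set G) := le_inf hB₀P₁ h
    have hBZ : B₀ = P₁ ⊓ centralizer (P₁ : Set G) :=
      eq_of_le_of_card_eq hB₀Z (hB₀c.trans hZcard.symm)
    rw [hBZ] at hB₀g
    exact hne (hB₀g.eq o₂.coatom hZ)
  obtain ⟨-, -, hBc⟩ := Cfsg.Agent.Helper83.S1423Req.isElementaryAbelian_sup_center
    P₁ hcard hna₁ B₀ hB₀P₁ hB₀c hB₀n
  have hBA : B₀ ⊔ (P₁ ⊓ centralizer (P₁ : Set G))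
      = zpowers y ⊔ (P₁ ⊓ centralizer (P₁ : Set G)) :=
    eq_of_le_of_card_eq (sup_le hB₀A le_sup_right) (hBc.trans hAc.symm)
  have hgy : Good H₁ (zpowers y) :=
    good_of_good_of_le_sup hcard hna₁ hP₁H₁ hB₀P₁ hA₀P hB₀c hA₀c hA₀n
      (hBA ▸ le_sup_left) hB₀g
  exact (centralizer_singleton_le_normalizer_zpowers y).trans hgy.1

/-- **A nonabelian Sylow `p`-subgroup of rank at most two lies in a unique maximal subgroup.** -/
theorem coatoms_eq_of_nonabelian_rank_two (hG : IsMinSimpleOddOrder G) (p : ℕ) [Fact p.Prime]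
    (P : Sylow p G) (hr : PRankLE p 2 ↥(P : Subgroup G))
    (hna : ¬ IsMulCommutative ↥(P : Subgroup G)) {H₁ H₂ : Subgroup G} (hH₁ : IsCoatom H₁)
    (hH₂ : IsCoatom H₂) (h₁ : (P : Subgroup G) ≤ H₁) (h₂ : (P : Subgroup G) ≤ H₂) : H₁ = H₂ := by
  by_contra hne
  have o₁ := over_of_le hG p P hr hna hH₁ h₁
  have o₂ := over_of_le hG p P hr hna hH₂ h₂
  obtain ⟨P₁, hP₁P, hcard, hna₁, hexp, hder, -⟩ := rank_two_structure hG p P hr hna
  have hPp : IsPGroup p (P : Subgroup G) := P.isPGroup'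
  obtain ⟨y, hy₁, hyc⟩ := exists_mem_not_mem_centralizer hna₁
  have hy1 : y ≠ 1 := by
    rintro rfl
    exact hyc (one_mem _)
  have hA₀c : Nat.card (zpowers y) = p := card_zpowers_of_pow_prime hy1 (hexp y hy₁)
  have hA₀P : zpowers y ≤ P₁ := by rw [zpowers_le]; exact hy₁
  have hA₀n : ¬ zpowers y ≤ centralizer (P₁ : Set G) := fun h => hyc (h (mem_zpowers y))
  obtain ⟨hZcard, hAe, hAc⟩ := Cfsg.Agent.Helper83.S1423Req.isElementaryAbelian_sup_center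
    P₁ hcard hna₁ (zpowers y) hA₀P hA₀c hA₀n
  have hAP₁ : zpowers y ⊔ (P₁ ⊓ centralizer (P₁ : Set G)) ≤ P₁ := sup_le hA₀P inf_le_left
  have hP₁H₁ : P₁ ≤ H₁ := hP₁P.trans h₁
  have hP₁H₂ : P₁ ≤ H₂ := hP₁P.trans h₂
  have hα₁ : alphaCore H₁ ≠ ⊥ := alphaCore_ne_bot o₂ o₁ (Ne.symm hne)
  have hα₂ : alphaCore H₂ ≠ ⊥ := alphaCore_ne_bot o₁ o₂ hne
  obtain ⟨A₁, hA₁A, hA₁c, hA₁g⟩ := exists_good hG hH₁ hα₁ p _ ⟨hAP₁.trans hP₁H₁, hAe, hAc⟩
  obtain ⟨A₂, hA₂A, hA₂c, hA₂g⟩ := exists_good hG hH₂ hα₂ p _ ⟨hAP₁.trans hP₁H₂, hAe, hAc⟩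
  have hA₁P₁ : A₁ ≤ P₁ := hA₁A.trans hAP₁
  have hA₂P₁ : A₂ ≤ P₁ := hA₂A.trans hAP₁
  by_cases hc₂ : A₂ ≤ centralizer (P₁ : Set G)
  · have hA₂Z : A₂ = P₁ ⊓ centralizer (P₁ : Set G) :=
      eq_of_le_of_card_eq (le_inf hA₂P₁ hc₂) (hA₂c.trans hZcard.symm)
    rw [hA₂Z] at hA₂g
    exact false_of_good_center hG hPp hP₁P hexp hna₁ hcard hder o₁ o₂ hne hA₂g
  by_cases hc₁ : A₁ ≤ centralizer (P₁ : Set G)
  · have hA₁Z : A₁ = P₁ ⊓ centralizer (P₁ : Set G) :=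
      eq_of_le_of_card_eq (le_inf hA₁P₁ hc₁) (hA₁c.trans hZcard.symm)
    rw [hA₁Z] at hA₁g
    exact false_of_good_center hG hPp hP₁P hexp hna₁ hcard hder o₂ o₁ (Ne.symm hne) hA₁g
  obtain ⟨-, -, hBc⟩ := Cfsg.Agent.Helper83.S1423Req.isElementaryAbelian_sup_center
    P₁ hcard hna₁ A₁ hA₁P₁ hA₁c hc₁
  have hBA : A₁ ⊔ (P₁ ⊓ centralizer (P₁ : Set G))
      = zpowers y ⊔ (P₁ ⊓ centralizer (P₁ : Set G)) :=
    eq_of_le_of_card_eq (sup_le hA₁A le_sup_right) (hBc.trans hAc.symm)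
  have hg : Good H₁ A₂ :=
    good_of_good_of_le_sup hcard hna₁ hP₁H₁ hA₁P₁ hA₂P₁ hA₁c hA₂c hc₂ (hBA ▸ hA₂A) hA₁g
  exact hne (hg.eq hH₂ hA₂g)

end Cfsg.Agent.Helper89.BG12
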