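import Mathlib
import Cfsg.Prelude.Def_OddOrderLocal
import Cfsg.Agent.S1350
import Cfsg.Agent.S1414
import Cfsg.Agent.Lib.Helper89.BG1214e
import Cfsg.Agent.Lib.Helper64.S1423A1
import Cfsg.Agent.Lib.Helper83.S1423N
import Cfsg.Agent.Lib.Helper75.S1423A2
import Cfsg.Agent.Lib.Helper34.BG10h

/-!
# Bender–Glauberman 12.14 (statement S1423), part f: the assembly
-/

set_option autoImplicit false
set_option linter.unusedSectionVars false

namespace Cfsg.Agent.Helper89.BG12

open Subgroup Cfsg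
open Cfsg.Agent.Helper16 Cfsg.Agent.Helper79.BG10
open scoped commutatorElement Pointwise

variable {G : Type*} [Group G] [Finite G]

/-- a Sylow subgroup of `K` is a Sylow subgroup of `L ≥ K` if `p ∤ |L : K|` -/
theorem isSylowIn_of_not_dvd_relIndex_of_le {p : ℕ} [hp : Fact p.Prime] {K L T : Subgroup G}
    (hT : IsSylowIn p K T) (hKL : K ≤ L) (h : ¬ p ∣ K.relIndex L) : IsSylowIn p L T := by
  apply isSylowIn_of_not_dvd_relIndex hT.isPGroup (hT.le.trans hKL)
  rw [← Subgroup.relIndex_mul_relIndex T K L hT.le hKL]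
  intro hd
  rcases (Nat.Prime.dvd_mul hp.out).mp hd with h1 | h1
  · exact not_dvd_relIndex_of_isSylowIn hT h1
  · exact h h1

/-- the conclusion of S1423 for a Sylow `p`-subgroup `S₁` of `M` containing `X`. -/
theorem main_of_sylow (hG : IsMinSimpleOddOrder G) (M : Subgroup G) (hM : IsCoatom M) (p : ℕ)
    [Fact p.Prime] (hp : p ∈ Cfsg.sigma M) (X : Subgroup G) (hX : Nat.card X = p)
    (h : p ∈ Cfsg.beta M ∨ X ≤ ⁅Cfsg.sigmaCore M, Cfsg.sigmaCore M⁆)
    (S₁ : Subgroup G) (hS₁ : IsSylowIn p M S₁) (hXS₁ : X ≤ S₁) :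
    (centralizer (X : Set G) ≤ M ∧
      ∀ L : Subgroup G, IsCoatom L → centralizer (X : Set G) ≤ L → L = M) ∧
      ∀ L : Subgroup G, IsCoatom L → S₁ ≤ L → L = M := by
  classical
  have hpp : p.Prime := Fact.out
  have hU : UniqHyp G := fun K hK h1 h2 => Cfsg.Agent.S1403.result hG K hK h1 h2
  obtain ⟨hHall, -, -⟩ := Cfsg.Agent.S1350.result hG M hM
  obtain ⟨hXp, hX1⟩ := isPGroup_and_ne_bot_of_card_eq_prime hX
  have hS₁M : S₁ ≤ M := hS₁.le
  have hS₁p : IsPGroup p S₁ := hS₁.isPGroup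
  have hS₁σ : S₁ ≤ sigmaCore M :=
    Cfsg.Agent.Helper55.BGB.le_sigmaCore_of_isPGroup hpp hHall hp hS₁M hS₁p
  have hS₁σsyl : IsSylowIn p (sigmaCore M) S₁ :=
    isSylowIn_of_le hS₁ hS₁σ (Cfsg.Agent.Helper55.BGB.sigmaCore_le M)
  have hS₁top : IsSylowIn p ⊤ S₁ := isSylowIn_top_of_sigma hp hS₁
  obtain ⟨P₀, hP₀⟩ := exists_sylow_of_isSylowIn_top hS₁top
  have hXtop : X ≠ ⊤ := fun h => hM.1 (top_le_iff.mp (h ▸ hXS₁.trans hS₁M))
  have hCtop : centralizer (X : Set G) ≠ ⊤ := by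
    intro h
    have h1 : normalizer (X : Set G) = ⊤ :=
      top_le_iff.mp (h ▸ centralizer_le_normalizer (X : Set G))
    exact Cfsg.Agent.Helper34.BG.normalizer_ne_top hG hX1 hXtop h1
  have hpM : p ∣ Nat.card M := hp.2.1
  have hp2 : p ≠ 2 := by
    rintro rfl
    have h1 : 2 ∣ Nat.card G := hpM.trans (Subgroup.card_subgroup_dvd_card M)
    have h2 : ¬ 2 ∣ Nat.card G := Nat.odd_iff.mp hG.1 |> fun h => by omega
    exact h2 h1
  -- `X ≤ [S₁, S₁]` when `p ∉ β(M)`
  have hXder : p ∉ Cfsg.beta M → X ≤ ⁅S₁, S₁⁆ := by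
    intro hβ
    have hXσ' : X ≤ ⁅sigmaCore M, sigmaCore M⁆ := h.resolve_left hβ
    have hnpc : HasNormalPComplement p ↥(sigmaCore M) :=
      ((Cfsg.Agent.S1414.result hG M hM).2.2.2.2 p hpp hpM hβ).2.1
    exact (le_inf hXS₁ hXσ').trans
      (Cfsg.Agent.Helper83.S1423Req.sylow_inf_commutator_le_of_hasNormalPComplement
        (sigmaCore M) S₁ hnpc hS₁σsyl)
  -- common end of the argument: a subgroup `B ≤ M ∩ C_G(X)` of rank `≥ 3`
  have finish : ∀ B : Subgroup G, B ≤ S₁ → IsElementaryAbelian p B → p ^ 3 ≤ Nat.card B → X ≤ B →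
      (centralizer (X : Set G) ≤ M ∧
        ∀ L : Subgroup G, IsCoatom L → centralizer (X : Set G) ≤ L → L = M) := by
    intro B hBS hBe hBc hXB
    have hBC : B ≤ centralizer (X : Set G) := by
      intro b hb
      rw [mem_centralizer_iff]
      intro x hx
      have := hBe.1.is_comm.comm ⟨x, hXB hx⟩ ⟨b, hb⟩
      exact congrArg Subtype.val this
    have hlt : p ^ 2 < Nat.card B :=
      lt_of_lt_of_le (Nat.pow_lt_pow_right hpp.one_lt (by norm_num)) hBc
    have hnr : ¬ PRankLE p 2 ↥B := Cfsg.Agent.Helper15.BGU.not_pRankLE_of_le le_rfl hBe hlt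
    have h12 := not_rankLE_of_not_pRankLE hpp hnr
    have hBM : B ≤ M := hBS.trans hS₁M
    refine ⟨le_of_rank_three hU hM hBM h12.1 h12.2 hCtop hBC, fun L hL hCL => ?_⟩
    exact coatom_eq_of_le hL hM (le_of_rank_three hU hM hBM h12.1 h12.2 hL.1 (hBC.trans hCL))
  by_cases hr : PRankLE p 2 ↥S₁
  · -- rank at most two
    have hrG : PRankLE p 2 G := by
      apply Cfsg.Agent.Helper24.NarrowSolv.prankLE_of_sylow P₀
      rw [hP₀]; exact hr
    have hrM : PRankLE p 2 ↥M :=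
      Cfsg.Agent.Helper55.BGB.prankLE_of_injective M.subtype (Subgroup.subtype_injective M) hrG
    have hβ : p ∉ Cfsg.beta M := fun hb => hb.1.2 hrM
    have hXd : X ≤ ⁅S₁, S₁⁆ := hXder hβ
    have hna : ¬ IsMulCommutative ↥S₁ := by
      intro hc
      have hbot : ⁅S₁, S₁⁆ = ⊥ := by
        rw [Subgroup.commutator_eq_bot_iff_le_centralizer]
        intro a ha
        rw [mem_centralizer_iff]
        intro b hb
        have := hc.is_comm.comm ⟨b, hb⟩ ⟨a, ha⟩
        exact congrArg Subtype.val this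
      rw [hbot] at hXd
      exact hX1 (le_bot_iff.mp hXd)
    have hr' : PRankLE p 2 ↥(P₀ : Subgroup G) := by rw [hP₀]; exact hr
    have hna' : ¬ IsMulCommutative ↥(P₀ : Subgroup G) := by rw [hP₀]; exact hna
    obtain ⟨P₁, -, -, -, -, hder, hZc⟩ := rank_two_structure hG p P₀ hr' hna'
    rw [hP₀] at hder hZc
    have hS₁C : S₁ ≤ centralizer (X : Set G) :=
      Subgroup.le_centralizer_iff.mp ((hXd.trans hder).trans hZc)
    have huniq : ∀ L : Subgroup G, IsCoatom L → S₁ ≤ L → L = M := by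
      intro L hL hSL
      exact coatoms_eq_of_nonabelian_rank_two hG p P₀ hr' hna' hL hM (hP₀ ▸ hSL) (hP₀ ▸ hS₁M)
    refine ⟨⟨?_, fun L hL hCL => huniq L hL (hS₁C.trans hCL)⟩, huniq⟩
    obtain ⟨L, hL, hCL⟩ := (eq_top_or_exists_le_coatom _).resolve_left hCtop
    have := huniq L hL (hS₁C.trans hCL)
    exact this ▸ hCL
  · -- rank at least three
    have h12 := not_rankLE_of_not_pRankLE hpp hr
    have huniq : ∀ L : Subgroup G, IsCoatom L → S₁ ≤ L → L = M := fun L hL hSL =>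
      coatom_eq_of_le hL hM (le_of_rank_three hU hM hS₁M h12.1 h12.2 hL.1 hSL)
    refine ⟨?_, huniq⟩
    by_cases hβ : p ∈ Cfsg.beta M
    · -- ideal prime
      obtain ⟨A, hAS, hAe, hAc, hXA⟩ :=
        Cfsg.Agent.Helper64.S1423A1.exists_elemAb_sq_ge S₁ X hS₁p hr hXS₁ hX
      obtain ⟨B, hBP, hBe, hAB⟩ := hβ.2.2.2 P₀ A (hP₀ ▸ hAS) hAe hAc
      rw [hP₀] at hBP
      have hcard : p ^ 3 ≤ Nat.card B := by
        have h1 : Nat.card A < Nat.card B := by
          have hle : Nat.card A ≤ Nat.card B :=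
            Nat.le_of_dvd Nat.card_pos (Subgroup.card_dvd_of_le hAB.le)
          rcases Nat.lt_or_ge (Nat.card A) (Nat.card B) with h2 | h2
          · exact h2
          · exact absurd (Subgroup.eq_of_le_of_card_ge hAB.le h2) hAB.ne
        obtain ⟨k, hk⟩ := IsPGroup.iff_card.mp (hS₁p.to_le hBP)
        rw [hAc, hk] at h1
        rw [hk]
        have hk3 : 2 < k := (Nat.pow_lt_pow_iff_right hpp.one_lt).mp h1
        exact Nat.pow_le_pow_right hpp.pos hk3
      exact finish B hBP hBe hcard (hXA.trans hAB.le)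
    · -- non-ideal prime of rank at least three
      have hXd : X ≤ ⁅S₁, S₁⁆ := hXder hβ
      have hrM : ¬ PRankLE p 2 ↥M := not_pRankLE_mono hS₁M hr
      have hrG : ¬ PRankLE p 2 G := fun hG2 => hrM
        (Cfsg.Agent.Helper55.BGB.prankLE_of_injective M.subtype (Subgroup.subtype_injective M) hG2)
      have hI : ¬ IsIdealPrime p G := fun hI => hβ ⟨⟨hpp, hrM⟩, hI⟩
      have hnar : IsNarrow p ↥(P₀ : Subgroup G) :=
        Cfsg.Agent.Helper34.BG.isNarrow_sylow_of_not_ideal hp2 hrG hI P₀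
      rw [hP₀] at hnar
      have hS₁p' : IsPGroup p ↥S₁ := hS₁p
      obtain ⟨E, hEe, hEc, hEmax⟩ :=
        Cfsg.Agent.Helper24.NarrowSolv.exists_max_elemAb_sq_of_isNarrow hS₁p' hnar hr
      have hE'e : IsElementaryAbelian p (E.map S₁.subtype) :=
        Cfsg.Agent.Helper75.S1423A2.elemAb_map S₁.subtype hEe
      have hE'c : Nat.card (E.map S₁.subtype) = p ^ 2 := by
        rw [Subgroup.card_map_of_injective (Subgroup.subtype_injective S₁)]; exact hEc
      have hE'max : ∀ B : Subgroup G, B ≤ S₁ → IsElementaryAbelian p B → E.map S₁.subtype ≤ B →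
          B = E.map S₁.subtype := by
        intro B hBS hBe hEB
        have h1 : IsElementaryAbelian p (B.subgroupOf S₁) :=
          Cfsg.Agent.Helper75.S1423A2.elemAb_comap_subtype S₁ hBe
        have h2 : E ≤ B.subgroupOf S₁ := by
          intro x hx
          rw [Subgroup.mem_subgroupOf]
          exact hEB ⟨x, hx, rfl⟩
        have h3 := hEmax _ h1 h2
        rw [← h3, Subgroup.map_subgroupOf_eq_of_le hBS]
      obtain ⟨B, hBS, hBe, hBc, hXB⟩ :=
        Cfsg.Agent.Helper75.S1423A2.exists_elemAb_cube_ge_of_le_commutator p hp2 S₁ hS₁p hr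
          (E.map S₁.subtype) (Subgroup.map_subtype_le E) hE'e hE'c hE'max X hX hXd
      exact finish B hBS hBe hBc hXB

end Cfsg.Agent.Helper89.BG12
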