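import Mathlib
import Cfsg.Prelude.Def_Transfer

set_option autoImplicit false

namespace Cfsg.Agent.Helper89

open scoped commutatorElement

/-- Elementary description of an extraspecial `2`-subgroup `Q` of `G` whose centre is `{1, z}`. -/
structure ES {G : Type*} [Group G] (Q : Subgroup G) (z : G) : Prop where
  mem : z ∈ Q
  ne_one : z ≠ 1
  sq : z * z = 1
  central : ∀ x ∈ Q, x * z = z * x
  comm : ∀ x ∈ Q, ∀ y ∈ Q, x * y * x⁻¹ * y⁻¹ = 1 ∨ x * y * x⁻¹ * y⁻¹ = z
  cent : ∀ x ∈ Q, (∀ y ∈ Q, x * y = y * x) → x = 1 ∨ x = z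
  pgroup : IsPGroup 2 Q

theorem card_two_cases' {H : Type*} [Group H] (h2 : Nat.card H = 2) (c : H) (hc : c ≠ 1) :
    ∀ x : H, x = 1 ∨ x = c := by
  intro x
  obtain ⟨y, hy, hyu⟩ := (Nat.card_eq_two_iff' (1 : H)).mp h2
  by_cases hx : x = 1
  · exact Or.inl hx
  · right
    rw [hyu x hx, hyu c hc]

theorem exists_ne_one_of_card_two {H : Type*} [Group H] (h2 : Nat.card H = 2) : ∃ c : H, c ≠ 1 := by
  obtain ⟨y, hy, _⟩ := (Nat.card_eq_two_iff' (1 : H)).mp h2
  exact ⟨y, hy⟩

/-- An extraspecial `2`-subgroup has the elementary description `ES`. -/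
theorem ES.of_extraspecial {G : Type*} [Group G] (Q : Subgroup G) (hQ : Cfsg.IsExtraspecial 2 ↥Q) :
    ∃ z : G, ES Q z ∧ ∀ x : G, x ∈ (Subgroup.center ↥Q).map Q.subtype ↔ (x = 1 ∨ x = z) := by
  obtain ⟨c', hc'ne⟩ := exists_ne_one_of_card_two hQ.2
  have hcases := card_two_cases' hQ.2 c' hc'ne
  have hc'sq : c' * c' = 1 := by
    rcases hcases (c' * c') with h | h
    · exact h
    · exfalso
      apply hc'ne
      have := congrArg (fun x => c'⁻¹ * x) h
      simpa using this
  refine ⟨((c' : Q) : G), ⟨?_, ?_, ?_, ?_, ?_, ?_, ?_⟩, ?_⟩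
  · exact (c' : Q).2
  · intro h
    apply hc'ne
    apply Subtype.ext
    apply Subtype.ext
    exact h
  · have := congrArg (fun x : Subgroup.center Q => ((x : Q) : G)) hc'sq
    simpa using this
  · intro x hx
    have h := (Subgroup.mem_center_iff.mp c'.2) ⟨x, hx⟩
    have := congrArg (Subtype.val) h
    simpa using this
  · intro x hx y hy
    have hcomm : ⁅(⟨x, hx⟩ : Q), (⟨y, hy⟩ : Q)⁆ ∈ Subgroup.center Q := by
      rw [← hQ.1.2.2, commutator_def]
      exact Subgroup.commutator_mem_commutator (Subgroup.mem_top _) (Subgroup.mem_top _)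
    rcases hcases ⟨_, hcomm⟩ with h | h
    · left
      have := congrArg (fun x : Subgroup.center Q => ((x : Q) : G)) h
      simpa [commutatorElement_def] using this
    · right
      have := congrArg (fun x : Subgroup.center Q => ((x : Q) : G)) h
      simpa [commutatorElement_def] using this
  · intro x hx hxy
    have hmem : (⟨x, hx⟩ : Q) ∈ Subgroup.center Q := by
      rw [Subgroup.mem_center_iff]
      intro y
      apply Subtype.ext
      have := hxy y y.2
      simpa using this.symm
    rcases hcases ⟨_, hmem⟩ with h | h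
    · left
      have := congrArg (fun x : Subgroup.center Q => ((x : Q) : G)) h
      simpa using this
    · right
      have := congrArg (fun x : Subgroup.center Q => ((x : Q) : G)) h
      simpa using this
  · exact hQ.1.1
  · intro x
    constructor
    · rintro ⟨y, hy, rfl⟩
      rcases hcases ⟨y, hy⟩ with h | h
      · left
        have := congrArg (fun x : Subgroup.center Q => ((x : Q) : G)) h
        simpa using this
      · right
        have := congrArg (fun x : Subgroup.center Q => ((x : Q) : G)) h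
        simpa using this
    · rintro (h | h)
      · rw [h]; exact Subgroup.one_mem _
      · rw [h]; exact ⟨(c' : Q), c'.2, rfl⟩

end Cfsg.Agent.Helper89

namespace Cfsg.Agent.Helper89

section grp
variable {G : Type*} [Group G]

theorem comm_of_commutator_eq_one {x y : G} (h : x * y * x⁻¹ * y⁻¹ = 1) : x * y = y * x := by
  have := congrArg (fun w => w * y * x) h
  simpa [mul_assoc] using this

theorem commutator_eq_one_of_comm {x y : G} (h : x * y = y * x) : x * y * x⁻¹ * y⁻¹ = 1 := by
  rw [h]; group

theorem conj_eq_of_commutator_eq {x y c : G} (h : x * y * x⁻¹ * y⁻¹ = c) : x * y * x⁻¹ = c * y := by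
  have := congrArg (fun w => w * y) h
  simpa [mul_assoc] using this

theorem commutator_eq_of_conj_eq {x y c : G} (h : x * y * x⁻¹ = c * y) : x * y * x⁻¹ * y⁻¹ = c := by
  rw [h]; group

theorem mem_map_conj_iff (Q : Subgroup G) (g x : G) :
    x ∈ Q.map (MulAut.conj g).toMonoidHom ↔ g⁻¹ * x * g ∈ Q := by
  constructor
  · rintro ⟨y, hy, rfl⟩
    have : g⁻¹ * ((MulAut.conj g).toMonoidHom y) * g = y := by
      simp [mul_assoc]
    rw [this]; exact hy
  · intro h
    refine ⟨g⁻¹ * x * g, h, ?_⟩
    simp [mul_assoc]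

theorem conj_mem_map_conj (Q : Subgroup G) (g : G) {y : G} (hy : y ∈ Q) :
    g * y * g⁻¹ ∈ Q.map (MulAut.conj g).toMonoidHom := by
  rw [mem_map_conj_iff]
  have : g⁻¹ * (g * y * g⁻¹) * g = y := by group
  rw [this]; exact hy

end grp

namespace ES

variable {G : Type*} [Group G] {Q : Subgroup G} {z : G}

theorem inv_eq (h : ES Q z) : z⁻¹ = z := inv_eq_of_mul_eq_one_right h.sq

/-- Conjugating an `ES` pair. -/
theorem conj (h : ES Q z) (g : G) : ES (Q.map (MulAut.conj g).toMonoidHom) (g * z * g⁻¹) where
  mem := conj_mem_map_conj Q g h.mem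
  ne_one := by
    intro h1
    apply h.ne_one
    have := congrArg (fun w => g⁻¹ * w * g) h1
    simpa [mul_assoc] using this
  sq := by
    have : g * z * g⁻¹ * (g * z * g⁻¹) = g * (z * z) * g⁻¹ := by group
    rw [this, h.sq]; group
  central := by
    intro x hx
    rw [mem_map_conj_iff] at hx
    have h1 := h.central _ hx
    have e1 : x * (g * z * g⁻¹) = g * ((g⁻¹ * x * g) * z) * g⁻¹ := by group
    have e2 : g * z * g⁻¹ * x = g * (z * (g⁻¹ * x * g)) * g⁻¹ := by group
    rw [e1, e2, h1]
  comm := by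
    intro x hx y hy
    rw [mem_map_conj_iff] at hx hy
    have e : x * y * x⁻¹ * y⁻¹ =
        g * ((g⁻¹ * x * g) * (g⁻¹ * y * g) * (g⁻¹ * x * g)⁻¹ * (g⁻¹ * y * g)⁻¹) * g⁻¹ := by group
    rcases h.comm _ hx _ hy with h1 | h1
    · left; rw [e, h1]; group
    · right; rw [e, h1]
  cent := by
    intro x hx hxy
    rw [mem_map_conj_iff] at hx
    have key : ∀ y ∈ Q, (g⁻¹ * x * g) * y = y * (g⁻¹ * x * g) := by
      intro y hy
      have h1 := hxy (g * y * g⁻¹) (conj_mem_map_conj Q g hy)
      have e1 : (g⁻¹ * x * g) * y = g⁻¹ * (x * (g * y * g⁻¹)) * g := by group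
      have e2 : y * (g⁻¹ * x * g) = g⁻¹ * ((g * y * g⁻¹) * x) * g := by group
      rw [e1, e2, h1]
    rcases h.cent _ hx key with h1 | h1
    · left
      have := congrArg (fun w => g * w * g⁻¹) h1
      simpa [mul_assoc] using this
    · right
      have := congrArg (fun w => g * w * g⁻¹) h1
      simpa [mul_assoc] using this
  pgroup := h.pgroup.map _

variable (h : ES Q z) {a : G} (haQ : a ∈ Q) (ha1 : a ≠ 1) (haz : a ≠ z)

include h haQ ha1 haz in
/-- A non-central element `a` of `Q` is conjugate in `Q` to `z * a`. -/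
theorem exists_conj : ∃ q ∈ Q, q * a * q⁻¹ = z * a := by
  by_contra hcon
  push Not at hcon
  have : ∀ y ∈ Q, a * y = y * a := by
    intro y hy
    rcases h.comm y hy a haQ with h1 | h1
    · exact (comm_of_commutator_eq_one h1).symm
    · exact absurd (conj_eq_of_commutator_eq h1) (hcon y hy)
  rcases h.cent a haQ this with h1 | h1
  · exact ha1 h1
  · exact haz h1

include h haQ in
/-- The centralizer of `a` in `Q` has index at most two: `Q = R ∪ q₀ R`. -/
theorem index_two {q0 : G} (hq0 : q0 ∈ Q) (hq0a : q0 * a * q0⁻¹ = z * a) :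
    ∀ y ∈ Q, y * a = a * y ∨ (q0⁻¹ * y) * a = a * (q0⁻¹ * y) := by
  intro y hy
  rcases h.comm y hy a haQ with h1 | h1
  · left; exact comm_of_commutator_eq_one h1
  · right
    have h2 : y * a * y⁻¹ = z * a := conj_eq_of_commutator_eq h1
    have h3 : y * a = z * a * y := by
      have := congrArg (fun w => w * y) h2
      simpa [mul_assoc] using this
    have h4 : q0 * a = z * a * q0 := by
      have := congrArg (fun w => w * q0) hq0a
      simpa [mul_assoc] using this
    have hzq : q0⁻¹ * z = z * q0⁻¹ := h.central _ (Q.inv_mem hq0)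
    -- q0⁻¹ * (z * a) = a * q0⁻¹
    have h5 : q0⁻¹ * (z * a) = a * q0⁻¹ := by
      have : q0⁻¹ * (z * a * q0) * q0⁻¹ = q0⁻¹ * (q0 * a) * q0⁻¹ := by rw [h4]
      have e1 : q0⁻¹ * (z * a * q0) * q0⁻¹ = q0⁻¹ * (z * a) := by group
      have e2 : q0⁻¹ * (q0 * a) * q0⁻¹ = a * q0⁻¹ := by group
      rw [e1, e2] at this
      exact this
    calc q0⁻¹ * y * a = q0⁻¹ * (y * a) := by group
      _ = q0⁻¹ * (z * a * y) := by rw [h3]
      _ = (q0⁻¹ * (z * a)) * y := by group
      _ = a * q0⁻¹ * y := by rw [h5]
      _ = a * (q0⁻¹ * y) := by group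

include h haQ ha1 haz in
/-- An element of `Q` centralizing `C_Q(a)` lies in `{1, z, a, z * a}`. -/
theorem center_centralizer {x : G} (hx : x ∈ Q)
    (hxR : ∀ r ∈ Q, r * a = a * r → x * r = r * x) :
    x = 1 ∨ x = z ∨ x = a ∨ x = z * a := by
  obtain ⟨q0, hq0, hq0a⟩ := h.exists_conj haQ ha1 haz
  have hidx := h.index_two haQ hq0 hq0a
  -- if x' ∈ Q commutes with q0 and with C_Q(a) then x' is central
  have key : ∀ x' ∈ Q, (∀ r ∈ Q, r * a = a * r → x' * r = r * x') → x' * q0 = q0 * x' →
      x' = 1 ∨ x' = z := by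
    intro x' hx' hx'R hx'q
    apply h.cent x' hx'
    intro y hy
    rcases hidx y hy with h1 | h1
    · exact hx'R y hy h1
    · have h2 := hx'R (q0⁻¹ * y) (Q.mul_mem (Q.inv_mem hq0) hy) h1
      calc x' * y = x' * (q0 * (q0⁻¹ * y)) := by group
        _ = (x' * q0) * (q0⁻¹ * y) := by group
        _ = (q0 * x') * (q0⁻¹ * y) := by rw [hx'q]
        _ = q0 * (x' * (q0⁻¹ * y)) := by group
        _ = q0 * ((q0⁻¹ * y) * x') := by rw [h2]
        _ = y * x' := by group
  rcases h.comm x hx q0 hq0 with h1 | h1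
  · rcases key x hx hxR (comm_of_commutator_eq_one h1) with h2 | h2
    · exact Or.inl h2
    · exact Or.inr (Or.inl h2)
  · -- x * a⁻¹ commutes with q0 and C_Q(a)
    have hx'Q : x * a⁻¹ ∈ Q := Q.mul_mem hx (Q.inv_mem haQ)
    have hx'R : ∀ r ∈ Q, r * a = a * r → (x * a⁻¹) * r = r * (x * a⁻¹) := by
      intro r hr hra
      have h2 := hxR r hr hra
      have h3 : a⁻¹ * r = r * a⁻¹ := by
        have := congrArg (fun w => a⁻¹ * w * a⁻¹) hra
        simpa [mul_assoc] using this
      calc x * a⁻¹ * r = x * (a⁻¹ * r) := by group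
        _ = x * (r * a⁻¹) := by rw [h3]
        _ = (x * r) * a⁻¹ := by group
        _ = (r * x) * a⁻¹ := by rw [h2]
        _ = r * (x * a⁻¹) := by group
    have hx'q : (x * a⁻¹) * q0 = q0 * (x * a⁻¹) := by
      have h2 : x * q0 * x⁻¹ = z * q0 := conj_eq_of_commutator_eq h1
      have h3 : x * q0 = z * q0 * x := by
        have := congrArg (fun w => w * x) h2
        simpa [mul_assoc] using this
      -- a⁻¹ * q0 = z * q0 * a⁻¹
      have h4 : q0 * a = z * a * q0 := by
        have := congrArg (fun w => w * q0) hq0a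
        simpa [mul_assoc] using this
      have hza : z * a = a * z := (h.central a haQ).symm
      have hzq : z * q0 = q0 * z := (h.central q0 hq0).symm
      have hzx : z * x = x * z := (h.central x hx).symm
      have h5 : a⁻¹ * q0 = z * q0 * a⁻¹ := by
        have e : q0 * a = a * (z * q0) := by
          rw [h4, hza]; group
        have := congrArg (fun w => a⁻¹ * w * a⁻¹) e
        simp only [mul_assoc, mul_inv_cancel, mul_one, inv_mul_cancel_left] at this
        rw [this]; group
      calc x * a⁻¹ * q0 = x * (a⁻¹ * q0) := by group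
        _ = x * (z * q0 * a⁻¹) := by rw [h5]
        _ = (x * z) * q0 * a⁻¹ := by group
        _ = (z * x) * q0 * a⁻¹ := by rw [hzx]
        _ = z * (x * q0) * a⁻¹ := by group
        _ = z * (z * q0 * x) * a⁻¹ := by rw [h3]
        _ = (z * z) * q0 * x * a⁻¹ := by group
        _ = q0 * (x * a⁻¹) := by rw [h.sq]; group
    rcases key _ hx'Q hx'R hx'q with h2 | h2
    · right; right; left
      have := congrArg (fun w => w * a) h2
      simpa using this
    · right; right; right
      have := congrArg (fun w => w * a) h2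
      simpa using this

include h haQ ha1 haz in
/-- If `Q` has at least 32 elements then `C_Q(a)` is non-abelian, with commutator `z`. -/
theorem exists_noncommuting [Finite G] (hcard : 32 ≤ Nat.card Q) :
    ∃ r1 ∈ Q, ∃ r2 ∈ Q, r1 * a = a * r1 ∧ r2 * a = a * r2 ∧ r1 * r2 * r1⁻¹ * r2⁻¹ = z := by
  classical
  by_contra hcon
  push Not at hcon
  obtain ⟨q0, hq0, hq0a⟩ := h.exists_conj haQ ha1 haz
  have hidx := h.index_two haQ hq0 hq0a
  have hR : ∀ r ∈ Q, r * a = a * r → r = 1 ∨ r = z ∨ r = a ∨ r = z * a := by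
    intro r hr hra
    apply h.center_centralizer haQ ha1 haz hr
    intro r' hr' hr'a
    rcases h.comm r hr r' hr' with h1 | h1
    · exact comm_of_commutator_eq_one h1
    · exact absurd h1 (hcon r hr r' hr' hra hr'a)
  have hsub : (Q : Set G) ⊆ (({1, z, a, z * a, q0, q0 * z, q0 * a, q0 * (z * a)} : Finset G) : Set G) := by
    intro y hy
    have hy' : y ∈ Q := hy
    simp only [Finset.coe_insert, Finset.coe_singleton, Set.mem_insert_iff, Set.mem_singleton_iff]
    rcases hidx y hy' with h1 | h1
    · rcases hR y hy' h1 with h2 | h2 | h2 | h2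
      · left; exact h2
      · right; left; exact h2
      · right; right; left; exact h2
      · right; right; right; left; exact h2
    · have hy2 : q0⁻¹ * y ∈ Q := Q.mul_mem (Q.inv_mem hq0) hy'
      have e : y = q0 * (q0⁻¹ * y) := by group
      rcases hR _ hy2 h1 with h2 | h2 | h2 | h2
      · right; right; right; right; left
        rw [e, h2, mul_one]
      · right; right; right; right; right; left
        rw [e, h2]
      · right; right; right; right; right; right; left
        rw [e, h2]
      · right; right; right; right; right; right; right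
        rw [e, h2]
  have hle : Nat.card Q ≤ 8 := by
    have h1 : Nat.card Q = (Q : Set G).ncard := rfl
    rw [h1]
    calc (Q : Set G).ncard ≤ ((({1, z, a, z * a, q0, q0 * z, q0 * a, q0 * (z * a)} : Finset G) : Set G)).ncard :=
          Set.ncard_le_ncard hsub (Finset.finite_toSet _)
      _ = ({1, z, a, z * a, q0, q0 * z, q0 * a, q0 * (z * a)} : Finset G).card := Set.ncard_coe_finset _
      _ ≤ 8 := by
        refine (Finset.card_insert_le _ _).trans ?_
        refine (Nat.succ_le_succ ((Finset.card_insert_le _ _).trans ?_))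
        refine (Nat.succ_le_succ ((Finset.card_insert_le _ _).trans ?_))
        refine (Nat.succ_le_succ ((Finset.card_insert_le _ _).trans ?_))
        refine (Nat.succ_le_succ ((Finset.card_insert_le _ _).trans ?_))
        refine (Nat.succ_le_succ ((Finset.card_insert_le _ _).trans ?_))
        refine (Nat.succ_le_succ ((Finset.card_insert_le _ _).trans ?_))
        simp
  omega

end ES

end Cfsg.Agent.Helper89
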