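import Cfsg.Agent.Lib.Helper78.DG2C1
import Cfsg.Agent.Lib.Helper78.DG2C2
import Cfsg.Agent.Lib.Helper16.DG2A3
import Cfsg.Agent.Lib.Helper19.DG2AB
import Cfsg.Agent.Lib.Helper19.DG2B
import Cfsg.Agent.Lib.Helper19.DG2GR
import Cfsg.Agent.Lib.Helper79.DG2GT
import Cfsg.Agent.Lib.Helper81.DG2CR
import Cfsg.Agent.Lib.Helper90.DG2A1
import Cfsg.Agent.Lib.Helper90.DG2A2

/-!
# Manz's theorem: the degree graph of a finite solvable group has at most two components
Assembly of the DG2 lemma server (helper89) for S4811.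
-/

set_option autoImplicit false

namespace Cfsg.Agent.Helper89.DG2

open Cfsg
open scoped commutatorElement

universe u

/-- a normal subgroup maximal with nonabelian quotient -/
theorem exists_max_nonab {G : Type u} [Group G] [Finite G] (hG : ¬ ∀ a b : G, a * b = b * a) :
    ∃ K : Subgroup G, K.Normal ∧ ¬ commutator G ≤ K ∧
      ∀ L : Subgroup G, L.Normal → K < L → commutator G ≤ L := by
  classical
  let S : Set (Subgroup G) := {K | K.Normal ∧ ¬ commutator G ≤ K}
  have hS : S.Nonempty := by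
    refine ⟨⊥, inferInstance, ?_⟩
    intro h
    apply hG
    intro a b
    have : ⁅a, b⁆ ∈ commutator G := by
      rw [commutator_def]
      exact Subgroup.commutator_mem_commutator (Subgroup.mem_top a) (Subgroup.mem_top b)
    have h1 := h this
    rw [Subgroup.mem_bot] at h1
    exact commutatorElement_eq_one_iff_mul_comm.1 h1
  obtain ⟨K, ⟨hKn, hK⟩, hKmax⟩ := WellFounded.has_min (wellFounded_gt (α := Subgroup G)) S hS
  refine ⟨K, hKn, hK, ?_⟩
  intro L hLn hKL
  by_contra hL
  exact hKmax L ⟨hLn, hL⟩ hKL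

/-- the structure lemma (Isaacs 12.3, in the form needed) -/
theorem struct {H : Type u} [Group H] [Finite H] [Group.IsSolvable H]
    (hna : ¬ ∀ a b : H, a * b = b * a)
    (hq : ∀ L : Subgroup H, L.Normal → L ≠ ⊥ → commutator H ≤ L) :
    ∃ q : ℕ, q.Prime ∧ ∃ β : IrrCharacter H, 1 < charDegree (β : H → ℂ) ∧
      ∀ s : ℕ, s.Prime → s ∣ Nat.card H → s ∣ charDegree (β : H → ℂ) ∨ s = q := by
  obtain ⟨hV, hab, q, n, hqp, hcard⟩ := Cfsg.Agent.Helper90.DG2.comm_abelian hna hq
  refine ⟨q, hqp, ?_⟩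
  by_cases hc : commutator H ≤ Subgroup.center H
  · obtain ⟨m, hm⟩ := Cfsg.Agent.Helper90.DG2.central_case hq hV q n hqp hcard hc
    obtain ⟨β, hβ1, _⟩ := Cfsg.Agent.Helper78.DG2.pgroup_char hna q m hqp hm
    refine ⟨β, hβ1, ?_⟩
    intro s hs hsd
    right
    rw [hm] at hsd
    exact (Nat.prime_dvd_prime_iff_eq hs hqp).1 (hs.dvd_of_dvd_pow hsd)
  · obtain ⟨_, hfpf⟩ := Cfsg.Agent.Helper16.DG2.noncentral_case hq hV hab q n hqp hcard hc
    have : (commutator H).Normal := by rw [commutator_def]; infer_instance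
    obtain ⟨β, hβ⟩ := Cfsg.Agent.Helper78.DG2.frob_char (commutator H) hV hab hfpf
    have hlt : commutator H ≠ ⊤ := by
      have : Nontrivial H := by
        by_contra h
        rw [not_nontrivial_iff_subsingleton] at h
        exact hna (fun a b => Subsingleton.elim _ _)
      have := Group.IsSolvable.commutator_lt_top_of_nontrivial H
      exact ne_of_lt this
    have hidx : 1 < (commutator H).index := by
      have h1 : (commutator H).index ≠ 1 := fun h => hlt (Subgroup.index_eq_one.1 h)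
      have h0 : (commutator H).index ≠ 0 := Subgroup.index_ne_zero_of_finite
      omega
    refine ⟨β, hβ ▸ hidx, ?_⟩
    intro s hs hsd
    rw [← Subgroup.card_mul_index (commutator H), hcard] at hsd
    rcases (Nat.Prime.dvd_mul hs).1 hsd with h | h
    · right
      exact (Nat.prime_dvd_prime_iff_eq hs hqp).1 (hs.dvd_of_dvd_pow h)
    · left
      rw [hβ]; exact h

/-- the main lemma on the set of degrees -/
theorem main_lemma {G : Type u} [Group G] [Finite G] [Group.IsSolvable G]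
    (hG : ¬ ∀ a b : G, a * b = b * a) :
    ∃ q f : ℕ, q.Prime ∧ 1 < f ∧ f ∈ charDegrees G ∧
      ∀ d ∈ charDegrees G, (∃ s : ℕ, s.Prime ∧ s ∣ d ∧ (s ∣ f ∨ s = q)) ∨ f * d ∈ charDegrees G := by
  obtain ⟨K, hKn, hK, hmax⟩ := exists_max_nonab hG
  have := hKn
  obtain ⟨hna, hquot⟩ := Cfsg.Agent.Helper19.DG2.bridge K hK hmax
  have : Group.IsSolvable (G ⧸ K) := inferInstance
  obtain ⟨q, hqp, β, hβ1, hβ⟩ := struct hna hquot
  refine ⟨q, charDegree (β : G ⧸ K → ℂ), hqp, hβ1, ?_, ?_⟩
  · obtain ⟨ψ, hψ⟩ := Cfsg.Agent.Helper79.DG2.inflate_deg K β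
    exact ⟨ψ, hψ⟩
  · rintro d ⟨χ, rfl⟩
    by_cases hcop : Nat.Coprime (charDegree (χ : G → ℂ)) K.index
    · right
      have hχK := Cfsg.Agent.Helper81.DG2.restrict_irr_of_coprime K χ hcop
      obtain ⟨ψ, hψ⟩ := Cfsg.Agent.Helper79.DG2.gallagher_deg K χ hχK β
      exact ⟨ψ, hψ⟩
    · left
      obtain ⟨s, hs, hs1, hs2⟩ := Nat.Prime.not_coprime_iff_dvd.1 hcop
      refine ⟨s, hs, hs1, hβ s hs ?_⟩
      rw [← Subgroup.index_eq_card]
      exact hs2

/-- Manz: at most two connected components. -/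
theorem manz {G : Type u} [Group G] [Finite G] [Group.IsSolvable G] :
    Nat.card ((degreeGraph G).induce (degreePrimes G)).ConnectedComponent ≤ 2 := by
  by_cases hG : ∀ a b : G, a * b = b * a
  · exact Cfsg.Agent.Helper19.DG2.components_abelian hG
  · obtain ⟨q, f, hq, hf, hfG, h⟩ := main_lemma hG
    exact Cfsg.Agent.Helper19.DG2.components_le_two q f hq hf hfG h

end Cfsg.Agent.Helper89.DG2
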