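import Cfsg.Agent.Lib.Helper53.IPDefs

set_option autoImplicit false

/-! IP (N4) for helper53's S4463 server: glue for the nonsolvable case. -/

namespace Cfsg.Agent.Helper89.IP

open Cfsg Cfsg.Agent.Helper53.IP

universe u

theorem nscase {G : Type u} [Group G] [Finite G] (b : ℕ) (K : Subgroup G) [K.Normal]
    (hns : ¬ Group.IsSolvable (G ⧸ K)) (x : G ⧸ K)
    (hxi : (Subgroup.centralizer ({x} : Set (G ⧸ K))).index ≤ b ^ 2)
    (hcore : (Subgroup.centralizer ({x} : Set (G ⧸ K))).normalCore = ⊥)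
    (hsub : ∀ H : Subgroup G, DegLe H b)
    (hvc : ∀ (H : Subgroup G) (ψ : IrrCharacter H), charDegree (ψ : H → ℂ) = b →
      ∀ y : H, (y : G) ∉ H.normalCore → (ψ : H → ℂ) y = 0)
    (hvi : ∀ (H : Subgroup G) (ψ : IrrCharacter H), K ≤ H →
      (∀ y : H, (y : G) ∉ K → (ψ : H → ℂ) y = 0) →
      ∃ e t : ℕ, K.relIndex H = e ^ 2 * t ∧ e * t ∣ charDegree (ψ : H → ℂ))
    (hhalf : DegLe K (b / 2)) (h4 : DegLe (G ⧸ K) 4 → Group.IsSolvable (G ⧸ K))
    (hQ : DegLe (G ⧸ K) b)
    (hnum : 5 ≤ b → b ^ 4 ≤ (b.factorial / (b / 2).factorial) ^ 2) : Alt G b := by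
  -- first dispose of `b ≤ 4`
  by_cases h5 : 5 ≤ b
  swap
  · exfalso
    apply hns
    apply h4
    intro χ
    have := hQ χ
    omega
  set C := Subgroup.centralizer ({x} : Set (G ⧸ K)) with hC
  set H : Subgroup G := C.comap (QuotientGroup.mk' K) with hH
  have hHidx : H.index = C.index :=
    Subgroup.index_comap_of_surjective C (QuotientGroup.mk'_surjective K)
  have hKH : K ≤ H := by
    intro k hk
    rw [hH, Subgroup.mem_comap, QuotientGroup.mk'_apply, (QuotientGroup.eq_one_iff k).mpr hk]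
    exact C.one_mem
  have hcoreH : H.normalCore = K := by
    apply le_antisymm
    · intro g hg
      have h1 : (QuotientGroup.mk' K g) ∈ C.normalCore := by
        intro ybar
        obtain ⟨y, rfl⟩ := QuotientGroup.mk'_surjective K ybar
        have h2 : y * g * y⁻¹ ∈ H := hg y
        rw [hH, Subgroup.mem_comap] at h2
        simpa using h2
      rw [hcore, Subgroup.mem_bot, QuotientGroup.mk'_apply, QuotientGroup.eq_one_iff] at h1
      exact h1
    · exact Subgroup.normal_le_normalCore.mpr hKH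
  by_cases hD : DegLe H (b - 1)
  · left
    exact ⟨H, by rw [hHidx]; exact hxi, hD⟩
  · right
    unfold DegLe at hD
    push Not at hD
    obtain ⟨ψ, hψ⟩ := hD
    have hψb : charDegree (ψ : H → ℂ) ≤ b := hsub H ψ
    have hdeg : charDegree (ψ : H → ℂ) = b := by omega
    have hv : ∀ y : H, (y : G) ∉ K → (ψ : H → ℂ) y = 0 := by
      intro y hy
      apply hvc H ψ hdeg y
      rw [hcoreH]
      exact hy
    obtain ⟨e, t, hrel, hdvd⟩ := hvi H ψ hKH hv
    rw [hdeg] at hdvd
    have hb0 : 0 < b := by omega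
    have het : e * t ≤ b := Nat.le_of_dvd hb0 hdvd
    have hrel_le : K.relIndex H ≤ b ^ 2 := by
      rw [hrel]
      calc e ^ 2 * t ≤ (e * t) ^ 2 := by
            rw [mul_pow]
            apply Nat.mul_le_mul_left
            nlinarith [Nat.zero_le t]
        _ ≤ b ^ 2 := Nat.pow_le_pow_left het 2
    refine ⟨K, ?_, hhalf⟩
    rw [← Subgroup.relIndex_mul_index hKH, hHidx]
    calc K.relIndex H * C.index ≤ b ^ 2 * b ^ 2 := Nat.mul_le_mul hrel_le hxi
      _ = b ^ 4 := by ring
      _ ≤ _ := hnum h5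

end Cfsg.Agent.Helper89.IP
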