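import Mathlib
import Cfsg.Prelude.Def_Transfer

set_option autoImplicit false

namespace Cfsg.Agent.Helper89

/-- A central element of order at most two. -/
structure CentralInv (E : Type*) [Group E] where
  val : E
  central : ∀ g : E, g * val = val * g
  sq : val * val = 1

namespace CentralInv

variable {E : Type*} [Group E] (c : CentralInv E)

/-- `c ^ t` for `t : ZMod 2`. -/
def pw (t : ZMod 2) : E := if t = 0 then 1 else c.val

@[simp] theorem pw_zero : c.pw 0 = 1 := by simp [pw]

@[simp] theorem pw_one : c.pw 1 = c.val := by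
  have : (1 : ZMod 2) ≠ 0 := by decide
  simp [pw, this]

theorem zmod_two_cases (t : ZMod 2) : t = 0 ∨ t = 1 := by
  revert t; decide

theorem pw_add (s t : ZMod 2) : c.pw (s + t) = c.pw s * c.pw t := by
  have h11 : (1 : ZMod 2) + 1 = 0 := by decide
  rcases zmod_two_cases s with rfl | rfl <;> rcases zmod_two_cases t with rfl | rfl
  · simp
  · simp
  · simp
  · rw [h11, pw_zero, pw_one, c.sq]

theorem pw_central (t : ZMod 2) (g : E) : g * c.pw t = c.pw t * g := by
  rcases zmod_two_cases t with rfl | rfl
  · simp
  · rw [pw_one]; exact c.central g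

theorem pw_mul_self (t : ZMod 2) : c.pw t * c.pw t = 1 := by
  rcases zmod_two_cases t with rfl | rfl
  · simp
  · rw [pw_one]; exact c.sq

theorem pw_eq_one_iff (hc : c.val ≠ 1) (t : ZMod 2) : c.pw t = 1 ↔ t = 0 := by
  rcases zmod_two_cases t with rfl | rfl
  · simp
  · rw [pw_one]
    constructor
    · intro h; exact absurd h hc
    · intro h; exact absurd h (by decide)

theorem pw_cases (t : ZMod 2) : c.pw t = 1 ∨ c.pw t = c.val := by
  rcases zmod_two_cases t with rfl | rfl
  · left; simp
  · right; simp

end CentralInv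

/-- The twisting cocycle. -/
def beta (p q x y x' y' : ZMod 2) : ZMod 2 := p * x * x' + y * x' + q * y * y'

/-- The twisted product `E ∘ ⟨e, f⟩` with `e² = c^p`, `f² = c^q`, `[e, f] = c`: for `p = q = 0` the
central product with a dihedral group of order 8, for `p = q = 1` with a quaternion group. -/
@[ext]
structure Twist (E : Type*) [Group E] (c : CentralInv E) (p q : ZMod 2) where
  g : E
  x : ZMod 2
  y : ZMod 2

namespace Twist

variable {E : Type*} [Group E] {c : CentralInv E} {p q : ZMod 2}

instance : Mul (Twist E c p q) :=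
  ⟨fun a b => ⟨a.g * b.g * c.pw (beta p q a.x a.y b.x b.y), a.x + b.x, a.y + b.y⟩⟩

instance : One (Twist E c p q) := ⟨⟨1, 0, 0⟩⟩

instance : Inv (Twist E c p q) :=
  ⟨fun a => ⟨a.g⁻¹ * c.pw (beta p q a.x a.y a.x a.y), a.x, a.y⟩⟩

theorem mul_g' (a b : Twist E c p q) :
    (a * b).g = a.g * b.g * c.pw (beta p q a.x a.y b.x b.y) := rfl
theorem mul_x' (a b : Twist E c p q) : (a * b).x = a.x + b.x := rfl
theorem mul_y' (a b : Twist E c p q) : (a * b).y = a.y + b.y := rfl
theorem one_g' : (1 : Twist E c p q).g = 1 := rfl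
theorem one_x' : (1 : Twist E c p q).x = 0 := rfl
theorem one_y' : (1 : Twist E c p q).y = 0 := rfl
theorem inv_g' (a : Twist E c p q) :
    (a⁻¹).g = a.g⁻¹ * c.pw (beta p q a.x a.y a.x a.y) := rfl
theorem inv_x' (a : Twist E c p q) : (a⁻¹).x = a.x := rfl
theorem inv_y' (a : Twist E c p q) : (a⁻¹).y = a.y := rfl

theorem beta_assoc (x y x' y' x'' y'' : ZMod 2) :
    beta p q x y x' y' + beta p q (x + x') (y + y') x'' y'' =
      beta p q x' y' x'' y'' + beta p q x y (x' + x'') (y' + y'') := by
  unfold beta; ring

instance : Group (Twist E c p q) :=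
  Group.ofLeftAxioms
    (by
      intro a b d
      apply Twist.ext
      · simp only [mul_g', mul_x', mul_y']
        have hβ := beta_assoc (p := p) (q := q) a.x a.y b.x b.y d.x d.y
        calc a.g * b.g * c.pw (beta p q a.x a.y b.x b.y) * d.g *
              c.pw (beta p q (a.x + b.x) (a.y + b.y) d.x d.y)
            = a.g * b.g * (c.pw (beta p q a.x a.y b.x b.y) * d.g) *
              c.pw (beta p q (a.x + b.x) (a.y + b.y) d.x d.y) := by group
          _ = a.g * b.g * (d.g * c.pw (beta p q a.x a.y b.x b.y)) *
              c.pw (beta p q (a.x + b.x) (a.y + b.y) d.x d.y) := by rw [← c.pw_central]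
          _ = a.g * b.g * d.g * (c.pw (beta p q a.x a.y b.x b.y) *
              c.pw (beta p q (a.x + b.x) (a.y + b.y) d.x d.y)) := by group
          _ = a.g * b.g * d.g * (c.pw (beta p q b.x b.y d.x d.y) *
              c.pw (beta p q a.x a.y (b.x + d.x) (b.y + d.y))) := by
              rw [← c.pw_add, ← c.pw_add, hβ]
          _ = a.g * (b.g * d.g * c.pw (beta p q b.x b.y d.x d.y)) *
              c.pw (beta p q a.x a.y (b.x + d.x) (b.y + d.y)) := by group
      · simp only [mul_x', add_assoc]
      · simp only [mul_y', add_assoc])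
    (by
      intro a
      apply Twist.ext
      · simp [mul_g', one_g', one_x', one_y', beta]
      · simp [mul_x', one_x']
      · simp [mul_y', one_y'])
    (by
      intro a
      apply Twist.ext
      · simp only [mul_g', inv_g', inv_x', inv_y', one_g']
        calc a.g⁻¹ * c.pw (beta p q a.x a.y a.x a.y) * a.g * c.pw (beta p q a.x a.y a.x a.y)
            = a.g⁻¹ * (c.pw (beta p q a.x a.y a.x a.y) * a.g) * c.pw (beta p q a.x a.y a.x a.y) := by
              group
          _ = a.g⁻¹ * (a.g * c.pw (beta p q a.x a.y a.x a.y)) * c.pw (beta p q a.x a.y a.x a.y) := by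
              rw [← c.pw_central]
          _ = c.pw (beta p q a.x a.y a.x a.y) * c.pw (beta p q a.x a.y a.x a.y) := by group
          _ = 1 := c.pw_mul_self _
      · simp only [mul_x', inv_x', one_x']
        exact CharTwo.add_self_eq_zero _
      · simp only [mul_y', inv_y', one_y']
        exact CharTwo.add_self_eq_zero _)

@[simp] theorem mul_g (a b : Twist E c p q) :
    (a * b).g = a.g * b.g * c.pw (beta p q a.x a.y b.x b.y) := rfl
@[simp] theorem mul_x (a b : Twist E c p q) : (a * b).x = a.x + b.x := rfl
@[simp] theorem mul_y (a b : Twist E c p q) : (a * b).y = a.y + b.y := rfl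
@[simp] theorem one_g : (1 : Twist E c p q).g = 1 := rfl
@[simp] theorem one_x : (1 : Twist E c p q).x = 0 := rfl
@[simp] theorem one_y : (1 : Twist E c p q).y = 0 := rfl
@[simp] theorem inv_g (a : Twist E c p q) :
    (a⁻¹).g = a.g⁻¹ * c.pw (beta p q a.x a.y a.x a.y) := rfl
@[simp] theorem inv_x (a : Twist E c p q) : (a⁻¹).x = a.x := rfl
@[simp] theorem inv_y (a : Twist E c p q) : (a⁻¹).y = a.y := rfl

/-- The underlying product. -/
def equivProd : Twist E c p q ≃ E × ZMod 2 × ZMod 2 where
  toFun a := (a.g, a.x, a.y)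
  invFun t := ⟨t.1, t.2.1, t.2.2⟩
  left_inv _ := rfl
  right_inv _ := rfl

instance [Finite E] : Finite (Twist E c p q) := Finite.of_equiv _ equivProd.symm

theorem card_eq : Nat.card (Twist E c p q) = Nat.card E * 4 := by
  rw [Nat.card_congr (equivProd (c := c) (p := p) (q := q)), Nat.card_prod, Nat.card_prod]
  simp

/-- The embedding of `E`. -/
def inl : E →* Twist E c p q where
  toFun g := ⟨g, 0, 0⟩
  map_one' := rfl
  map_mul' g h := by
    apply Twist.ext
    · simp [beta]
    · simp
    · simp

@[simp] theorem inl_g (k : E) : (inl k : Twist E c p q).g = k := rfl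
@[simp] theorem inl_x (k : E) : (inl k : Twist E c p q).x = 0 := rfl
@[simp] theorem inl_y (k : E) : (inl k : Twist E c p q).y = 0 := rfl

theorem inl_injective : Function.Injective (inl : E → Twist E c p q) := by
  intro g h hgh
  exact congrArg Twist.g hgh

theorem inl_mul (k : E) (a : Twist E c p q) : inl k * a = ⟨k * a.g, a.x, a.y⟩ := by
  apply Twist.ext
  · simp [beta]
  · simp
  · simp

theorem mul_inl (a : Twist E c p q) (k : E) : a * inl k = ⟨a.g * k, a.x, a.y⟩ := by
  apply Twist.ext
  · simp [beta]
  · simp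
  · simp

theorem eq_inl_iff (a : Twist E c p q) (k : E) : a = inl k ↔ a.g = k ∧ a.x = 0 ∧ a.y = 0 := by
  constructor
  · rintro rfl; exact ⟨rfl, rfl, rfl⟩
  · rintro ⟨h1, h2, h3⟩
    exact Twist.ext h1 h2 h3

/-- The second generator-coordinate as a homomorphism. -/
def ypr : Twist E c p q →* Multiplicative (ZMod 2) where
  toFun a := Multiplicative.ofAdd a.y
  map_one' := rfl
  map_mul' a b := rfl

/-- The involution `e`. -/
def eT : Twist E c p q := ⟨1, 1, 0⟩

/-- The element `f`. -/
def fT : Twist E c p q := ⟨1, 0, 1⟩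

end Twist

/-- A group all of whose squares and commutators lie in `{1, c}`, with centre `{1, c}`. -/
structure Good (E : Type*) [Group E] (c : E) : Prop where
  ne_one : c ≠ 1
  sq : c * c = 1
  central : ∀ g : E, g * c = c * g
  sqs : ∀ g : E, g * g = 1 ∨ g * g = c
  comm : ∀ g h : E, g * h * g⁻¹ * h⁻¹ = 1 ∨ g * h * g⁻¹ * h⁻¹ = c
  cent : ∀ g : E, (∀ h : E, g * h = h * g) → g = 1 ∨ g = c

theorem one_or_mul {E : Type*} [Group E] {c : E} (hc : c * c = 1) {u v : E} (hu : u = 1 ∨ u = c)
    (hv : v = 1 ∨ v = c) : u * v = 1 ∨ u * v = c := by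
  rcases hu with rfl | rfl <;> rcases hv with rfl | rfl
  · left; simp
  · right; simp
  · right; simp
  · left; exact hc

namespace Twist

variable {E : Type*} [Group E] {c : CentralInv E} {p q : ZMod 2}

theorem good (h : Good E c.val) : Good (Twist E c p q) (inl c.val) where
  ne_one := by
    intro h1
    exact h.ne_one (congrArg Twist.g h1)
  sq := by
    rw [← map_mul, c.sq, map_one]
  central := by
    intro a
    rw [mul_inl, inl_mul, c.central]
  sqs := by
    intro a
    have h1 : a.g * a.g * c.pw (beta p q a.x a.y a.x a.y) = 1 ∨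
        a.g * a.g * c.pw (beta p q a.x a.y a.x a.y) = c.val :=
      one_or_mul c.sq (h.sqs a.g) (c.pw_cases _)
    rcases h1 with h1 | h1
    · left
      apply Twist.ext
      · simp only [mul_g, one_g]; exact h1
      · simp only [mul_x, one_x]; exact CharTwo.add_self_eq_zero _
      · simp only [mul_y, one_y]; exact CharTwo.add_self_eq_zero _
    · right
      apply Twist.ext
      · simp only [mul_g, inl_g]; exact h1
      · simp only [mul_x, inl_x]; exact CharTwo.add_self_eq_zero _
      · simp only [mul_y, inl_y]; exact CharTwo.add_self_eq_zero _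
  comm := by
    intro a b
    -- a * b = inl k * (b * a)
    have hk : a.g * b.g * a.g⁻¹ * b.g⁻¹ * (c.pw (beta p q a.x a.y b.x b.y) * c.pw (beta p q b.x b.y a.x a.y)) = 1 ∨
        a.g * b.g * a.g⁻¹ * b.g⁻¹ * (c.pw (beta p q a.x a.y b.x b.y) * c.pw (beta p q b.x b.y a.x a.y)) = c.val :=
      one_or_mul c.sq (h.comm a.g b.g) (one_or_mul c.sq (c.pw_cases _) (c.pw_cases _))
    have key : a * b = inl (a.g * b.g * a.g⁻¹ * b.g⁻¹ *
        (c.pw (beta p q a.x a.y b.x b.y) * c.pw (beta p q b.x b.y a.x a.y))) * (b * a) := by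
      rw [inl_mul]
      apply Twist.ext
      · simp only [mul_g]
        have e1 := c.pw_central (beta p q a.x a.y b.x b.y) (b.g * a.g)
        have e2 := c.pw_central (beta p q b.x b.y a.x a.y) (b.g * a.g)
        calc a.g * b.g * c.pw (beta p q a.x a.y b.x b.y)
            = a.g * b.g * c.pw (beta p q a.x a.y b.x b.y) *
              (c.pw (beta p q b.x b.y a.x a.y) * c.pw (beta p q b.x b.y a.x a.y)) := by
              rw [c.pw_mul_self, mul_one]
          _ = a.g * b.g * a.g⁻¹ * b.g⁻¹ * ((b.g * a.g) * c.pw (beta p q a.x a.y b.x b.y)) *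
              c.pw (beta p q b.x b.y a.x a.y) * c.pw (beta p q b.x b.y a.x a.y) := by group
          _ = a.g * b.g * a.g⁻¹ * b.g⁻¹ * (c.pw (beta p q a.x a.y b.x b.y) * (b.g * a.g)) *
              c.pw (beta p q b.x b.y a.x a.y) * c.pw (beta p q b.x b.y a.x a.y) := by rw [e1]
          _ = a.g * b.g * a.g⁻¹ * b.g⁻¹ * c.pw (beta p q a.x a.y b.x b.y) *
              ((b.g * a.g) * c.pw (beta p q b.x b.y a.x a.y)) * c.pw (beta p q b.x b.y a.x a.y) := by
              group
          _ = a.g * b.g * a.g⁻¹ * b.g⁻¹ * c.pw (beta p q a.x a.y b.x b.y) *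
              (c.pw (beta p q b.x b.y a.x a.y) * (b.g * a.g)) * c.pw (beta p q b.x b.y a.x a.y) := by
              rw [e2]
          _ = a.g * b.g * a.g⁻¹ * b.g⁻¹ *
              (c.pw (beta p q a.x a.y b.x b.y) * c.pw (beta p q b.x b.y a.x a.y)) *
              (b.g * a.g * c.pw (beta p q b.x b.y a.x a.y)) := by group
      · simp only [mul_x]; exact add_comm _ _
      · simp only [mul_y]; exact add_comm _ _
    have e : a * b * a⁻¹ * b⁻¹ = (a * b) * (b * a)⁻¹ := by group
    rw [e, key, mul_inv_cancel_right]
    rcases hk with hk | hk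
    · left; rw [hk, map_one]
    · right; rw [hk]
  cent := by
    intro a ha
    have hg : a.g = 1 ∨ a.g = c.val := by
      apply h.cent
      intro k
      have := congrArg Twist.g (ha (inl k))
      rw [mul_inl, inl_mul] at this
      exact this
    have hy : a.y = 0 := by
      have := congrArg Twist.g (ha eT)
      simp only [mul_g, eT, beta, mul_one, one_mul, mul_zero, zero_mul, add_zero, zero_add] at this
      have h2 : c.pw (p * a.x + a.y) = c.pw (p * a.x) := mul_left_cancel this
      rw [c.pw_add] at h2
      have h3 : c.pw a.y = 1 := by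
        have := mul_left_cancel (h2.trans (mul_one _).symm)
        exact this
      exact (c.pw_eq_one_iff h.ne_one _).mp h3
    have hx : a.x = 0 := by
      have := congrArg Twist.g (ha fT)
      simp only [mul_g, fT, beta, mul_one, one_mul, mul_zero, zero_mul, add_zero, zero_add] at this
      have h2 : c.pw (q * a.y) = c.pw (a.x + q * a.y) := mul_left_cancel this
      rw [c.pw_add] at h2
      have h3 : c.pw a.x = 1 := by
        have := mul_right_cancel ((one_mul _).trans h2)
        exact this.symm
      exact (c.pw_eq_one_iff h.ne_one _).mp h3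
    rcases hg with hg | hg
    · left
      exact Twist.ext hg hx hy
    · right
      exact Twist.ext hg hx hy

/-- The central involution of the twisted product. -/
def cinv : CentralInv (Twist E c p q) where
  val := inl c.val
  central := by
    intro a
    rw [mul_inl, inl_mul, c.central]
  sq := by
    rw [← map_mul, c.sq, map_one]

@[simp] theorem cinv_val : (cinv : CentralInv (Twist E c p q)).val = inl c.val := rfl

end Twist

end Cfsg.Agent.Helper89
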