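import Mathlib
import Cfsg.Prelude.Def_Transfer
import Cfsg.Agent.S0012
import Cfsg.Agent.Lib.Helper47.Frat
import Cfsg.Agent.Lib.Helper89.Twist

set_option autoImplicit false

namespace Cfsg.Agent.Helper89

open scoped commutatorElement

/-- A finite non-abelian group with all squares and commutators in `{1, c}` and centre `{1, c}`
is an extraspecial `2`-group. -/
theorem Good.isExtraspecial {E : Type*} [Group E] [Finite E] {c : E} (h : Good E c)
    (hna : ∃ g k : E, g * k ≠ k * g) : Cfsg.IsExtraspecial 2 E := by
  have : Fact (Nat.Prime 2) := ⟨Nat.prime_two⟩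
  have hcen : ∀ g : E, g ∈ Subgroup.center E ↔ g = 1 ∨ g = c := by
    intro g
    constructor
    · intro hg
      apply h.cent
      intro k
      exact ((Subgroup.mem_center_iff.mp hg) k).symm
    · rintro (rfl | rfl)
      · exact Subgroup.one_mem _
      · rw [Subgroup.mem_center_iff]
        intro k
        exact h.central k
  have hP : IsPGroup 2 E := by
    intro g
    refine ⟨2, ?_⟩
    have e : g ^ 2 ^ 2 = (g * g) * (g * g) := by
      norm_num [pow_succ]
      group
    rw [e]
    rcases h.sqs g with h1 | h1
    · rw [h1]; simp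
    · rw [h1]; exact h.sq
  have hcomm : commutator E = Subgroup.center E := by
    apply le_antisymm
    · rw [commutator_eq_closure, Subgroup.closure_le]
      rintro _ ⟨g, k, rfl⟩
      rw [SetLike.mem_coe, hcen, commutatorElement_def]
      exact h.comm g k
    · intro g hg
      rcases (hcen g).mp hg with rfl | rfl
      · exact Subgroup.one_mem _
      · obtain ⟨g0, k0, hgk⟩ := hna
        have h1 : g0 * k0 * g0⁻¹ * k0⁻¹ = g := by
          rcases h.comm g0 k0 with h1 | h1
          · exfalso
            apply hgk
            have := congrArg (fun w => w * k0 * g0) h1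
            simpa [mul_assoc] using this
          · exact h1
        rw [← h1, ← commutatorElement_def, commutator_def]
        exact Subgroup.commutator_mem_commutator (Subgroup.mem_top _) (Subgroup.mem_top _)
  have hS12 := Cfsg.Agent.S0012.result 2 hP
  have hfrat : frattini E = Subgroup.center E := by
    apply le_antisymm
    · have hker := Cfsg.Agent.Helper47.frattini_le_ker_of_elementary (p := 2)
        (QuotientGroup.mk' (Subgroup.center E))
        (fun x y => by
          rw [← map_mul, ← map_mul, QuotientGroup.mk'_apply, QuotientGroup.mk'_apply, QuotientGroup.eq]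
          have e : (x * y)⁻¹ * (y * x) = y⁻¹ * x⁻¹ * y⁻¹⁻¹ * x⁻¹⁻¹ := by group
          rw [e, hcen]
          exact h.comm y⁻¹ x⁻¹)
        (fun x => by
          rw [← map_pow, QuotientGroup.mk'_apply, QuotientGroup.eq_one_iff, hcen, pow_two]
          exact h.sqs x)
      rw [QuotientGroup.ker_mk'] at hker
      exact hker
    · rw [← hcomm]
      exact hS12.1
  refine ⟨⟨hP, hfrat, hcomm⟩, ?_⟩
  rw [Nat.card_eq_two_iff]
  refine ⟨⟨1, Subgroup.one_mem _⟩, ⟨c, (hcen c).mpr (Or.inr rfl)⟩, ?_, ?_⟩
  · intro h1
    apply h.ne_one
    exact (congrArg Subtype.val h1).symm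
  · ext x
    simp only [Set.mem_insert_iff, Set.mem_singleton_iff, Set.mem_univ, iff_true]
    rcases (hcen x.1).mp x.2 with h1 | h1
    · left; exact Subtype.ext h1
    · right; exact Subtype.ext h1

end Cfsg.Agent.Helper89
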