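import Mathlib

set_option autoImplicit false

namespace Cfsg.Agent.Helper89

/-- Pairs of group elements, carrying the diagonal conjugation action. -/
@[ext]
structure ConjPair (G : Type*) where
  fst : G
  snd : G

/-- The diagonal conjugation action of a subgroup on pairs of elements. -/
instance conjPairAction {G : Type*} [Group G] (N : Subgroup G) : MulAction N (ConjPair G) where
  smul x p := ⟨(x : G) * p.fst * (x : G)⁻¹, (x : G) * p.snd * (x : G)⁻¹⟩
  one_smul := by
    intro p
    show (⟨((1 : N) : G) * p.fst * ((1 : N) : G)⁻¹, ((1 : N) : G) * p.snd * ((1 : N) : G)⁻¹⟩ : ConjPair G) = p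
    ext <;> simp
  mul_smul := by
    intro x y p
    show (⟨((x * y : N) : G) * p.fst * ((x * y : N) : G)⁻¹, ((x * y : N) : G) * p.snd * ((x * y : N) : G)⁻¹⟩ : ConjPair G) =
      ⟨(x : G) * ((y : G) * p.fst * (y : G)⁻¹) * (x : G)⁻¹, (x : G) * ((y : G) * p.snd * (y : G)⁻¹) * (x : G)⁻¹⟩
    ext <;> simp [mul_assoc]

theorem conjPair_smul_def {G : Type*} [Group G] (N : Subgroup G) (x : N) (u v : G) :
    x • (⟨u, v⟩ : ConjPair G) = ⟨(x : G) * u * (x : G)⁻¹, (x : G) * v * (x : G)⁻¹⟩ := rfl

theorem mem_normalizer_of_conj_mem {G : Type*} [Group G] (V : Subgroup G) (x : G)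
    (h1 : ∀ v ∈ V, x * v * x⁻¹ ∈ V) (h2 : ∀ v ∈ V, x⁻¹ * v * x ∈ V) :
    x ∈ Subgroup.normalizer (V : Set G) := by
  rw [Subgroup.mem_normalizer_iff]
  intro v
  constructor
  · exact h1 v
  · intro hv
    have := h2 _ hv
    simpa [mul_assoc] using this

/-- If a four-group `V = {1, z, a, za}` admits an element fixing `z` and moving `a`, and an element
fixing `a` and moving `z`, then its normalizer induces the full automorphism group: the centralizer
has index 6 in the normalizer. -/
theorem relIndex_centralizer_normalizer_four {G : Type*} [Group G] (V : Subgroup G) (z a : G)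
    (hV : ∀ x, x ∈ V ↔ x = 1 ∨ x = z ∨ x = a ∨ x = z * a)
    (hz1 : z ≠ 1) (ha1 : a ≠ 1) (hza : z ≠ a) (hzsq : z * z = 1) (hasq : a * a = 1)
    (hcomm : z * a = a * z)
    (q p : G) (hqz : q * z * q⁻¹ = z) (hqa : q * a * q⁻¹ = z * a) (hpa : p * a * p⁻¹ = a)
    (hpz : p * z * p⁻¹ = z * a) :
    (Subgroup.centralizer (V : Set G)).relIndex (Subgroup.normalizer (V : Set G)) = 6 := by
  classical
  have hzinv : z⁻¹ = z := inv_eq_of_mul_eq_one_right hzsq
  have hainv : a⁻¹ = a := inv_eq_of_mul_eq_one_right hasq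
  have hzV : z ∈ V := (hV z).mpr (Or.inr (Or.inl rfl))
  have haV : a ∈ V := (hV a).mpr (Or.inr (Or.inr (Or.inl rfl)))
  have hzaV : z * a ∈ V := (hV _).mpr (Or.inr (Or.inr (Or.inr rfl)))
  have hza_z : z * a ≠ z := by
    intro h
    apply ha1
    have := congrArg (fun w => z⁻¹ * w) h
    simpa using this
  have hza_a : z * a ≠ a := by
    intro h
    apply hz1
    have := congrArg (fun w => w * a⁻¹) h
    simpa using this
  have hza_1 : z * a ≠ 1 := by
    intro h
    apply hza
    have := congrArg (fun w => w * a) h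
    simp only [mul_assoc, hasq, mul_one, one_mul] at this
    exact this
  -- conjugation of products
  have conj_mul : ∀ x u v : G, x * (u * v) * x⁻¹ = (x * u * x⁻¹) * (x * v * x⁻¹) := by
    intro x u v; group
  have hq_za : q * (z * a) * q⁻¹ = a := by
    rw [conj_mul, hqz, hqa, ← mul_assoc, hzsq, one_mul]
  have hp_za : p * (z * a) * p⁻¹ = z := by
    rw [conj_mul, hpz, hpa, mul_assoc, hasq, mul_one]
  -- inverse conjugations
  have inv_conj : ∀ x u v : G, x * u * x⁻¹ = v → x⁻¹ * v * x = u := by
    intro x u v h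
    rw [← h]; group
  have hqi_z := inv_conj q z z hqz
  have hqi_za := inv_conj q a (z * a) hqa
  have hqi_a := inv_conj q (z * a) a hq_za
  have hpi_a := inv_conj p a a hpa
  have hpi_za := inv_conj p z (z * a) hpz
  have hpi_z := inv_conj p (z * a) z hp_za
  have hqN : q ∈ Subgroup.normalizer (V : Set G) := by
    apply mem_normalizer_of_conj_mem
    · intro v hv
      rcases (hV v).mp hv with h | h | h | h
      · rw [h]; simp [V.one_mem]
      · rw [h, hqz]; exact hzV
      · rw [h, hqa]; exact hzaV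
      · rw [h, hq_za]; exact haV
    · intro v hv
      rcases (hV v).mp hv with h | h | h | h
      · rw [h]; simp [V.one_mem]
      · rw [h, hqi_z]; exact hzV
      · rw [h, hqi_a]; exact hzaV
      · rw [h, hqi_za]; exact haV
  have hpN : p ∈ Subgroup.normalizer (V : Set G) := by
    apply mem_normalizer_of_conj_mem
    · intro v hv
      rcases (hV v).mp hv with h | h | h | h
      · rw [h]; simp [V.one_mem]
      · rw [h, hpz]; exact hzaV
      · rw [h, hpa]; exact haV
      · rw [h, hp_za]; exact hzV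
    · intro v hv
      rcases (hV v).mp hv with h | h | h | h
      · rw [h]; simp [V.one_mem]
      · rw [h, hpi_z]; exact hzaV
      · rw [h, hpi_a]; exact haV
      · rw [h, hpi_za]; exact hzV
  let N : Subgroup G := Subgroup.normalizer (V : Set G)
  have hsmul : ∀ (x : N) (u v : G), x • (⟨u, v⟩ : ConjPair G) =
      ⟨(x : G) * u * (x : G)⁻¹, (x : G) * v * (x : G)⁻¹⟩ :=
    fun x u v => conjPair_smul_def N x u v
  -- stabilizer
  have hstab : MulAction.stabilizer N (⟨z, a⟩ : ConjPair G) = (Subgroup.centralizer (V : Set G)).subgroupOf N := by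
    ext x
    rw [MulAction.mem_stabilizer_iff, hsmul, Subgroup.mem_subgroupOf, Subgroup.mem_centralizer_iff]
    constructor
    · intro h
      have h1 : (x : G) * z * (x : G)⁻¹ = z := congrArg ConjPair.fst h
      have h2 : (x : G) * a * (x : G)⁻¹ = a := congrArg ConjPair.snd h
      have c1 : z * (x : G) = (x : G) * z := by
        have := congrArg (fun w => w * (x : G)) h1
        simpa [mul_assoc] using this.symm
      have c2 : a * (x : G) = (x : G) * a := by
        have := congrArg (fun w => w * (x : G)) h2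
        simpa [mul_assoc] using this.symm
      intro v hv
      rcases (hV v).mp hv with h | h | h | h
      · rw [h]; simp
      · rw [h]; exact c1
      · rw [h]; exact c2
      · rw [h, mul_assoc, c2, ← mul_assoc, c1, mul_assoc]
    · intro h
      have c1 := h z hzV
      have c2 := h a haV
      have h1 : (x : G) * z * (x : G)⁻¹ = z := by rw [← c1]; group
      have h2 : (x : G) * a * (x : G)⁻¹ = a := by rw [← c2]; group
      rw [h1, h2]
  -- orbit
  have horb : MulAction.orbit N (⟨z, a⟩ : ConjPair G) =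
      ({⟨z, a⟩, ⟨z, z * a⟩, ⟨z * a, a⟩, ⟨a, z * a⟩, ⟨z * a, z⟩, ⟨a, z⟩} : Set (ConjPair G)) := by
    ext ⟨u, v⟩
    constructor
    · rintro ⟨x, hx⟩
      replace hx : x • (⟨z, a⟩ : ConjPair G) = (⟨u, v⟩ : ConjPair G) := hx
      rw [hsmul] at hx
      have hu : (x : G) * z * (x : G)⁻¹ = u := congrArg ConjPair.fst hx
      have hv : (x : G) * a * (x : G)⁻¹ = v := congrArg ConjPair.snd hx
      have hxN := x.2
      have huV : u ∈ V := by
        rw [← hu]; exact (Subgroup.mem_normalizer_iff.mp hxN z).mp hzV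
      have hvV : v ∈ V := by
        rw [← hv]; exact (Subgroup.mem_normalizer_iff.mp hxN a).mp haV
      have hu1 : u ≠ 1 := by
        intro h
        apply hz1
        rw [h] at hu
        have := congrArg (fun w => (x : G)⁻¹ * w * (x : G)) hu
        simpa [mul_assoc] using this
      have hv1 : v ≠ 1 := by
        intro h
        apply ha1
        rw [h] at hv
        have := congrArg (fun w => (x : G)⁻¹ * w * (x : G)) hv
        simpa [mul_assoc] using this
      have huv : u ≠ v := by
        intro h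
        apply hza
        rw [← hu, ← hv] at h
        have := congrArg (fun w => (x : G)⁻¹ * w * (x : G)) h
        simpa [mul_assoc] using this
      simp only [Set.mem_insert_iff, Set.mem_singleton_iff, ConjPair.mk.injEq]
      rcases (hV u).mp huV with h | h | h | h <;> rcases (hV v).mp hvV with h' | h' | h' | h'
      all_goals first
        | exact absurd h hu1
        | exact absurd h' hv1
        | exact absurd (h.trans h'.symm) huv
        | (subst h; subst h'; simp_all)
    · intro h
      simp only [Set.mem_insert_iff, Set.mem_singleton_iff, ConjPair.mk.injEq] at h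
      have mk : ∀ (x : N) (u' v' : G), (x : G) * z * (x : G)⁻¹ = u' → (x : G) * a * (x : G)⁻¹ = v' →
          (⟨u', v'⟩ : ConjPair G) ∈ MulAction.orbit N (⟨z, a⟩ : ConjPair G) := by
        intro x u' v' h1 h2
        refine ⟨x, ?_⟩
        show x • _ = _
        rw [hsmul, h1, h2]
      rcases h with ⟨h1, h2⟩ | ⟨h1, h2⟩ | ⟨h1, h2⟩ | ⟨h1, h2⟩ | ⟨h1, h2⟩ | ⟨h1, h2⟩
      · rw [h1, h2]
        exact mk 1 z a (by simp) (by simp)
      · rw [h1, h2]
        exact mk ⟨q, hqN⟩ z (z * a) hqz hqa
      · rw [h1, h2]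
        exact mk ⟨p, hpN⟩ (z * a) a hpz hpa
      · rw [h1, h2]
        refine mk ⟨q * p, N.mul_mem hqN hpN⟩ a (z * a) ?_ ?_
        · have e1 : q * p * z * (q * p)⁻¹ = q * (p * z * p⁻¹) * q⁻¹ := by group
          show q * p * z * (q * p)⁻¹ = a
          rw [e1, hpz, hq_za]
        · have e2 : q * p * a * (q * p)⁻¹ = q * (p * a * p⁻¹) * q⁻¹ := by group
          show q * p * a * (q * p)⁻¹ = z * a
          rw [e2, hpa, hqa]
      · rw [h1, h2]
        refine mk ⟨p * q, N.mul_mem hpN hqN⟩ (z * a) z ?_ ?_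
        · have e1 : p * q * z * (p * q)⁻¹ = p * (q * z * q⁻¹) * p⁻¹ := by group
          show p * q * z * (p * q)⁻¹ = z * a
          rw [e1, hqz, hpz]
        · have e2 : p * q * a * (p * q)⁻¹ = p * (q * a * q⁻¹) * p⁻¹ := by group
          show p * q * a * (p * q)⁻¹ = z
          rw [e2, hqa, hp_za]
      · rw [h1, h2]
        refine mk ⟨q * p * q, N.mul_mem (N.mul_mem hqN hpN) hqN⟩ a z ?_ ?_
        · have e1 : q * p * q * z * (q * p * q)⁻¹ = q * (p * (q * z * q⁻¹) * p⁻¹) * q⁻¹ := by group
          show q * p * q * z * (q * p * q)⁻¹ = a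
          rw [e1, hqz, hpz, hq_za]
        · have e2 : q * p * q * a * (q * p * q)⁻¹ = q * (p * (q * a * q⁻¹) * p⁻¹) * q⁻¹ := by group
          show q * p * q * a * (q * p * q)⁻¹ = z
          rw [e2, hqa, hp_za, hqz]
  have hcard : ({⟨z, a⟩, ⟨z, z * a⟩, ⟨z * a, a⟩, ⟨a, z * a⟩, ⟨z * a, z⟩, ⟨a, z⟩} : Set (ConjPair G)).ncard = 6 := by
    have : ({⟨z, a⟩, ⟨z, z * a⟩, ⟨z * a, a⟩, ⟨a, z * a⟩, ⟨z * a, z⟩, ⟨a, z⟩} : Set (ConjPair G)) =
        (({⟨z, a⟩, ⟨z, z * a⟩, ⟨z * a, a⟩, ⟨a, z * a⟩, ⟨z * a, z⟩, ⟨a, z⟩} : Finset (ConjPair G)) : Set (ConjPair G)) := by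
      simp
    rw [this, Set.ncard_coe_finset]
    have hne1 : z ≠ z * a := fun h => hza_z h.symm
    have hne2 : a ≠ z * a := fun h => hza_a h.symm
    have hne3 : a ≠ z := fun h => hza h.symm
    rw [Finset.card_insert_of_notMem, Finset.card_insert_of_notMem, Finset.card_insert_of_notMem,
      Finset.card_insert_of_notMem, Finset.card_insert_of_notMem, Finset.card_singleton]
    all_goals simp [hza, hne1, hne2, hne3, hza_z, hza_a]
  have h1 := MulAction.index_stabilizer N (⟨z, a⟩ : ConjPair G)
  rw [hstab, horb, hcard] at h1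
  exact h1

end Cfsg.Agent.Helper89
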