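import Mathlib

set_option autoImplicit false

namespace Cfsg.Agent.Helper89

/-- The conjugation action of a subgroup `R` normalizing `P` and `A ≤ P` on the left cosets of `A` in `P`. -/
@[instance_reducible]
def cosetConjAction {G : Type*} [Group G] (R P A : Subgroup G)
    (hRP : ∀ r ∈ R, ∀ x ∈ P, r * x * r⁻¹ ∈ P) (hRA : ∀ r ∈ R, ∀ x ∈ A, r * x * r⁻¹ ∈ A) :
    MulAction R (P ⧸ A.subgroupOf P) where
  smul r := Quotient.map' (fun x : P => (⟨(r : G) * x * (r : G)⁻¹, hRP r r.2 x x.2⟩ : P)) (by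
    intro x y hxy
    rw [QuotientGroup.leftRel_apply] at hxy ⊢
    rw [Subgroup.mem_subgroupOf] at hxy ⊢
    have h1 := hRA r r.2 _ hxy
    have e : (((⟨(r : G) * x * (r : G)⁻¹, hRP r r.2 x x.2⟩ : P)⁻¹ *
        (⟨(r : G) * y * (r : G)⁻¹, hRP r r.2 y y.2⟩ : P) : P) : G) =
        (r : G) * ((x⁻¹ * y : P) : G) * (r : G)⁻¹ := by
      simp only [Subgroup.coe_mul, Subgroup.coe_inv]
      group
    rw [e]
    exact h1)
  one_smul := by
    intro q
    induction q using Quotient.inductionOn' with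
    | h x =>
      show Quotient.map' _ _ (Quotient.mk'' x) = Quotient.mk'' x
      rw [Quotient.map'_mk'']
      congr 1
      apply Subtype.ext
      simp
  mul_smul := by
    intro r s q
    induction q using Quotient.inductionOn' with
    | h x =>
      show Quotient.map' _ _ (Quotient.mk'' x) =
        Quotient.map' _ _ (Quotient.map' _ _ (Quotient.mk'' x))
      rw [Quotient.map'_mk'', Quotient.map'_mk'', Quotient.map'_mk'']
      congr 1
      apply Subtype.ext
      simp only [Subgroup.coe_mul, mul_inv_rev]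
      group

/-- Fixed points for a `p`-group acting by conjugation on the cosets of an invariant subgroup `A`
of an invariant `p`-subgroup `P`. -/
theorem exists_fixed_coset {G : Type*} [Group G] {p : ℕ} [Fact p.Prime] (R P A : Subgroup G)
    [Finite P] (hR : IsPGroup p R) (hP : IsPGroup p P) (hAP : A ≤ P) (hne : A ≠ P)
    (hRP : ∀ r ∈ R, ∀ x ∈ P, r * x * r⁻¹ ∈ P) (hRA : ∀ r ∈ R, ∀ x ∈ A, r * x * r⁻¹ ∈ A) :
    ∃ t ∈ P, t ∉ A ∧ ∀ r ∈ R, t⁻¹ * (r * t * r⁻¹) ∈ A := by
  let _ := cosetConjAction R P A hRP hRA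
  have hsmul : ∀ (r : R) (x : P), r • (QuotientGroup.mk x : P ⧸ A.subgroupOf P) =
      QuotientGroup.mk (⟨(r : G) * x * (r : G)⁻¹, hRP r r.2 x x.2⟩ : P) := by
    intro r x
    rfl
  have hdvd : p ∣ Nat.card (P ⧸ A.subgroupOf P) := by
    have h1 : Nat.card (P ⧸ A.subgroupOf P) = (A.subgroupOf P).index := rfl
    rw [h1]
    obtain ⟨n, hn⟩ := hP.index (A.subgroupOf P)
    rw [hn]
    have hn0 : n ≠ 0 := by
      intro h0
      rw [h0, pow_zero, Subgroup.index_eq_one, Subgroup.subgroupOf_eq_top] at hn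
      exact hne (le_antisymm hAP hn)
    exact dvd_pow_self p hn0
  have hfix : (QuotientGroup.mk (1 : P) : P ⧸ A.subgroupOf P) ∈ MulAction.fixedPoints R (P ⧸ A.subgroupOf P) := by
    intro r
    rw [hsmul]
    congr 1
    apply Subtype.ext
    simp
  obtain ⟨b, hb, hb1⟩ := hR.exists_fixed_point_of_prime_dvd_card_of_fixed_point
    (P ⧸ A.subgroupOf P) hdvd hfix
  induction b using Quotient.inductionOn' with
  | h t =>
    refine ⟨t, t.2, ?_, ?_⟩
    · intro htA
      apply hb1
      symm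
      rw [show (Quotient.mk'' t : P ⧸ A.subgroupOf P) = QuotientGroup.mk t from rfl]
      rw [QuotientGroup.eq, Subgroup.mem_subgroupOf]
      simpa using htA
    · intro r hr
      have h1 := hb ⟨r, hr⟩
      rw [show (Quotient.mk'' t : P ⧸ A.subgroupOf P) = QuotientGroup.mk t from rfl, hsmul] at h1
      have h2 := QuotientGroup.eq.mp h1.symm
      rw [Subgroup.mem_subgroupOf] at h2
      simpa using h2

end Cfsg.Agent.Helper89
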