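import Mathlib

set_option autoImplicit false

namespace Cfsg.Agent.Helper89

/-- A group identity: if `R₁, R₂` move `T` by elements `A₁, A₂` which commute with each other and
with `R₁, R₂`, then the commutator of `R₁, R₂` fixes `T`. -/
theorem commutator_fixes {H : Type*} [Group H] (T R1 R2 A1 A2 : H)
    (h1 : R1 * T * R1⁻¹ = T * A1) (h2 : R2 * T * R2⁻¹ = T * A2)
    (hA : A1 * A2 = A2 * A1)
    (h11 : R1 * A1 = A1 * R1) (h12 : R1 * A2 = A2 * R1)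
    (h21 : R2 * A1 = A1 * R2) (h22 : R2 * A2 = A2 * R2) :
    (R1 * R2 * R1⁻¹ * R2⁻¹) * T * (R1 * R2 * R1⁻¹ * R2⁻¹)⁻¹ = T := by
  -- inverse conjugations
  have c11 : R1 * A1 * R1⁻¹ = A1 := by rw [h11]; group
  have c12 : R1 * A2 * R1⁻¹ = A2 := by rw [h12]; group
  have c21 : R2 * A1 * R2⁻¹ = A1 := by rw [h21]; group
  have c22 : R2 * A2 * R2⁻¹ = A2 := by rw [h22]; group
  have c11' : R1⁻¹ * A1 * R1 = A1 := by
    calc R1⁻¹ * A1 * R1 = R1⁻¹ * (A1 * R1) := by group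
      _ = R1⁻¹ * (R1 * A1) := by rw [h11]
      _ = A1 := by group
  have c12' : R1⁻¹ * A2 * R1 = A2 := by
    calc R1⁻¹ * A2 * R1 = R1⁻¹ * (A2 * R1) := by group
      _ = R1⁻¹ * (R1 * A2) := by rw [h12]
      _ = A2 := by group
  have c21' : R2⁻¹ * A1 * R2 = A1 := by
    calc R2⁻¹ * A1 * R2 = R2⁻¹ * (A1 * R2) := by group
      _ = R2⁻¹ * (R2 * A1) := by rw [h21]
      _ = A1 := by group
  have c22' : R2⁻¹ * A2 * R2 = A2 := by
    calc R2⁻¹ * A2 * R2 = R2⁻¹ * (A2 * R2) := by group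
      _ = R2⁻¹ * (R2 * A2) := by rw [h22]
      _ = A2 := by group
  have i1 : R1⁻¹ * T * R1 = T * A1⁻¹ := by
    have e : R1⁻¹ * (R1 * T * R1⁻¹) * R1 = T := by group
    rw [h1] at e
    have e2 : R1⁻¹ * (T * A1) * R1 = (R1⁻¹ * T * R1) * (R1⁻¹ * A1 * R1) := by group
    rw [e2, c11'] at e
    exact eq_mul_inv_of_mul_eq e
  have i2 : R2⁻¹ * T * R2 = T * A2⁻¹ := by
    have e : R2⁻¹ * (R2 * T * R2⁻¹) * R2 = T := by group
    rw [h2] at e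
    have e2 : R2⁻¹ * (T * A2) * R2 = (R2⁻¹ * T * R2) * (R2⁻¹ * A2 * R2) := by group
    rw [e2, c22'] at e
    exact eq_mul_inv_of_mul_eq e
  have c12i : R1⁻¹ * A2⁻¹ * R1 = A2⁻¹ := by
    have : R1⁻¹ * A2⁻¹ * R1 = (R1⁻¹ * A2 * R1)⁻¹ := by group
    rw [this, c12']
  have c21i : R2 * A1⁻¹ * R2⁻¹ = A1⁻¹ := by
    have : R2 * A1⁻¹ * R2⁻¹ = (R2 * A1 * R2⁻¹)⁻¹ := by group
    rw [this, c21]
  have c22i : R2 * A2⁻¹ * R2⁻¹ = A2⁻¹ := by
    have : R2 * A2⁻¹ * R2⁻¹ = (R2 * A2 * R2⁻¹)⁻¹ := by group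
    rw [this, c22]
  have c11i : R1 * A1⁻¹ * R1⁻¹ = A1⁻¹ := by
    have : R1 * A1⁻¹ * R1⁻¹ = (R1 * A1 * R1⁻¹)⁻¹ := by group
    rw [this, c11]
  have c12i' : R1 * A2⁻¹ * R1⁻¹ = A2⁻¹ := by
    have : R1 * A2⁻¹ * R1⁻¹ = (R1 * A2 * R1⁻¹)⁻¹ := by group
    rw [this, c12]
  -- step by step
  have s1 : R2⁻¹ * T * R2 = T * A2⁻¹ := i2
  have s2 : R1⁻¹ * (T * A2⁻¹) * R1 = T * A1⁻¹ * A2⁻¹ := by
    have : R1⁻¹ * (T * A2⁻¹) * R1 = (R1⁻¹ * T * R1) * (R1⁻¹ * A2⁻¹ * R1) := by group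
    rw [this, i1, c12i]
  have s3 : R2 * (T * A1⁻¹ * A2⁻¹) * R2⁻¹ = T * A2 * A1⁻¹ * A2⁻¹ := by
    have : R2 * (T * A1⁻¹ * A2⁻¹) * R2⁻¹ =
        (R2 * T * R2⁻¹) * (R2 * A1⁻¹ * R2⁻¹) * (R2 * A2⁻¹ * R2⁻¹) := by group
    rw [this, h2, c21i, c22i]
  have s4 : R1 * (T * A2 * A1⁻¹ * A2⁻¹) * R1⁻¹ = T * A1 * A2 * A1⁻¹ * A2⁻¹ := by
    have : R1 * (T * A2 * A1⁻¹ * A2⁻¹) * R1⁻¹ =
        (R1 * T * R1⁻¹) * (R1 * A2 * R1⁻¹) * (R1 * A1⁻¹ * R1⁻¹) * (R1 * A2⁻¹ * R1⁻¹) := by group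
    rw [this, h1, c12, c11i, c12i']
  have e : (R1 * R2 * R1⁻¹ * R2⁻¹) * T * (R1 * R2 * R1⁻¹ * R2⁻¹)⁻¹ =
      R1 * (R2 * (R1⁻¹ * (R2⁻¹ * T * R2) * R1) * R2⁻¹) * R1⁻¹ := by group
  rw [e, s1, s2, s3, s4]
  have : T * A1 * A2 * A1⁻¹ * A2⁻¹ = T * ((A1 * A2) * A1⁻¹ * A2⁻¹) := by group
  rw [this, hA]; group

/-- "Three subgroups" modulo the central subgroup generated by `a`. -/
theorem commutator_fixes_mod {G : Type*} [Group G] (a : G) (A R : Subgroup G)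
    (hRa : ∀ x ∈ R, x * a = a * x)
    (hAA : ∀ x ∈ A, ∀ y ∈ A, x * y * x⁻¹ * y⁻¹ ∈ Subgroup.zpowers a)
    (hAR : ∀ s ∈ A, ∀ r ∈ R, s * r * s⁻¹ * r⁻¹ ∈ Subgroup.zpowers a)
    (t : G) (hta : t * a = a * t) (htR : ∀ r ∈ R, t⁻¹ * (r * t * r⁻¹) ∈ A)
    (r1 r2 : G) (hr1 : r1 ∈ R) (hr2 : r2 ∈ R) :
    (r1 * r2 * r1⁻¹ * r2⁻¹) * t * (r1 * r2 * r1⁻¹ * r2⁻¹)⁻¹ * t⁻¹ ∈ Subgroup.zpowers a := by
  let K : Subgroup G := Subgroup.centralizer {a}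
  have memK : ∀ x : G, x * a = a * x → x ∈ K := by
    intro x hx
    exact Subgroup.mem_centralizer_singleton_iff.mpr hx
  have haK : a ∈ K := memK a rfl
  let N : Subgroup K := (Subgroup.zpowers a).subgroupOf K
  have hNn : N.Normal := by
    constructor
    intro n hn k
    have hn' : (n : G) ∈ Subgroup.zpowers a := Subgroup.mem_subgroupOf.mp hn
    apply Subgroup.mem_subgroupOf.mpr
    obtain ⟨i, hi⟩ := Subgroup.mem_zpowers_iff.mp hn'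
    have hk : (k : G) * a = a * k := Subgroup.mem_centralizer_singleton_iff.mp k.2
    have hki : (k : G) * a ^ i = a ^ i * k := by
      have hc : Commute (k : G) a := hk
      exact (hc.zpow_right i)
    have : ((k * n * k⁻¹ : K) : G) = (n : G) := by
      simp only [Subgroup.coe_mul, Subgroup.coe_inv]
      rw [← hi, hki]; group
    rw [this]; exact hn'
  let π : K →* K ⧸ N := QuotientGroup.mk' N
  have hπ : ∀ x y : K, ((x : G)⁻¹ * (y : G)) ∈ Subgroup.zpowers a → π x = π y := by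
    intro x y hxy
    apply QuotientGroup.eq.mpr
    apply Subgroup.mem_subgroupOf.mpr
    simpa using hxy
  have hπ' : ∀ x : K, π x = 1 → (x : G) ∈ Subgroup.zpowers a := by
    intro x hx
    have := (QuotientGroup.eq_one_iff x).mp hx
    exact Subgroup.mem_subgroupOf.mp this
  let T : K := ⟨t, memK t hta⟩
  let R1 : K := ⟨r1, memK r1 (hRa r1 hr1)⟩
  let R2 : K := ⟨r2, memK r2 (hRa r2 hr2)⟩
  let A1 : K := T⁻¹ * (R1 * T * R1⁻¹)
  let A2 : K := T⁻¹ * (R2 * T * R2⁻¹)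
  have hA1 : (A1 : G) ∈ A := htR r1 hr1
  have hA2 : (A2 : G) ∈ A := htR r2 hr2
  have key := commutator_fixes (π T) (π R1) (π R2) (π A1) (π A2)
    (by rw [← map_inv, ← map_mul, ← map_mul, ← map_mul]; congr 1; simp [A1])
    (by rw [← map_inv, ← map_mul, ← map_mul, ← map_mul]; congr 1; simp [A2])
    (by
      rw [← map_mul, ← map_mul]
      apply hπ
      have := hAA _ (A.inv_mem hA2) _ (A.inv_mem hA1)
      simpa [mul_assoc] using this)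
    (by
      rw [← map_mul, ← map_mul]
      apply hπ
      have := hAR _ (A.inv_mem hA1) _ (R.inv_mem hr1)
      simpa [mul_assoc] using this)
    (by
      rw [← map_mul, ← map_mul]
      apply hπ
      have := hAR _ (A.inv_mem hA2) _ (R.inv_mem hr1)
      simpa [mul_assoc] using this)
    (by
      rw [← map_mul, ← map_mul]
      apply hπ
      have := hAR _ (A.inv_mem hA1) _ (R.inv_mem hr2)
      simpa [mul_assoc] using this)
    (by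
      rw [← map_mul, ← map_mul]
      apply hπ
      have := hAR _ (A.inv_mem hA2) _ (R.inv_mem hr2)
      simpa [mul_assoc] using this)
  have key2 : π ((R1 * R2 * R1⁻¹ * R2⁻¹) * T * (R1 * R2 * R1⁻¹ * R2⁻¹)⁻¹ * T⁻¹) = 1 := by
    simp only [map_mul, map_inv] at key ⊢
    rw [key]; group
  exact hπ' _ key2

end Cfsg.Agent.Helper89
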