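import Mathlib
import Cfsg.Agent.Lib.Helper89.ES
import Cfsg.Agent.Lib.Helper89.FixedCoset
import Cfsg.Agent.Lib.Helper89.ThreeSub

set_option autoImplicit false

namespace Cfsg.Agent.Helper89

theorem mem_zpowers_of_sq_eq_one {G : Type*} [Group G] {a x : G} (ha : a * a = 1)
    (hx : x ∈ Subgroup.zpowers a) : x = 1 ∨ x = a := by
  obtain ⟨i, rfl⟩ := Subgroup.mem_zpowers_iff.mp hx
  have h2 : a ^ (2 : ℤ) = 1 := by
    rw [zpow_two]; exact ha
  rcases Int.even_or_odd' i with ⟨k, hk | hk⟩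
  · left
    rw [hk, zpow_mul, h2, one_zpow]
  · right
    rw [hk, zpow_add, zpow_mul, h2, one_zpow, one_mul, zpow_one]

theorem one_or_self_mem_zpowers {G : Type*} [Group G] {a x : G} (hx : x = 1 ∨ x = a) :
    x ∈ Subgroup.zpowers a := by
  rcases hx with h | h
  · rw [h]; exact Subgroup.one_mem _
  · rw [h]; exact Subgroup.mem_zpowers a

/-- If the centralizer of `z` normalizes `Q`, then the centralizer of `g z g⁻¹` normalizes `g Q g⁻¹`. -/
theorem normalizes_conj {G : Type*} [Group G] (Q : Subgroup G) (z : G)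
    (hN : ∀ x : G, x * z = z * x → ∀ y ∈ Q, x * y * x⁻¹ ∈ Q) (g : G) :
    ∀ x : G, x * (g * z * g⁻¹) = (g * z * g⁻¹) * x →
      ∀ y ∈ Q.map (MulAut.conj g).toMonoidHom, x * y * x⁻¹ ∈ Q.map (MulAut.conj g).toMonoidHom := by
  intro x hx y hy
  rw [mem_map_conj_iff] at hy ⊢
  have hx' : (g⁻¹ * x * g) * z = z * (g⁻¹ * x * g) := by
    have e1 : (g⁻¹ * x * g) * z = g⁻¹ * (x * (g * z * g⁻¹)) * g := by group
    have e2 : z * (g⁻¹ * x * g) = g⁻¹ * ((g * z * g⁻¹) * x) * g := by group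
    rw [e1, e2, hx]
  have := hN _ hx' _ hy
  have e : g⁻¹ * (x * y * x⁻¹) * g = (g⁻¹ * x * g) * (g⁻¹ * y * g) * (g⁻¹ * x * g)⁻¹ := by group
  rw [e]; exact this

/-- Key step for large extraspecial subgroups: if a conjugate `a = g z g⁻¹` of the central involution
`z` of `Q` lies in `Q` (and is not `z`), then `z` lies in the conjugate `g Q g⁻¹`. -/
theorem center_mem_conj {G : Type*} [Group G] [Finite G] (Q : Subgroup G) (z : G) (hES : ES Q z)
    (hC : ∀ x : G, (∀ y ∈ Q, x * y = y * x) → x = 1 ∨ x = z)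
    (hN : ∀ x : G, x * z = z * x → ∀ y ∈ Q, x * y * x⁻¹ ∈ Q)
    (hcard : 32 ≤ Nat.card Q) (g : G) (haQ : g * z * g⁻¹ ∈ Q) (hne : g * z * g⁻¹ ≠ z) :
    z ∈ Q.map (MulAut.conj g).toMonoidHom := by
  have : Fact (Nat.Prime 2) := ⟨Nat.prime_two⟩
  set a : G := g * z * g⁻¹ with ha
  set P : Subgroup G := Q.map (MulAut.conj g).toMonoidHom with hPdef
  have hP : ES P a := hES.conj g
  have ha1 : a ≠ 1 := hP.ne_one
  have hasq : a * a = 1 := hP.sq
  have hainv : a⁻¹ = a := hP.inv_eq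
  have hzinv : z⁻¹ = z := hES.inv_eq
  have haz : a * z = z * a := hES.central a haQ
  have memP : ∀ x : G, x ∈ P ↔ g⁻¹ * x * g ∈ Q := fun x => mem_map_conj_iff Q g x
  -- conjugated hypotheses
  have hCP : ∀ x : G, (∀ y ∈ P, x * y = y * x) → x = 1 ∨ x = a := by
    intro x hx
    have key : ∀ y ∈ Q, (g⁻¹ * x * g) * y = y * (g⁻¹ * x * g) := by
      intro y hy
      have h1 := hx (g * y * g⁻¹) (conj_mem_map_conj Q g hy)
      have e1 : (g⁻¹ * x * g) * y = g⁻¹ * (x * (g * y * g⁻¹)) * g := by group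
      have e2 : y * (g⁻¹ * x * g) = g⁻¹ * ((g * y * g⁻¹) * x) * g := by group
      rw [e1, e2, h1]
    rcases hC _ key with h1 | h1
    · left
      have := congrArg (fun w => g * w * g⁻¹) h1
      simpa [mul_assoc] using this
    · right
      have := congrArg (fun w => g * w * g⁻¹) h1
      simpa [mul_assoc, ha] using this
  have hNP : ∀ x : G, x * a = a * x → ∀ y ∈ P, x * y * x⁻¹ ∈ P := by
    intro x hx y hy
    rw [memP] at hy ⊢
    have hx' : (g⁻¹ * x * g) * z = z * (g⁻¹ * x * g) := by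
      have e1 : (g⁻¹ * x * g) * z = g⁻¹ * (x * a) * g := by rw [ha]; group
      have e2 : z * (g⁻¹ * x * g) = g⁻¹ * (a * x) * g := by rw [ha]; group
      rw [e1, e2, hx]
    have := hN _ hx' _ hy
    have e : g⁻¹ * (x * y * x⁻¹) * g = (g⁻¹ * x * g) * (g⁻¹ * y * g) * (g⁻¹ * x * g)⁻¹ := by group
    rw [e]; exact this
  by_contra hzP
  have hzaP : z * a ∉ P := by
    intro h
    apply hzP
    have := P.mul_mem h (P.inv_mem hP.mem)
    simpa using this
  -- the subgroups R and A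
  set R : Subgroup G := Q ⊓ Subgroup.centralizer {a} with hRdef
  set A : Subgroup G := P ⊓ Subgroup.centralizer {z} with hAdef
  have memR : ∀ x : G, x ∈ R ↔ x ∈ Q ∧ x * a = a * x := by
    intro x
    rw [hRdef, Subgroup.mem_inf, Subgroup.mem_centralizer_singleton_iff]
  have memA : ∀ x : G, x ∈ A ↔ x ∈ P ∧ x * z = z * x := by
    intro x
    rw [hAdef, Subgroup.mem_inf, Subgroup.mem_centralizer_singleton_iff]
  have hRP : ∀ r ∈ R, ∀ x ∈ P, r * x * r⁻¹ ∈ P := by
    intro r hr x hx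
    exact hNP r ((memR r).mp hr).2 x hx
  have hRA : ∀ r ∈ R, ∀ x ∈ A, r * x * r⁻¹ ∈ A := by
    intro r hr x hx
    rw [memA] at hx ⊢
    refine ⟨hRP r hr x hx.1, ?_⟩
    have hrz : r * z = z * r := hES.central r ((memR r).mp hr).1
    have hrz' : r⁻¹ * z = z * r⁻¹ := hES.central _ (Q.inv_mem ((memR r).mp hr).1)
    calc r * x * r⁻¹ * z = r * x * (r⁻¹ * z) := by group
      _ = r * x * (z * r⁻¹) := by rw [hrz']
      _ = r * (x * z) * r⁻¹ := by group
      _ = r * (z * x) * r⁻¹ := by rw [hx.2]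
      _ = (r * z) * x * r⁻¹ := by group
      _ = (z * r) * x * r⁻¹ := by rw [hrz]
      _ = z * (r * x * r⁻¹) := by group
  have hAP : A ≤ P := inf_le_left
  have hAneP : A ≠ P := by
    intro h
    have hz : ∀ y ∈ P, z * y = y * z := by
      intro y hy
      have : y ∈ A := by rw [h]; exact hy
      exact ((memA y).mp this).2.symm
    rcases hCP z hz with h1 | h1
    · exact hES.ne_one h1
    · exact hne h1.symm
  -- Q ∩ P = {1, a}
  have hD : ∀ d ∈ Q, d ∈ P → d = 1 ∨ d = a := by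
    intro d hdQ hdP
    have hcomm : ∀ r ∈ Q, r * a = a * r → d * r = r * d := by
      intro r hr hra
      have hrR : r ∈ R := (memR r).mpr ⟨hr, hra⟩
      rcases hES.comm d hdQ r hr with h1 | h1
      · exact comm_of_commutator_eq_one h1
      · exfalso
        apply hzP
        rw [← h1]
        have h2 : r * d⁻¹ * r⁻¹ ∈ P := hRP r hrR _ (P.inv_mem hdP)
        have := P.mul_mem hdP h2
        have e : d * (r * d⁻¹ * r⁻¹) = d * r * d⁻¹ * r⁻¹ := by group
        rw [e] at this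
        exact this
    rcases hES.center_centralizer haQ ha1 hne hdQ hcomm with h1 | h1 | h1 | h1
    · exact Or.inl h1
    · exfalso; rw [h1] at hdP; exact hzP hdP
    · exact Or.inr h1
    · exfalso; rw [h1] at hdP; exact hzaP hdP
  have hAR : ∀ s ∈ A, ∀ r ∈ R, s * r * s⁻¹ * r⁻¹ ∈ Subgroup.zpowers a := by
    intro s hs r hr
    apply one_or_self_mem_zpowers
    have hs' := (memA s).mp hs
    have hr' := (memR r).mp hr
    apply hD
    · have h1 : s * r * s⁻¹ ∈ Q := hN s hs'.2 r hr'.1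
      exact Q.mul_mem h1 (Q.inv_mem hr'.1)
    · have h2 : r * s⁻¹ * r⁻¹ ∈ P := hRP r hr _ (P.inv_mem hs'.1)
      have := P.mul_mem hs'.1 h2
      have e : s * (r * s⁻¹ * r⁻¹) = s * r * s⁻¹ * r⁻¹ := by group
      rw [e] at this
      exact this
  have hAA : ∀ x ∈ A, ∀ y ∈ A, x * y * x⁻¹ * y⁻¹ ∈ Subgroup.zpowers a := by
    intro x hx y hy
    apply one_or_self_mem_zpowers
    exact hP.comm x (hAP hx) y (hAP hy)
  -- fixed coset
  have hR2 : IsPGroup 2 R := hES.pgroup.to_le inf_le_left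
  obtain ⟨t, htP, htA, htR⟩ := exists_fixed_coset R P A hR2 hP.pgroup hAP hAneP hRP hRA
  obtain ⟨r1, hr1Q, r2, hr2Q, hr1a, hr2a, hr12⟩ := hES.exists_noncommuting haQ ha1 hne hcard
  have hr1 : r1 ∈ R := (memR r1).mpr ⟨hr1Q, hr1a⟩
  have hr2 : r2 ∈ R := (memR r2).mpr ⟨hr2Q, hr2a⟩
  have hta : t * a = a * t := hP.central t htP
  have hRa : ∀ x ∈ R, x * a = a * x := fun x hx => ((memR x).mp hx).2
  have key := commutator_fixes_mod a A R hRa hAA hAR t hta htR r1 r2 hr1 hr2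
  rw [hr12] at key
  have key2 : z * t * z⁻¹ * t⁻¹ = a := by
    rcases mem_zpowers_of_sq_eq_one hasq key with h1 | h1
    · exfalso
      apply htA
      rw [memA]
      exact ⟨htP, (comm_of_commutator_eq_one h1).symm⟩
    · exact h1
  -- t z t⁻¹ = z a
  have htz : t * z * t⁻¹ = z * a := by
    have h1 : z * t * z⁻¹ = a * t := conj_eq_of_commutator_eq key2
    rw [hzinv] at h1
    -- z t z = a t  =>  t z = z a t ... 
    have h2 : t * z = z * a * t := by
      have := congrArg (fun w => z * w) h1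
      have e : z * (z * t * z) = (z * z) * t * z := by group
      rw [e, hES.sq, one_mul] at this
      rw [this]; group
    rw [h2]; group
  obtain ⟨q, hqQ, hqa⟩ := hES.exists_conj haQ ha1 hne
  -- x = t⁻¹ q g centralizes z
  have hxz : (t⁻¹ * q * g) * z * (t⁻¹ * q * g)⁻¹ = z := by
    have e : (t⁻¹ * q * g) * z * (t⁻¹ * q * g)⁻¹ = t⁻¹ * (q * (g * z * g⁻¹) * q⁻¹) * t := by group
    rw [e, ← ha, hqa, ← htz]; group
  have hxz' : (t⁻¹ * q * g)⁻¹ * z = z * (t⁻¹ * q * g)⁻¹ := by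
    have := congrArg (fun w => (t⁻¹ * q * g)⁻¹ * w) hxz
    rw [← this]; group
  have h3 := hN _ hxz' a haQ
  have hqa' : q⁻¹ * a * q = z * a := by
    have hzq : q⁻¹ * z = z * q⁻¹ := hES.central _ (Q.inv_mem hqQ)
    have e : q⁻¹ * (q * a * q⁻¹) * q = a := by group
    rw [hqa] at e
    have e2 : q⁻¹ * (z * a) * q = z * (q⁻¹ * a * q) := by
      calc q⁻¹ * (z * a) * q = (q⁻¹ * z) * a * q := by group
        _ = (z * q⁻¹) * a * q := by rw [hzq]
        _ = z * (q⁻¹ * a * q) := by group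
    rw [e2] at e
    have := congrArg (fun w => z * w) e
    rw [← mul_assoc, hES.sq, one_mul] at this
    exact this
  have hta' : t * a * t⁻¹ = a := by rw [hta]; group
  have e4 : (t⁻¹ * q * g)⁻¹ * a * (t⁻¹ * q * g)⁻¹⁻¹ = g⁻¹ * (z * a) * g := by
    have e : (t⁻¹ * q * g)⁻¹ * a * (t⁻¹ * q * g)⁻¹⁻¹ = g⁻¹ * (q⁻¹ * (t * a * t⁻¹) * q) * g := by group
    rw [e, hta', hqa']
  rw [e4, ← memP] at h3
  exact hzaP h3

end Cfsg.Agent.Helper89
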