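import Mathlib
import Cfsg.Prelude.Def_Solvable
import Cfsg.Prelude.Def_CaseTheorems

set_option autoImplicit false

namespace Cfsg.Agent.Helper89

open Cfsg

/-- In a finite group, a normal `p`-subgroup lies in every Sylow `p`-subgroup. -/
theorem normal_pgroup_le_sylow {G : Type*} [Group G] [Finite G] {p : ℕ} [Fact p.Prime]
    (N : Subgroup G) [N.Normal] (hN : IsPGroup p N) (P : Sylow p G) : N ≤ P := by
  obtain ⟨P', hP'⟩ := hN.exists_le_sylow
  obtain ⟨g, rfl⟩ := MulAction.exists_smul_eq G P' P
  intro x hx
  rw [Sylow.coe_subgroup_smul, Subgroup.mem_pointwise_smul_iff_inv_smul_mem] at *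
  apply hP'
  simp only [MulAut.smul_def, MulAut.conj_inv_apply] at *
  exact (inferInstance : N.Normal).conj_mem' x hx g |> fun h => by simpa [mul_assoc] using h

/-- The `p`-core of a finite group lies in every Sylow `p`-subgroup. -/
theorem pCore_le_sylow {G : Type*} [Group G] [Finite G] {p : ℕ} [Fact p.Prime] (P : Sylow p G) :
    pCore p G ≤ P := by
  unfold pCore
  apply sSup_le
  rintro N ⟨hN1, hN2⟩
  exact normal_pgroup_le_sylow N hN2 P

/-- The `p`-core of a finite group is a `p`-group. -/
theorem pCore_isPGroup {G : Type*} [Group G] [Finite G] {p : ℕ} [Fact p.Prime] :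
    IsPGroup p (pCore p G) := by
  have P : Sylow p G := default
  exact P.2.to_le (pCore_le_sylow P)

end Cfsg.Agent.Helper89
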