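import Mathlib

set_option autoImplicit false

namespace Cfsg.Agent.Helper89

/-- An involution normalizing a finite subgroup `K` and fixing no non-trivial element of it
inverts every element of `K`. -/
theorem inverts_of_fixed_point_free {G : Type*} [Group G] (K : Subgroup G) [Finite K] (t : G)
    (ht : t * t = 1) (hn : ∀ k ∈ K, t * k * t⁻¹ ∈ K)
    (hfix : ∀ k ∈ K, t * k = k * t → k = 1) : ∀ k ∈ K, t * k * t⁻¹ = k⁻¹ := by
  have htinv : t⁻¹ = t := inv_eq_of_mul_eq_one_right ht
  let f : K → K := fun k => ⟨(k : G)⁻¹ * (t * k * t⁻¹), K.mul_mem (K.inv_mem k.2) (hn k k.2)⟩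
  have hinj : Function.Injective f := by
    intro k l hkl
    have h : (k : G)⁻¹ * (t * k * t⁻¹) = (l : G)⁻¹ * (t * l * t⁻¹) := congrArg Subtype.val hkl
    have h1 : t * ((l : G) * (k : G)⁻¹) = ((l : G) * (k : G)⁻¹) * t := by
      have h2 : (l : G) * (k : G)⁻¹ = (t * l * t⁻¹) * (t * k * t⁻¹)⁻¹ := by
        rw [eq_mul_inv_iff_mul_eq]
        have := congrArg (fun x => (l : G) * x) h
        simp only [mul_inv_cancel_left] at this
        rw [← this]
        group
      have h3 : (t * l * t⁻¹) * (t * k * t⁻¹)⁻¹ = t * ((l : G) * (k : G)⁻¹) * t⁻¹ := by group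
      rw [h3] at h2
      have := congrArg (fun x => x * t) h2
      simp only [inv_mul_cancel_right] at this
      exact this.symm
    have h4 := hfix _ (K.mul_mem l.2 (K.inv_mem k.2)) h1
    have : (l : G) = k := by
      have := mul_inv_eq_one.mp h4
      exact this
    exact Subtype.ext this.symm
  have hsurj : Function.Surjective f := Finite.injective_iff_surjective.mp hinj
  intro x hx
  obtain ⟨k, hk⟩ := hsurj ⟨x, hx⟩
  have hk' : (k : G)⁻¹ * (t * k * t⁻¹) = x := congrArg Subtype.val hk
  rw [← hk', htinv]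
  have h1 : t * ((k : G)⁻¹ * (t * k * t)) * t = t * (k : G)⁻¹ * t * k * (t * t) := by
    group
  rw [h1, ht, mul_one]
  simp only [mul_inv_rev, htinv, inv_inv, mul_assoc]

end Cfsg.Agent.Helper89
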