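import Mathlib
import Cfsg.Prelude.Def_MonsterType
import Cfsg.Agent.Lib.Helper89.Basic
import Cfsg.Agent.Lib.Helper89.Invert

set_option autoImplicit false

namespace Cfsg.Agent.Helper89

open Cfsg

/-- If `k` and `x` lie in subgroups `K`, `H` with `K ⊓ H = ⊥`, `x` normalizes `K` and `k` normalizes `H`,
then `k` and `x` commute. -/
theorem commute_of_inf_eq_bot {G : Type*} [Group G] {K H : Subgroup G} (hKH : K ⊓ H = ⊥)
    {k x : G} (hk : k ∈ K) (hx : x ∈ H) (hxK : x * k⁻¹ * x⁻¹ ∈ K) (hkH : k * x * k⁻¹ ∈ H) :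
    k * x = x * k := by
  have hc1 : k * x * k⁻¹ * x⁻¹ ∈ K := by
    have h2 := K.mul_mem hk hxK
    simpa [mul_assoc] using h2
  have hc2 : k * x * k⁻¹ * x⁻¹ ∈ H := H.mul_mem hkH (H.inv_mem hx)
  have hc : k * x * k⁻¹ * x⁻¹ ∈ K ⊓ H := ⟨hc1, hc2⟩
  rw [hKH, Subgroup.mem_bot] at hc
  have h3 : k * x * k⁻¹ = x := by
    have := congrArg (· * x) hc
    simpa using this
  have := congrArg (· * k) h3
  simpa using this

/-- A subgroup of odd order meets a `2`-group trivially. -/
theorem odd_inf_two_group {G : Type*} [Group G] {K H : Subgroup G} (hK : Odd (Nat.card K))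
    (hH : IsPGroup 2 H) : K ⊓ H = ⊥ := by
  by_cases hfin : Finite H
  · apply disjoint_iff.mp
    apply Subgroup.disjoint_of_coprime_natCard
    obtain ⟨n, hn⟩ := IsPGroup.iff_card.mp hH
    rw [hn]
    exact Nat.Coprime.pow_right n (Nat.coprime_two_right.mpr hK)
  · -- K is finite since its card is odd (nonzero)
    have hKfin : Finite K := by
      apply Nat.finite_of_card_ne_zero
      intro h
      rw [h] at hK
      exact absurd hK (by decide)
    rw [eq_bot_iff]
    intro x hx
    rw [Subgroup.mem_bot]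
    obtain ⟨n, hn⟩ := hH ⟨x, hx.2⟩
    have hn' : x ^ (2 ^ n) = 1 := by
      have := congrArg Subtype.val hn
      simpa using this
    have h2 : x ^ Nat.card K = 1 := by
      have h := pow_card_eq_one' (G := K) (x := ⟨x, hx.1⟩)
      have h' := congrArg Subtype.val h
      rw [Subgroup.coe_pow] at h'
      exact h'
    have hcop : Nat.Coprime (2 ^ n) (Nat.card K) :=
      (Nat.Coprime.pow_right n (Nat.coprime_two_right.mpr hK)).symm
    have := pow_gcd_eq_one.mpr ⟨hn', h2⟩
    rw [hcop.gcd_eq_one, pow_one] at this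
    exact this

/-- The core step for large extraspecial subgroups: an odd-order subgroup normalized by `Q` and
centralizing the centre of `Q` is trivial. -/
theorem odd_normalized_centralizing_center_eq_bot {G : Type*} [Group G] (Q : Subgroup G)
    (hL1 : Cfsg.IsExtraspecial 2 ↥Q)
    (hL2 : Subgroup.centralizer (Q : Set G) = ((Subgroup.center ↥Q).map Q.subtype))
    (hL3 : Subgroup.centralizer (((Subgroup.center ↥Q).map Q.subtype) : Set G) ≤
      Subgroup.normalizer (Q : Set G))
    (K : Subgroup G) (hKodd : Odd (Nat.card K)) (hQK : Q ≤ Subgroup.normalizer (K : Set G))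
    (hKZ : K ≤ Subgroup.centralizer (((Subgroup.center ↥Q).map Q.subtype : Subgroup G) : Set G)) :
    K = ⊥ := by
  have hZQ : (Subgroup.center ↥Q).map Q.subtype ≤ Q := by
    rintro _ ⟨x, _, rfl⟩
    exact x.2
  have hQ2 : IsPGroup 2 Q := hL1.1.1
  have hKQ : K ⊓ Q = ⊥ := odd_inf_two_group hKodd hQ2
  have h2 : K ≤ Subgroup.normalizer (Q : Set G) := hKZ.trans hL3
  have h3 : K ≤ Subgroup.centralizer (Q : Set G) := by
    intro k hk
    rw [Subgroup.mem_centralizer_iff]
    intro q hq
    have hqN : q ∈ Subgroup.normalizer (K : Set G) := hQK hq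
    have hkN : k ∈ Subgroup.normalizer (Q : Set G) := h2 hk
    have h := commute_of_inf_eq_bot hKQ hk hq
      ((Subgroup.mem_normalizer_iff.mp hqN k⁻¹).mp (K.inv_mem hk))
      ((Subgroup.mem_normalizer_iff.mp hkN q).mp hq)
    exact h.symm
  rw [hL2] at h3
  have h4 : K ≤ K ⊓ Q := le_inf le_rfl (h3.trans hZQ)
  rw [hKQ] at h4
  exact le_bot_iff.mp h4

end Cfsg.Agent.Helper89
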