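import Mathlib
import Cfsg.Agent.Lib.Helper89.ES

set_option autoImplicit false

namespace Cfsg.Agent.Helper89

namespace ES

variable {G : Type*} [Group G] {Q : Subgroup G} {z : G}

/-- Two elements of `Q` either commute or have commutator `z`. -/
theorem comm_or (h : ES Q z) {g x : G} (hg : g ∈ Q) (hx : x ∈ Q) :
    g * x = x * g ∨ g * x * g⁻¹ * x⁻¹ = z := by
  rcases h.comm g hg x hx with h1 | h1
  · left; exact comm_of_commutator_eq_one h1
  · right; exact h1

theorem not_comm_of_nc (h : ES Q z) {g x : G} (hnc : g * x * g⁻¹ * x⁻¹ = z) : g * x ≠ x * g := by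
  intro hc
  apply h.ne_one
  rw [← hnc, hc]; group

/-- `[g g', x] = z` if `g` commutes with `x` and `[g', x] = z`. -/
theorem nc_mul_of_comm_nc (h : ES Q z) {g g' x : G} (hg : g ∈ Q)
    (h1 : g * x = x * g) (h2 : g' * x * g'⁻¹ * x⁻¹ = z) :
    (g * g') * x * (g * g')⁻¹ * x⁻¹ = z := by
  have hgz : g * z = z * g := h.central g hg
  have e2 : g' * x * g'⁻¹ = z * x := conj_eq_of_commutator_eq h2
  calc (g * g') * x * (g * g')⁻¹ * x⁻¹ = g * (g' * x * g'⁻¹) * g⁻¹ * x⁻¹ := by group
    _ = g * (z * x) * g⁻¹ * x⁻¹ := by rw [e2]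
    _ = (g * z) * x * g⁻¹ * x⁻¹ := by group
    _ = (z * g) * x * g⁻¹ * x⁻¹ := by rw [hgz]
    _ = z * (g * x) * g⁻¹ * x⁻¹ := by group
    _ = z * (x * g) * g⁻¹ * x⁻¹ := by rw [h1]
    _ = z := by group

/-- `[g g', x] = z` if `[g, x] = z` and `g'` commutes with `x`. -/
theorem nc_mul_of_nc_comm {g g' x : G}
    (h1 : g * x * g⁻¹ * x⁻¹ = z) (h2 : g' * x = x * g') :
    (g * g') * x * (g * g')⁻¹ * x⁻¹ = z := by
  calc (g * g') * x * (g * g')⁻¹ * x⁻¹ = g * ((g' * x) * g'⁻¹) * g⁻¹ * x⁻¹ := by group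
    _ = g * ((x * g') * g'⁻¹) * g⁻¹ * x⁻¹ := by rw [h2]
    _ = g * x * g⁻¹ * x⁻¹ := by group
    _ = z := h1

/-- `g g'` commutes with `x` if `[g, x] = z = [g', x]`. -/
theorem comm_mul_of_nc_nc (h : ES Q z) {g g' x : G} (hg : g ∈ Q)
    (h1 : g * x * g⁻¹ * x⁻¹ = z) (h2 : g' * x * g'⁻¹ * x⁻¹ = z) :
    (g * g') * x = x * (g * g') := by
  have hgz : g * z = z * g := h.central g hg
  have e1 : g * x * g⁻¹ = z * x := conj_eq_of_commutator_eq h1
  have e2 : g' * x * g'⁻¹ = z * x := conj_eq_of_commutator_eq h2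
  have : (g * g') * x * (g * g')⁻¹ = x := by
    calc (g * g') * x * (g * g')⁻¹ = g * (g' * x * g'⁻¹) * g⁻¹ := by group
      _ = g * (z * x) * g⁻¹ := by rw [e2]
      _ = (g * z) * x * g⁻¹ := by group
      _ = (z * g) * x * g⁻¹ := by rw [hgz]
      _ = z * (g * x * g⁻¹) := by group
      _ = z * (z * x) := by rw [e1]
      _ = (z * z) * x := by group
      _ = x := by rw [h.sq, one_mul]
  calc (g * g') * x = ((g * g') * x * (g * g')⁻¹) * (g * g') := by group
    _ = x * (g * g') := by rw [this]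

/-- `g` commutes with `v w` if `[g, v] = z = [g, w]`. -/
theorem comm_mul_right_of_nc_nc (h : ES Q z) {g v w : G} (hv : v ∈ Q)
    (h1 : g * v * g⁻¹ * v⁻¹ = z) (h2 : g * w * g⁻¹ * w⁻¹ = z) :
    g * (v * w) = (v * w) * g := by
  have hvz : v * z = z * v := h.central v hv
  have e1 : g * v * g⁻¹ = z * v := conj_eq_of_commutator_eq h1
  have e2 : g * w * g⁻¹ = z * w := conj_eq_of_commutator_eq h2
  have : g * (v * w) * g⁻¹ = v * w := by
    calc g * (v * w) * g⁻¹ = (g * v * g⁻¹) * (g * w * g⁻¹) := by group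
      _ = (z * v) * (z * w) := by rw [e1, e2]
      _ = z * (v * z) * w := by group
      _ = z * (z * v) * w := by rw [hvz]
      _ = (z * z) * (v * w) := by group
      _ = v * w := by rw [h.sq, one_mul]
  calc g * (v * w) = (g * (v * w) * g⁻¹) * g := by group
    _ = (v * w) * g := by rw [this]

/-- `g` commutes with `v w` if it commutes with `v` and `w`. -/
theorem comm_mul_right_of_comm_comm {g v w : G}
    (h1 : g * v = v * g) (h2 : g * w = w * g) :
    g * (v * w) = (v * w) * g := by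
  calc g * (v * w) = (g * v) * w := by group
    _ = (v * g) * w := by rw [h1]
    _ = v * (g * w) := by group
    _ = v * (w * g) := by rw [h2]
    _ = (v * w) * g := by group

/-- Elements commuting with a set commute with its closure. -/
theorem comm_closure {g : G} {S : Set G} (hS : ∀ s ∈ S, g * s = s * g) :
    ∀ x ∈ Subgroup.closure S, g * x = x * g := by
  intro x hx
  have hle : Subgroup.closure S ≤ Subgroup.centralizer ({g} : Set G) := by
    rw [Subgroup.closure_le]
    intro s hs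
    rw [SetLike.mem_coe, Subgroup.mem_centralizer_singleton_iff]
    exact (hS s hs).symm
  have := hle hx
  rw [Subgroup.mem_centralizer_singleton_iff] at this
  exact this.symm

/-- **Double centralizer property in an extraspecial `2`-group, generator form.**  If `S ⊆ Q`
is finite and `v ∈ Q` is not in `⟨S, z⟩` then some `g ∈ Q` centralizes `S` and has `[g, v] = z`. -/
theorem exists_centralizing (h : ES Q z) {S : Set G} (hfin : S.Finite) (hSQ : S ⊆ Q) :
    ∀ v ∈ Q, v ∉ Subgroup.closure (S ∪ {z}) →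
      ∃ g ∈ Q, (∀ s ∈ S, g * s = s * g) ∧ g * v * g⁻¹ * v⁻¹ = z := by
  induction S, hfin using Set.Finite.induction_on with
  | empty =>
    intro v hv hvn
    by_contra hcon
    push Not at hcon
    have hall : ∀ y ∈ Q, v * y = y * v := by
      intro y hy
      rcases h.comm_or hy hv with h1 | h1
      · exact h1.symm
      · exact absurd h1 (hcon y hy (fun s hs => absurd hs (Set.notMem_empty s)))
    apply hvn
    rcases h.cent v hv hall with h1 | h1
    · rw [h1]; exact Subgroup.one_mem _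
    · rw [h1]; exact Subgroup.subset_closure (by simp)
  | @insert w S hwS hfin ih =>
    have hSQ' : S ⊆ Q := fun s hs => hSQ (Set.mem_insert_of_mem w hs)
    have hwQ : w ∈ Q := hSQ (Set.mem_insert w S)
    have ih := ih hSQ'
    have hmono : Subgroup.closure (S ∪ {z}) ≤ Subgroup.closure (insert w S ∪ {z}) :=
      Subgroup.closure_mono (Set.union_subset_union_left _ (Set.subset_insert w S))
    have hwcl : w ∈ Subgroup.closure (insert w S ∪ {z}) :=
      Subgroup.subset_closure (Or.inl (Set.mem_insert w S))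
    intro v hv hvn
    have hvn0 : v ∉ Subgroup.closure (S ∪ {z}) := fun hh => hvn (hmono hh)
    obtain ⟨g1, hg1Q, hg1S, hg1v⟩ := ih v hv hvn0
    rcases h.comm_or hg1Q hwQ with hc1 | hn1
    · refine ⟨g1, hg1Q, ?_, hg1v⟩
      intro s hs
      rcases hs with rfl | hs
      · exact hc1
      · exact hg1S s hs
    -- now `[g1, w] = z`
    have hwn0 : w ∉ Subgroup.closure (S ∪ {z}) := by
      intro hh
      apply h.not_comm_of_nc hn1
      apply comm_closure _ w hh
      intro s hs
      rcases hs with hs | hs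
      · exact hg1S s hs
      · rw [Set.mem_singleton_iff] at hs
        rw [hs]; exact h.central g1 hg1Q
    obtain ⟨g2, hg2Q, hg2S, hg2w⟩ := ih w hwQ hwn0
    have mk : ∀ g ∈ Q, (∀ s ∈ S, g * s = s * g) → g * w = w * g → g * v * g⁻¹ * v⁻¹ = z →
        ∃ g ∈ Q, (∀ s ∈ insert w S, g * s = s * g) ∧ g * v * g⁻¹ * v⁻¹ = z := by
      intro g hgQ hgS hgw hgv
      refine ⟨g, hgQ, ?_, hgv⟩
      intro s hs
      rcases hs with rfl | hs
      · exact hgw
      · exact hgS s hs
    have mulS : ∀ g g' : G, (∀ s ∈ S, g * s = s * g) → (∀ s ∈ S, g' * s = s * g') →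
        ∀ s ∈ S, (g * g') * s = s * (g * g') := by
      intro g g' hg hg' s hs
      calc g * g' * s = g * (g' * s) := by group
        _ = g * (s * g') := by rw [hg' s hs]
        _ = (g * s) * g' := by group
        _ = (s * g) * g' := by rw [hg s hs]
        _ = s * (g * g') := by group
    rcases h.comm_or hg2Q hv with hc2 | hn2
    · exact mk (g1 * g2) (Q.mul_mem hg1Q hg2Q) (mulS g1 g2 hg1S hg2S)
        (h.comm_mul_of_nc_nc hg1Q hn1 hg2w) (nc_mul_of_nc_comm hg1v hc2)
    -- now `[g2, v] = z`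
    have hwvn0 : w * v ∉ Subgroup.closure (S ∪ {z}) := by
      intro hh
      apply hvn
      have := Subgroup.mul_mem _ (Subgroup.inv_mem _ hwcl) (hmono hh)
      rwa [inv_mul_cancel_left] at this
    obtain ⟨g3, hg3Q, hg3S, hg3wv⟩ := ih (w * v) (Q.mul_mem hwQ hv) hwvn0
    have hg3ne := h.not_comm_of_nc hg3wv
    rcases h.comm_or hg3Q hwQ with hc3 | hn3
    · -- then `[g3, v] = z`
      rcases h.comm_or hg3Q hv with hc3v | hn3v
      · exact absurd (comm_mul_right_of_comm_comm hc3 hc3v) hg3ne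
      · exact mk g3 hg3Q hg3S hc3 hn3v
    · rcases h.comm_or hg3Q hv with hc3v | hn3v
      · exact mk (g1 * g3) (Q.mul_mem hg1Q hg3Q) (mulS g1 g3 hg1S hg3S)
          (h.comm_mul_of_nc_nc hg1Q hn1 hn3) (nc_mul_of_nc_comm hg1v hc3v)
      · exact absurd (h.comm_mul_right_of_nc_nc hwQ hn3 hn3v) hg3ne

end ES

end Cfsg.Agent.Helper89
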