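import Mathlib
import Cfsg.Agent.Lib.Helper89.ES
import Cfsg.Agent.Lib.Helper89.LargeKey

set_option autoImplicit false

namespace Cfsg.Agent.Helper89

section general
variable {G : Type*} [Group G]

/-- Commutators `[x, t]` with `x` in the closure of `S` land in `V`, if that is so for `x ∈ S`
and the elements of `S` normalize `V`. -/
theorem commutator_mem_of_mem_closure_left (V : Subgroup G) (S T : Set G)
    (hN : ∀ s ∈ S, ∀ v ∈ V, s * v * s⁻¹ ∈ V ∧ s⁻¹ * v * s ∈ V)
    (h : ∀ s ∈ S, ∀ t ∈ T, s * t * s⁻¹ * t⁻¹ ∈ V) :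
    ∀ x ∈ Subgroup.closure S, (∀ v ∈ V, x * v * x⁻¹ ∈ V ∧ x⁻¹ * v * x ∈ V) ∧
      ∀ t ∈ T, x * t * x⁻¹ * t⁻¹ ∈ V := by
  intro x hx
  induction hx using Subgroup.closure_induction with
  | mem s hs => exact ⟨hN s hs, h s hs⟩
  | one =>
    refine ⟨fun v hv => ?_, fun t _ => ?_⟩
    · simpa using hv
    · simp [V.one_mem]
  | mul x y _ _ ihx ihy =>
    refine ⟨fun v hv => ⟨?_, ?_⟩, fun t ht => ?_⟩
    · have := (ihx.1 _ (ihy.1 v hv).1).1
      have e : x * y * v * (x * y)⁻¹ = x * (y * v * y⁻¹) * x⁻¹ := by group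
      rw [e]; exact this
    · have := (ihy.1 _ (ihx.1 v hv).2).2
      have e : (x * y)⁻¹ * v * (x * y) = y⁻¹ * (x⁻¹ * v * x) * y := by group
      rw [e]; exact this
    · have h1 := (ihx.1 _ (ihy.2 t ht)).1
      have h2 := ihx.2 t ht
      have e : x * y * t * (x * y)⁻¹ * t⁻¹ = (x * (y * t * y⁻¹ * t⁻¹) * x⁻¹) * (x * t * x⁻¹ * t⁻¹) := by
        group
      rw [e]; exact V.mul_mem h1 h2
  | inv x _ ihx =>
    refine ⟨fun v hv => ⟨?_, ?_⟩, fun t ht => ?_⟩
    · have := (ihx.1 v hv).2
      simpa using this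
    · have := (ihx.1 v hv).1
      simpa using this
    · have h1 := (ihx.1 _ (V.inv_mem (ihx.2 t ht))).2
      have e : x⁻¹ * t * x⁻¹⁻¹ * t⁻¹ = x⁻¹ * (x * t * x⁻¹ * t⁻¹)⁻¹ * x := by group
      rw [e]; exact h1

/-- If the elements of `S` normalize `E`, commute pairwise modulo `E` and have squares in `E`,
then the closure of `S` is elementary abelian modulo `E`. -/
theorem elemAb_mod_of_closure (E : Subgroup G) (S : Set G)
    (hN : ∀ s ∈ S, ∀ v ∈ E, s * v * s⁻¹ ∈ E ∧ s⁻¹ * v * s ∈ E)
    (hc : ∀ s ∈ S, ∀ t ∈ S, s * t * s⁻¹ * t⁻¹ ∈ E)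
    (hsq : ∀ s ∈ S, s * s ∈ E) :
    ∀ x ∈ Subgroup.closure S, ∀ y ∈ Subgroup.closure S,
      x * y * x⁻¹ * y⁻¹ ∈ E ∧ x ^ 2 ∈ E := by
  -- step 1
  have h1 := commutator_mem_of_mem_closure_left E S S hN hc
  -- step 2 : flip
  have h2 : ∀ s ∈ S, ∀ t ∈ (Subgroup.closure S : Set G), s * t * s⁻¹ * t⁻¹ ∈ E := by
    intro s hs t ht
    have := (h1 t ht).2 s hs
    have e : s * t * s⁻¹ * t⁻¹ = (t * s * t⁻¹ * s⁻¹)⁻¹ := by group
    rw [e]; exact E.inv_mem this
  have h3 := commutator_mem_of_mem_closure_left E S (Subgroup.closure S : Set G) hN h2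
  have hcomm : ∀ x ∈ Subgroup.closure S, ∀ y ∈ Subgroup.closure S, x * y * x⁻¹ * y⁻¹ ∈ E :=
    fun x hx y hy => (h3 x hx).2 y hy
  have hnorm : ∀ x ∈ Subgroup.closure S, ∀ v ∈ E, x * v * x⁻¹ ∈ E ∧ x⁻¹ * v * x ∈ E :=
    fun x hx => (h3 x hx).1
  have hsq' : ∀ x ∈ Subgroup.closure S, x ^ 2 ∈ E := by
    intro x hx
    induction hx using Subgroup.closure_induction with
    | mem s hs => rw [pow_two]; exact hsq s hs
    | one => simp [E.one_mem]
    | mul x y hx hy ihx ihy =>
      have h4 := hcomm x⁻¹ (Subgroup.inv_mem _ hx) y hy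
      have e : (x * y) ^ 2 = x ^ 2 * (x⁻¹ * y * x⁻¹⁻¹ * y⁻¹) * y ^ 2 := by
        rw [pow_two, pow_two, pow_two]; group
      rw [e]; exact E.mul_mem (E.mul_mem ihx h4) ihy
    | inv x _ ihx =>
      have e : (x⁻¹) ^ 2 = (x ^ 2)⁻¹ := by group
      rw [e]; exact E.inv_mem ihx
  exact fun x hx y hy => ⟨hcomm x hx y hy, hsq' x hx⟩

theorem mem_center_map_subtype_iff (R : Subgroup G) (x : G) :
    x ∈ (Subgroup.center ↥R).map R.subtype ↔ x ∈ R ∧ ∀ y ∈ R, y * x = x * y := by
  constructor
  · rintro ⟨u, hu, rfl⟩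
    refine ⟨u.2, fun y hy => ?_⟩
    have := Subgroup.mem_center_iff.mp hu ⟨y, hy⟩
    exact congrArg Subtype.val this
  · rintro ⟨hx, h⟩
    refine ⟨⟨x, hx⟩, ?_, rfl⟩
    show (⟨x, hx⟩ : R) ∈ Subgroup.center ↥R
    rw [Subgroup.mem_center_iff]
    intro y
    apply Subtype.ext
    exact h y y.2

/-- The four-group generated by two commuting involutions. -/
theorem mem_closure_pair_iff {z a : G} (hzz : z * z = 1) (haa : a * a = 1) (hza_comm : z * a = a * z)
    (x : G) : x ∈ Subgroup.closure ({z, a} : Set G) ↔ x = 1 ∨ x = z ∨ x = a ∨ x = z * a := by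
  have hzi : z⁻¹ = z := inv_eq_of_mul_eq_one_right hzz
  have hai : a⁻¹ = a := inv_eq_of_mul_eq_one_right haa
  constructor
  · intro hx
    let W : Subgroup G :=
      { carrier := {x | x = 1 ∨ x = z ∨ x = a ∨ x = z * a}
        one_mem' := Or.inl rfl
        mul_mem' := by
          rintro u v (rfl | rfl | rfl | rfl) (rfl | rfl | rfl | rfl)
          · left; simp
          · right; left; simp
          · right; right; left; simp
          · right; right; right; simp
          · right; left; simp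
          · left; exact hzz
          · right; right; right; rfl
          · right; right; left; rw [← mul_assoc, hzz, one_mul]
          · right; right; left; simp
          · right; right; right; exact hza_comm.symm
          · left; exact haa
          · right; left; rw [← mul_assoc, ← hza_comm, mul_assoc, haa, mul_one]
          · right; right; right; simp
          · right; right; left
            rw [hza_comm, mul_assoc, hzz, mul_one]
          · right; left; rw [mul_assoc, haa, mul_one]
          · left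
            calc z * a * (z * a) = z * (a * z) * a := by group
              _ = z * (z * a) * a := by rw [← hza_comm]
              _ = (z * z) * (a * a) := by group
              _ = 1 := by rw [hzz, haa, one_mul]
        inv_mem' := by
          rintro u (rfl | rfl | rfl | rfl)
          · left; simp
          · right; left; exact hzi
          · right; right; left; exact hai
          · right; right; right
            rw [mul_inv_rev, hzi, hai, hza_comm] }
    have hW : Subgroup.closure ({z, a} : Set G) ≤ W := by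
      rw [Subgroup.closure_le]
      rintro v (rfl | rfl)
      · exact Or.inr (Or.inl rfl)
      · exact Or.inr (Or.inr (Or.inl rfl))
    exact hW hx
  · have hz : z ∈ Subgroup.closure ({z, a} : Set G) := Subgroup.subset_closure (by simp)
    have ha : a ∈ Subgroup.closure ({z, a} : Set G) := Subgroup.subset_closure (by simp)
    rintro (h | h | h | h)
    · rw [h]; exact Subgroup.one_mem _
    · rw [h]; exact hz
    · rw [h]; exact ha
    · rw [h]; exact Subgroup.mul_mem _ hz ha

end general

namespace ES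

variable {G : Type*} [Group G] {Q : Subgroup G} {z : G}

/-- Squares in an extraspecial 2-group are central. -/
theorem sq_mem (h : ES Q z) {x : G} (hx : x ∈ Q) : x * x = 1 ∨ x * x = z := by
  apply h.cent (x * x) (Q.mul_mem hx hx)
  intro y hy
  rcases h.comm x hx y hy with h1 | h1
  · have h2 : x * y = y * x := comm_of_commutator_eq_one h1
    calc x * x * y = x * (x * y) := by group
      _ = x * (y * x) := by rw [h2]
      _ = (x * y) * x := by group
      _ = (y * x) * x := by rw [h2]
      _ = y * (x * x) := by group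
  · have h2 : x * y * x⁻¹ = z * y := conj_eq_of_commutator_eq h1
    have h3 : x * y = z * y * x := by
      have := congrArg (fun w => w * x) h2
      simpa [mul_assoc] using this
    have hzx : x * z = z * x := h.central x hx
    calc x * x * y = x * (x * y) := by group
      _ = x * (z * y * x) := by rw [h3]
      _ = (x * z) * y * x := by group
      _ = (z * x) * y * x := by rw [hzx]
      _ = z * (x * y) * x := by group
      _ = z * (z * y * x) * x := by rw [h3]
      _ = (z * z) * y * (x * x) := by group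
      _ = y * (x * x) := by rw [h.sq, one_mul]

/-- An element of `G` centralizing `C_Q(a)` lies in `{1, z, a, z * a}`, if `C_G(Q) = {1, z}` and
`C_G(z)` normalizes `Q`. -/
theorem centralizer_centralizer (h : ES Q z)
    (hC : ∀ x : G, (∀ y ∈ Q, x * y = y * x) → x = 1 ∨ x = z)
    (hN : ∀ x : G, x * z = z * x → ∀ y ∈ Q, x * y * x⁻¹ ∈ Q)
    {a : G} (haQ : a ∈ Q) (ha1 : a ≠ 1) (haz : a ≠ z) (hasq : a * a = 1) {x : G}
    (hxR : ∀ r ∈ Q, r * a = a * r → x * r = r * x) :
    x = 1 ∨ x = z ∨ x = a ∨ x = z * a := by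
  have hainv : a⁻¹ = a := inv_eq_of_mul_eq_one_right hasq
  have hzinv : z⁻¹ = z := h.inv_eq
  have hza : z * a = a * z := (h.central a haQ).symm
  have hxz : x * z = z * x := hxR z h.mem hza
  obtain ⟨q0, hq0, hq0a⟩ := h.exists_conj haQ ha1 haz
  have hidx := h.index_two haQ hq0 hq0a
  have hzq : z * q0 = q0 * z := (h.central q0 hq0).symm
  have h4 : q0 * a = z * a * q0 := by
    have := congrArg (fun w => w * q0) hq0a
    simpa [mul_assoc] using this
  have h5 : q0⁻¹ * (z * a) = a * q0⁻¹ := by
    have : q0⁻¹ * (z * a * q0) * q0⁻¹ = q0⁻¹ * (q0 * a) * q0⁻¹ := by rw [h4]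
    have e1 : q0⁻¹ * (z * a * q0) * q0⁻¹ = q0⁻¹ * (z * a) := by group
    have e2 : q0⁻¹ * (q0 * a) * q0⁻¹ = a * q0⁻¹ := by group
    rw [e1, e2] at this
    exact this
  -- a q0 = z q0 a
  have h6 : a * q0 = z * q0 * a := by
    calc a * q0 = (z * z) * a * q0 := by rw [h.sq, one_mul]
      _ = z * (z * a * q0) := by group
      _ = z * (q0 * a) := by rw [h4]
      _ = z * q0 * a := by group
  have key : ∀ x' : G, (∀ r ∈ Q, r * a = a * r → x' * r = r * x') → x' * q0 = q0 * x' →
      x' = 1 ∨ x' = z := by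
    intro x' hx'R hx'q
    apply hC x'
    intro y hy
    rcases hidx y hy with h1 | h1
    · exact hx'R y hy h1
    · have h2 := hx'R (q0⁻¹ * y) (Q.mul_mem (Q.inv_mem hq0) hy) h1
      calc x' * y = x' * (q0 * (q0⁻¹ * y)) := by group
        _ = (x' * q0) * (q0⁻¹ * y) := by group
        _ = (q0 * x') * (q0⁻¹ * y) := by rw [hx'q]
        _ = q0 * (x' * (q0⁻¹ * y)) := by group
        _ = q0 * ((q0⁻¹ * y) * x') := by rw [h2]
        _ = y * x' := by group
  have hcQ : x * q0 * x⁻¹ * q0⁻¹ ∈ Q := Q.mul_mem (hN x hxz q0 hq0) (Q.inv_mem hq0)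
  have hcR : ∀ r ∈ Q, r * a = a * r → (x * q0 * x⁻¹ * q0⁻¹) * r = r * (x * q0 * x⁻¹ * q0⁻¹) := by
    intro r hr hra
    have hr'Q : q0⁻¹ * r * q0 ∈ Q := Q.mul_mem (Q.mul_mem (Q.inv_mem hq0) hr) hq0
    have hrz : r * z = z * r := h.central r hr
    have hr'a : (q0⁻¹ * r * q0) * a = a * (q0⁻¹ * r * q0) := by
      calc q0⁻¹ * r * q0 * a = q0⁻¹ * r * (q0 * a) := by group
        _ = q0⁻¹ * r * (z * a * q0) := by rw [h4]
        _ = q0⁻¹ * (r * z) * a * q0 := by group
        _ = q0⁻¹ * (z * r) * a * q0 := by rw [hrz]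
        _ = q0⁻¹ * z * (r * a) * q0 := by group
        _ = q0⁻¹ * z * (a * r) * q0 := by rw [hra]
        _ = (q0⁻¹ * (z * a)) * r * q0 := by group
        _ = (a * q0⁻¹) * r * q0 := by rw [h5]
        _ = a * (q0⁻¹ * r * q0) := by group
    have h1 := hxR r hr hra
    have h2 := hxR _ hr'Q hr'a
    have h3 : x⁻¹ * (q0⁻¹ * r * q0) = (q0⁻¹ * r * q0) * x⁻¹ := by
      have := congrArg (fun w => x⁻¹ * w * x⁻¹) h2
      simp only [mul_assoc, mul_inv_cancel, mul_one, inv_mul_cancel_left] at this
      rw [← mul_assoc, ← mul_assoc, ← mul_assoc] at this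
      simpa [mul_assoc] using this.symm
    calc x * q0 * x⁻¹ * q0⁻¹ * r = x * q0 * (x⁻¹ * (q0⁻¹ * r * q0)) * q0⁻¹ := by group
      _ = x * q0 * ((q0⁻¹ * r * q0) * x⁻¹) * q0⁻¹ := by rw [h3]
      _ = (x * r) * q0 * x⁻¹ * q0⁻¹ := by group
      _ = (r * x) * q0 * x⁻¹ * q0⁻¹ := by rw [h1]
      _ = r * (x * q0 * x⁻¹ * q0⁻¹) := by group
  -- squares
  have hxs : x * (q0 * q0) = (q0 * q0) * x := by
    rcases h.sq_mem hq0 with h1 | h1
    · rw [h1]; simp
    · rw [h1]; exact hxz
  have hsq : (x * q0 * x⁻¹ * q0⁻¹) * q0 * ((x * q0 * x⁻¹ * q0⁻¹) * q0) = q0 * q0 := by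
    calc (x * q0 * x⁻¹ * q0⁻¹) * q0 * ((x * q0 * x⁻¹ * q0⁻¹) * q0)
        = (x * (q0 * q0)) * x⁻¹ := by group
      _ = (q0 * q0) * x * x⁻¹ := by rw [hxs]
      _ = q0 * q0 := by group
  have haqaq : a * q0 * (a * q0) = z * (q0 * q0) := by
    calc a * q0 * (a * q0) = (a * q0) * a * q0 := by group
      _ = (z * q0 * a) * a * q0 := by rw [h6]
      _ = z * q0 * (a * a) * q0 := by group
      _ = z * (q0 * q0) := by rw [hasq]; group
  have hne : z * (q0 * q0) ≠ q0 * q0 := by
    intro h1
    apply h.ne_one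
    have := congrArg (fun w => w * (q0 * q0)⁻¹) h1
    simpa [mul_assoc] using this
  rcases h.center_centralizer haQ ha1 haz hcQ hcR with h1 | h1 | h1 | h1
  · have hx'q : x * q0 = q0 * x := comm_of_commutator_eq_one h1
    rcases key x hxR hx'q with h2 | h2
    · exact Or.inl h2
    · exact Or.inr (Or.inl h2)
  · have h2 : x * q0 * x⁻¹ = z * q0 := conj_eq_of_commutator_eq h1
    have h3 : x * q0 = z * q0 * x := by
      have := congrArg (fun w => w * x) h2
      simpa [mul_assoc] using this
    have hx'R : ∀ r ∈ Q, r * a = a * r → (a * x) * r = r * (a * x) := by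
      intro r hr hra
      have h7 := hxR r hr hra
      calc a * x * r = a * (x * r) := by group
        _ = a * (r * x) := by rw [h7]
        _ = (a * r) * x := by group
        _ = (r * a) * x := by rw [hra]
        _ = r * (a * x) := by group
    have hx'q : (a * x) * q0 = q0 * (a * x) := by
      calc a * x * q0 = a * (x * q0) := by group
        _ = a * (z * q0 * x) := by rw [h3]
        _ = (a * z) * q0 * x := by group
        _ = (z * a) * q0 * x := by rw [hza]
        _ = z * (a * q0) * x := by group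
        _ = z * (z * q0 * a) * x := by rw [h6]
        _ = (z * z) * q0 * a * x := by group
        _ = q0 * (a * x) := by rw [h.sq]; group
    rcases key _ hx'R hx'q with h7 | h7
    · right; right; left
      have := congrArg (fun w => a⁻¹ * w) h7
      simp only [inv_mul_cancel_left, mul_one] at this
      rw [this, hainv]
    · right; right; right
      have := congrArg (fun w => a⁻¹ * w) h7
      simp only [inv_mul_cancel_left] at this
      rw [this, hainv, hza]
  · exfalso
    rw [h1] at hsq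
    rw [haqaq] at hsq
    exact hne hsq
  · exfalso
    rw [h1] at hsq
    have e : z * a * q0 * (z * a * q0) = z * (q0 * q0) := by
      calc z * a * q0 * (z * a * q0) = z * a * (q0 * z) * a * q0 := by group
        _ = z * a * (z * q0) * a * q0 := by rw [hzq]
        _ = z * (a * z) * q0 * a * q0 := by group
        _ = z * (z * a) * q0 * a * q0 := by rw [hza]
        _ = (z * z) * (a * q0 * (a * q0)) := by group
        _ = z * (q0 * q0) := by rw [h.sq, one_mul, haqaq]
    rw [e] at hsq
    exact hne hsq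

end ES

end Cfsg.Agent.Helper89
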