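import Mathlib
import Cfsg.Prelude.Def_Local
import Cfsg.Agent.Lib.Helper22.Bender
import Cfsg.Agent.Lib.Helper89.DoubleCent
import Cfsg.Agent.Lib.Helper89.PairRadical

set_option autoImplicit false

namespace Cfsg.Agent.Helper89

variable {G : Type*} [Group G]

/-- Transport the elementary extraspecial description from a subgroup `H` to the ambient group. -/
theorem ES.map_subtype {H : Subgroup G} {F : Subgroup H} {z : H} (h : ES F z) :
    ES (F.map H.subtype) (z : G) where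
  mem := ⟨z, h.mem, rfl⟩
  ne_one := fun e => h.ne_one (Subtype.ext e)
  sq := congrArg Subtype.val h.sq
  central := by
    rintro _ ⟨x, hx, rfl⟩
    exact congrArg Subtype.val (h.central x hx)
  comm := by
    rintro _ ⟨x, hx, rfl⟩ _ ⟨y, hy, rfl⟩
    rcases h.comm x hx y hy with e | e
    · left; exact congrArg Subtype.val e
    · right; exact congrArg Subtype.val e
  cent := by
    rintro _ ⟨x, hx, rfl⟩ hall
    rcases h.cent x hx (fun y hy => Subtype.ext (hall _ ⟨y, hy, rfl⟩)) with e | e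
    · left; rw [e]; rfl
    · right; rw [e]; rfl
  pgroup := h.pgroup.map _

/-- Elements of `zpowers z` for an involution `z`. -/
theorem mem_zpowers_of_sq {z x : G} (hz : z * z = 1) (hx : x ∈ Subgroup.zpowers z) :
    x = 1 ∨ x = z := by
  obtain ⟨k, rfl⟩ := hx
  rcases Int.even_or_odd k with ⟨m, rfl⟩ | ⟨m, rfl⟩
  · left
    show z ^ (m + m) = 1
    rw [← two_mul, zpow_mul, zpow_two, hz, one_zpow]
  · right
    show z ^ (2 * m + 1) = z
    rw [zpow_add, zpow_mul, zpow_two, hz, one_zpow, one_mul, zpow_one]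

/-- The setting `F*(C)` extraspecial for a subgroup `C` of a finite group: the image `Q` of
`F*(C)` in `G` is an `ES`-subgroup, normalized by `C`, and self-centralizing in `C`. -/
theorem fstar_setting [Finite G] (C : Subgroup G)
    (hE : Cfsg.IsExtraspecial 2 ↥(Cfsg.generalizedFittingSubgroup ↥C)) :
    ∃ z : G, ES ((Cfsg.generalizedFittingSubgroup ↥C).map C.subtype) z ∧
      (Cfsg.generalizedFittingSubgroup ↥C).map C.subtype ≤ C ∧
      (∀ c ∈ C, ∀ q ∈ (Cfsg.generalizedFittingSubgroup ↥C).map C.subtype,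
        c * q * c⁻¹ ∈ (Cfsg.generalizedFittingSubgroup ↥C).map C.subtype) ∧
      (∀ c ∈ C, (∀ q ∈ (Cfsg.generalizedFittingSubgroup ↥C).map C.subtype, c * q = q * c) →
        c ∈ (Cfsg.generalizedFittingSubgroup ↥C).map C.subtype) := by
  obtain ⟨z', hES, -⟩ := ES.of_extraspecial (Cfsg.generalizedFittingSubgroup ↥C) hE
  refine ⟨(z' : G), hES.map_subtype, ?_, ?_, ?_⟩
  · rintro _ ⟨x, -, rfl⟩
    exact x.2
  · rintro c hc _ ⟨x, hx, rfl⟩
    have hn : (Cfsg.generalizedFittingSubgroup ↥C).Normal :=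
      Helper22.generalizedFittingSubgroup_normal
    exact ⟨(⟨c, hc⟩ : C) * x * (⟨c, hc⟩ : C)⁻¹, hn.conj_mem x hx _, rfl⟩
  · intro c hc hall
    have hmem : (⟨c, hc⟩ : C) ∈
        Subgroup.centralizer ((Cfsg.generalizedFittingSubgroup ↥C : Subgroup C) : Set C) := by
      rw [Subgroup.mem_centralizer_iff]
      intro x hx
      apply Subtype.ext
      exact (hall _ ⟨x, hx, rfl⟩).symm
    exact ⟨_, Helper22.centralizer_generalizedFittingSubgroup_le hmem, rfl⟩

section CommStructure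

variable {Q : Subgroup G} {z : G}

/-- `x` commutes with `v * w` iff (`x` commutes with `v` iff `x` commutes with `w`). -/
theorem ES.comm_mul_iff (h : ES Q z) {g v w : G} (hg : g ∈ Q) (hv : v ∈ Q) (hw : w ∈ Q) :
    g * (v * w) = (v * w) * g ↔ (g * v = v * g ↔ g * w = w * g) := by
  rcases h.comm_or hg hv with h1 | h1 <;> rcases h.comm_or hg hw with h2 | h2
  · exact ⟨fun _ => ⟨fun _ => h2, fun _ => h1⟩, fun _ => comm_mul_right_of_comm_comm h1 h2⟩
  · have hn2 := h.not_comm_of_nc h2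
    constructor
    · intro h3
      exfalso
      apply hn2
      have : w = v⁻¹ * (v * w) := by group
      rw [this]
      have h1' : g * v⁻¹ = v⁻¹ * g := by
        calc g * v⁻¹ = v⁻¹ * (v * g) * v⁻¹ := by group
          _ = v⁻¹ * (g * v) * v⁻¹ := by rw [h1]
          _ = v⁻¹ * g := by group
      exact comm_mul_right_of_comm_comm h1' h3
    · intro h3
      exact absurd (h3.mp h1) hn2
  · have hn1 := h.not_comm_of_nc h1
    constructor
    · intro h3
      exfalso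
      apply hn1
      have : v = (v * w) * w⁻¹ := by group
      rw [this]
      have h2' : g * w⁻¹ = w⁻¹ * g := by
        calc g * w⁻¹ = w⁻¹ * (w * g) * w⁻¹ := by group
          _ = w⁻¹ * (g * w) * w⁻¹ := by rw [h2]
          _ = w⁻¹ * g := by group
      exact comm_mul_right_of_comm_comm h3 h2'
    · intro h3
      exact absurd (h3.mpr h2) hn1
  · have hn1 := h.not_comm_of_nc h1
    have hn2 := h.not_comm_of_nc h2
    exact ⟨fun _ => ⟨fun h3 => absurd h3 hn1, fun h3 => absurd h3 hn2⟩,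
      fun _ => h.comm_mul_right_of_nc_nc hv h1 h2⟩

theorem comm_inv_iff {g w : G} : g * w⁻¹ = w⁻¹ * g ↔ g * w = w * g := by
  constructor
  · intro h
    calc g * w = w * (w⁻¹ * g) * w := by group
      _ = w * (g * w⁻¹) * w := by rw [h]
      _ = w * g := by group
  · intro h
    calc g * w⁻¹ = w⁻¹ * (w * g) * w⁻¹ := by group
      _ = w⁻¹ * (g * w) * w⁻¹ := by rw [h]
      _ = w⁻¹ * g := by group

/-- **Commutator structure of an involution acting on an extraspecial `2`-group.**  Let `α` be an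
involution normalizing the `ES`-subgroup `Q`, centralizing `z` and acting nontrivially on `Q`; let
`Q₀` be the set of `q ∈ Q` with `[α, q] ∈ ⟨z⟩`.  Then `[α, Q] = Z(Q₀)`. -/
theorem ES.commutator_involution [Finite G] (h : ES Q z) (α : G) (hα2 : α * α = 1)
    (hnorm : ∀ q ∈ Q, α * q * α⁻¹ ∈ Q)
    (hnt : ∃ q ∈ Q, α * q * α⁻¹ * q⁻¹ ≠ 1)
    (Q₀ : Subgroup G)
    (hQ₀ : ∀ q : G, q ∈ Q₀ ↔ (q ∈ Q ∧ α * q * α⁻¹ * q⁻¹ ∈ Subgroup.zpowers z)) :
    Subgroup.closure ((fun q : G => α * q * α⁻¹ * q⁻¹) '' (Q : Set G)) =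
      (Subgroup.center ↥Q₀).map Q₀.subtype := by
  -- κ lands in Q
  have hκQ : ∀ q ∈ Q, α * q * α⁻¹ * q⁻¹ ∈ Q := fun q hq =>
    Q.mul_mem (hnorm q hq) (Q.inv_mem hq)
  -- conjugation by α twice
  have hconj2 : ∀ q : G, α * (α * q * α⁻¹) * α⁻¹ = q := by
    intro q
    calc α * (α * q * α⁻¹) * α⁻¹ = (α * α) * q * (α * α)⁻¹ := by group
      _ = q := by rw [hα2]; group
  -- conjugation by α preserves commuting
  have hconjcomm : ∀ a b : G, (α * a * α⁻¹) * b = b * (α * a * α⁻¹) ↔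
      a * (α * b * α⁻¹) = (α * b * α⁻¹) * a := by
    intro a b
    constructor
    · intro e
      calc a * (α * b * α⁻¹) = (α * (α * a * α⁻¹) * α⁻¹) * (α * b * α⁻¹) := by rw [hconj2]
        _ = α * (α * a * α⁻¹ * b) * α⁻¹ := by group
        _ = α * (b * (α * a * α⁻¹)) * α⁻¹ := by rw [e]
        _ = (α * b * α⁻¹) * (α * (α * a * α⁻¹) * α⁻¹) := by group
        _ = (α * b * α⁻¹) * a := by rw [hconj2]
    · intro e
      calc (α * a * α⁻¹) * b = (α * a * α⁻¹) * (α * (α * b * α⁻¹) * α⁻¹) := by rw [hconj2]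
        _ = α * (a * (α * b * α⁻¹)) * α⁻¹ := by group
        _ = α * ((α * b * α⁻¹) * a) * α⁻¹ := by rw [e]
        _ = (α * (α * b * α⁻¹) * α⁻¹) * (α * a * α⁻¹) := by group
        _ = b * (α * a * α⁻¹) := by rw [hconj2]
  -- adjointness
  have hadj : ∀ a ∈ Q, ∀ r ∈ Q,
      ((α * a * α⁻¹ * a⁻¹) * r = r * (α * a * α⁻¹ * a⁻¹) ↔
        a * (α * r * α⁻¹ * r⁻¹) = (α * r * α⁻¹ * r⁻¹) * a) := by
    intro a ha r hr
    have ha' := hnorm a ha
    have hr' := hnorm r hr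
    have e1 : (α * a * α⁻¹ * a⁻¹) * r = r * (α * a * α⁻¹ * a⁻¹) ↔
        (r * (α * a * α⁻¹) = (α * a * α⁻¹) * r ↔ r * a⁻¹ = a⁻¹ * r) := by
      rw [← h.comm_mul_iff hr ha' (Q.inv_mem ha)]
      exact eq_comm
    have e2 : a * (α * r * α⁻¹ * r⁻¹) = (α * r * α⁻¹ * r⁻¹) * a ↔
        (a * (α * r * α⁻¹) = (α * r * α⁻¹) * a ↔ a * r⁻¹ = r⁻¹ * a) :=
      h.comm_mul_iff ha hr' (Q.inv_mem hr)
    rw [e1, e2, comm_inv_iff, comm_inv_iff, ← hconjcomm a r]
    constructor
    · intro e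
      exact ⟨fun e' => ((e.mp e'.symm).symm), fun e' => (e.mpr e'.symm).symm⟩
    · intro e
      exact ⟨fun e' => ((e.mp e'.symm).symm), fun e' => (e.mpr e'.symm).symm⟩
  -- κ ∘ κ
  have hκκ : ∀ q ∈ Q, α * (α * q * α⁻¹ * q⁻¹) * α⁻¹ * (α * q * α⁻¹ * q⁻¹)⁻¹ ∈
      Subgroup.zpowers z := by
    intro q hq
    have e : α * (α * q * α⁻¹ * q⁻¹) * α⁻¹ * (α * q * α⁻¹ * q⁻¹)⁻¹ =
        (q * (α * q * α⁻¹)⁻¹) * (q * (α * q * α⁻¹)⁻¹) := by
      calc α * (α * q * α⁻¹ * q⁻¹) * α⁻¹ * (α * q * α⁻¹ * q⁻¹)⁻¹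
          = (α * (α * q * α⁻¹) * α⁻¹) * (α * q * α⁻¹)⁻¹ * q * (α * q * α⁻¹)⁻¹ := by group
        _ = (q * (α * q * α⁻¹)⁻¹) * (q * (α * q * α⁻¹)⁻¹) := by rw [hconj2]; group
    rw [e]
    rcases h.sq_mem (Q.mul_mem hq (Q.inv_mem (hnorm q hq))) with e' | e'
    · rw [e']; exact Subgroup.one_mem _
    · rw [e']; exact Subgroup.mem_zpowers z
  -- elements of zpowers z commute with Q
  have hzpc : ∀ t ∈ Subgroup.zpowers z, ∀ q ∈ Q, q * t = t * q := by
    intro t ht q hq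
    rcases mem_zpowers_of_sq h.sq ht with e | e
    · rw [e]; simp
    · rw [e]; exact h.central q hq
  set K := Subgroup.closure ((fun q : G => α * q * α⁻¹ * q⁻¹) '' (Q : Set G)) with hK
  have hKQ : K ≤ Q := by
    rw [hK, Subgroup.closure_le]
    rintro _ ⟨q, hq, rfl⟩
    exact hκQ q hq
  have hκK : ∀ q ∈ Q, α * q * α⁻¹ * q⁻¹ ∈ K := fun q hq =>
    Subgroup.subset_closure ⟨q, hq, rfl⟩
  -- z ∈ K
  have hzK : z ∈ K := by
    obtain ⟨q0, hq0, hne⟩ := hnt
    by_cases hcen : ∀ r ∈ Q, (α * q0 * α⁻¹ * q0⁻¹) * r = r * (α * q0 * α⁻¹ * q0⁻¹)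
    · rcases h.cent _ (hκQ q0 hq0) hcen with e | e
      · exact absurd e hne
      · rw [← e]; exact hκK q0 hq0
    · push Not at hcen
      obtain ⟨r, hr, hnc⟩ := hcen
      rcases h.comm_or hr (hκQ q0 hq0) with e | e
      · exact absurd e.symm hnc
      · rw [← e]
        have e3 : r * (α * q0 * α⁻¹ * q0⁻¹) * r⁻¹ =
            (α * r * α⁻¹ * r⁻¹)⁻¹ * (α * (r * q0) * α⁻¹ * (r * q0)⁻¹) := by group
        refine K.mul_mem ?_ (K.inv_mem (hκK q0 hq0))
        rw [e3]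
        exact K.mul_mem (K.inv_mem (hκK r hr)) (hκK _ (Q.mul_mem hr hq0))
  apply le_antisymm
  · rw [hK, Subgroup.closure_le]
    rintro _ ⟨q, hq, rfl⟩
    rw [SetLike.mem_coe, mem_center_map_subtype_iff]
    refine ⟨(hQ₀ _).mpr ⟨hκQ q hq, hκκ q hq⟩, ?_⟩
    intro y hy
    obtain ⟨hyQ, hyz⟩ := (hQ₀ y).mp hy
    exact ((hadj q hq y hyQ).mpr (hzpc _ hyz q hq)).symm
  · intro x hx
    rw [mem_center_map_subtype_iff] at hx
    obtain ⟨hxQ₀, hxc⟩ := hx
    obtain ⟨hxQ, -⟩ := (hQ₀ x).mp hxQ₀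
    by_contra hxK
    have hcl : Subgroup.closure ((K : Set G) ∪ {z}) = K := by
      apply le_antisymm
      · rw [Subgroup.closure_le]
        rintro t (ht | ht)
        · exact ht
        · rw [Set.mem_singleton_iff] at ht; rw [ht]; exact hzK
      · intro t ht
        exact Subgroup.subset_closure (Or.inl ht)
    obtain ⟨g, hgQ, hgK, hgx⟩ := h.exists_centralizing (S := (K : Set G)) (Set.toFinite _)
      (fun t ht => hKQ ht) x hxQ (by rw [hcl]; exact hxK)
    have hgQ₀ : g ∈ Q₀ := by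
      rw [hQ₀]
      refine ⟨hgQ, ?_⟩
      have hcen : ∀ r ∈ Q, (α * g * α⁻¹ * g⁻¹) * r = r * (α * g * α⁻¹ * g⁻¹) := by
        intro r hr
        exact (hadj g hgQ r hr).mpr (hgK _ (hκK r hr))
      rcases h.cent _ (hκQ g hgQ) hcen with e | e
      · rw [e]; exact Subgroup.one_mem _
      · rw [e]; exact Subgroup.mem_zpowers z
    exact h.not_comm_of_nc hgx (hxc g hgQ₀)

end CommStructure

end Cfsg.Agent.Helper89
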