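import Mathlib

set_option autoImplicit false

namespace Cfsg.Agent.Helper89

/-- A finite abelian group `A` has at most `|A|` homomorphisms to a group of order two. -/
theorem card_monoidHom_le_of_card_two (A : Type*) [CommGroup A] [Finite A] (Z : Type*) [CommGroup Z]
    (h2 : Nat.card Z = 2) : Nat.card (A →* Z) ≤ Nat.card A := by
  have : Fact (Nat.Prime 2) := ⟨Nat.prime_two⟩
  have hu : Nat.card ℤˣ = 2 := by
    rw [Nat.card_eq_fintype_card]; rfl
  let e : Z ≃* ℤˣ := mulEquivOfPrimeCardEq h2 hu
  let ι : Z →* ℂˣ := (Units.map ((Int.castRingHom ℂ) : ℤ →* ℂ)).comp e.toMonoidHom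
  have hι : Function.Injective ι := by
    intro x y hxy
    apply e.injective
    have h1 : Units.map ((Int.castRingHom ℂ) : ℤ →* ℂ) (e x) = Units.map ((Int.castRingHom ℂ) : ℤ →* ℂ) (e y) := hxy
    exact Units.map_injective (f := ((Int.castRingHom ℂ) : ℤ →* ℂ)) (Int.cast_injective) h1
  have : NeZero (Monoid.exponent A) := ⟨Monoid.exponent_ne_zero_of_finite⟩
  have hcard := CommGroup.card_monoidHom_of_hasEnoughRootsOfUnity A ℂ
  rw [← hcard]
  apply Nat.card_le_card_of_injective (fun f : A →* Z => ι.comp f)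
  intro f g hfg
  ext a
  have := DFunLike.congr_fun hfg a
  exact hι this

end Cfsg.Agent.Helper89
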