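import Mathlib
import Cfsg.Agent.Lib.Helper89.FStarES

set_option autoImplicit false

namespace Cfsg.Agent.Helper89

variable {G : Type*} [Group G]

/-- Conjugation action of a subgroup `N` of the normalizer of `A` on `A`. -/
@[reducible] def conjActOn (A N : Subgroup G) (hN : N ≤ Subgroup.normalizer (A : Set G)) : MulAction N A where
  smul g a := ⟨(g : G) * (a : G) * (g : G)⁻¹, (Subgroup.mem_normalizer_iff.mp (hN g.2) a).mp a.2⟩
  one_smul a := by
    apply Subtype.ext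
    show ((1 : N) : G) * (a : G) * ((1 : N) : G)⁻¹ = a
    simp
  mul_smul g g' a := by
    apply Subtype.ext
    show ((g * g' : N) : G) * (a : G) * ((g * g' : N) : G)⁻¹ =
      (g : G) * ((g' : G) * (a : G) * (g' : G)⁻¹) * (g : G)⁻¹
    rw [Subgroup.coe_mul]
    group

/-- A `p`-element `f` normalizing the finite subgroup `A`: `|A| ≡ |C_A(f)| (mod p)`. -/
theorem card_modEq_card_inf_centralizer (A : Subgroup G) [Finite A] (f : G)
    (hf : f ∈ Subgroup.normalizer (A : Set G)) (p : ℕ) [Fact p.Prime] (hp : IsPGroup p (Subgroup.zpowers f)) :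
    Nat.card A ≡ Nat.card (A ⊓ Subgroup.centralizer ({f} : Set G) : Subgroup G) [MOD p] := by
  have hN : Subgroup.zpowers f ≤ Subgroup.normalizer (A : Set G) := Subgroup.zpowers_le.mpr hf
  let _ : MulAction (Subgroup.zpowers f) A := conjActOn A (Subgroup.zpowers f) hN
  have h1 := hp.card_modEq_card_fixedPoints (α := A)
  have hsmul : ∀ (g : Subgroup.zpowers f) (a : A), ((g • a : A) : G) = (g : G) * a * (g : G)⁻¹ :=
    fun g a => rfl
  have e : MulAction.fixedPoints (Subgroup.zpowers f) A ≃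
      (A ⊓ Subgroup.centralizer ({f} : Set G) : Subgroup G) :=
    { toFun := fun x => ⟨(x.1 : G), x.1.2, by
        show (x.1 : G) ∈ Subgroup.centralizer ({f} : Set G)
        rw [Subgroup.mem_centralizer_singleton_iff]
        have := x.2 ⟨f, Subgroup.mem_zpowers f⟩
        have h2 := congrArg (fun y : A => (y : G)) this
        simp only [hsmul] at h2
        calc (x.1 : G) * f = (f * (x.1 : G) * f⁻¹) * f := by rw [h2]
          _ = f * (x.1 : G) := by group⟩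
      invFun := fun y => ⟨⟨(y : G), y.2.1⟩, by
        intro g
        apply Subtype.ext
        rw [hsmul]
        have hle : Subgroup.zpowers f ≤ Subgroup.centralizer ({(y : G)} : Set G) := by
          rw [Subgroup.zpowers_le, Subgroup.mem_centralizer_singleton_iff]
          exact (Subgroup.mem_centralizer_singleton_iff.mp y.2.2).symm
        have := Subgroup.mem_centralizer_singleton_iff.mp (hle g.2)
        show (g : G) * (y : G) * (g : G)⁻¹ = (y : G)
        rw [this]; group⟩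
      left_inv := fun x => by apply Subtype.ext; apply Subtype.ext; rfl
      right_inv := fun y => by apply Subtype.ext; rfl }
  rw [Nat.card_congr e] at h1
  exact h1

section Fix

variable {H : Subgroup G} {z : G}

/-- In a normal `ES`-subgroup the central involution is central in the whole group. -/
theorem ES.central_of_normal [hn : H.Normal] (h : ES H z) (g : G) : g * z = z * g := by
  have hm : g * z * g⁻¹ ∈ H := hn.conj_mem z h.mem g
  have hc : ∀ y ∈ H, (g * z * g⁻¹) * y = y * (g * z * g⁻¹) := by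
    intro y hy
    have hy' : g⁻¹ * y * g ∈ H := by simpa using hn.conj_mem y hy g⁻¹
    have := h.central _ hy'
    calc g * z * g⁻¹ * y = g * (z * (g⁻¹ * y * g)) * g⁻¹ := by group
      _ = g * ((g⁻¹ * y * g) * z) * g⁻¹ := by rw [this]
      _ = y * (g * z * g⁻¹) := by group
  rcases h.cent _ hm hc with e | e
  · exfalso
    apply h.ne_one
    have := congrArg (fun w => g⁻¹ * w * g) e
    simpa [mul_assoc] using this
  · calc g * z = (g * z * g⁻¹) * g := by group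
      _ = z * g := by rw [e]

theorem zpowers_central (hzc : ∀ g : G, g * z = z * g) :
    ∀ c ∈ Subgroup.zpowers z, ∀ x : G, c * x = x * c := by
  intro c hc x
  have hle : Subgroup.zpowers z ≤ Subgroup.center G := by
    rw [Subgroup.zpowers_le, Subgroup.mem_center_iff]
    exact hzc
  exact ((Subgroup.mem_center_iff.mp (hle hc)) x).symm

/-- The elements of `H` whose commutator with `g` lies in `⟨z⟩` (`z` central in `G`). -/
def fixSub (H : Subgroup G) (z : G) (hzc : ∀ g : G, g * z = z * g) (g : G) : Subgroup G where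
  carrier := {x | x ∈ H ∧ g * x * g⁻¹ * x⁻¹ ∈ Subgroup.zpowers z}
  one_mem' := ⟨H.one_mem, by simp⟩
  mul_mem' := by
    rintro x y ⟨hx, hkx⟩ ⟨hy, hky⟩
    refine ⟨H.mul_mem hx hy, ?_⟩
    have hc := zpowers_central hzc _ hky
    have e : g * (x * y) * g⁻¹ * (x * y)⁻¹ =
        (g * x * g⁻¹ * x⁻¹) * (g * y * g⁻¹ * y⁻¹) := by
      calc g * (x * y) * g⁻¹ * (x * y)⁻¹
          = (g * x * g⁻¹) * ((g * y * g⁻¹ * y⁻¹) * x⁻¹) := by group
        _ = (g * x * g⁻¹) * (x⁻¹ * (g * y * g⁻¹ * y⁻¹)) := by rw [hc x⁻¹]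
        _ = (g * x * g⁻¹ * x⁻¹) * (g * y * g⁻¹ * y⁻¹) := by group
    rw [e]
    exact Subgroup.mul_mem _ hkx hky
  inv_mem' := by
    rintro x ⟨hx, hkx⟩
    refine ⟨H.inv_mem hx, ?_⟩
    have hc := zpowers_central hzc _ hkx
    have e : g * x⁻¹ * g⁻¹ * x⁻¹⁻¹ = (g * x * g⁻¹ * x⁻¹)⁻¹ := by
      calc g * x⁻¹ * g⁻¹ * x⁻¹⁻¹ = x⁻¹ * ((g * x * g⁻¹ * x⁻¹)⁻¹ * x) := by group
        _ = x⁻¹ * (x * (g * x * g⁻¹ * x⁻¹)⁻¹) := by
            have := zpowers_central hzc _ (Subgroup.inv_mem _ hkx) x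
            rw [this]
        _ = (g * x * g⁻¹ * x⁻¹)⁻¹ := by group
    rw [e]
    exact Subgroup.inv_mem _ hkx

variable {hzc : ∀ g : G, g * z = z * g}

theorem mem_fixSub {g x : G} :
    x ∈ fixSub H z hzc g ↔ (x ∈ H ∧ g * x * g⁻¹ * x⁻¹ ∈ Subgroup.zpowers z) := Iff.rfl

theorem fixSub_le (g : G) : fixSub H z hzc g ≤ H := fun _ hx => hx.1

theorem mem_fixSub_mul {g g' x : G} (h1 : x ∈ fixSub H z hzc g) (h2 : x ∈ fixSub H z hzc g') :
    x ∈ fixSub H z hzc (g * g') := by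
  refine ⟨h1.1, ?_⟩
  have hc := zpowers_central hzc _ h2.2
  have e : (g * g') * x * (g * g')⁻¹ * x⁻¹ =
      (g' * x * g'⁻¹ * x⁻¹) * (g * x * g⁻¹ * x⁻¹) := by
    calc (g * g') * x * (g * g')⁻¹ * x⁻¹ = g * ((g' * x * g'⁻¹ * x⁻¹) * (x * g⁻¹ * x⁻¹)) := by group
      _ = (g' * x * g'⁻¹ * x⁻¹) * g * (x * g⁻¹ * x⁻¹) := by
          rw [← mul_assoc, ← hc g]
      _ = (g' * x * g'⁻¹ * x⁻¹) * (g * x * g⁻¹ * x⁻¹) := by group
  rw [e]
  exact Subgroup.mul_mem _ h2.2 h1.2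

theorem mem_fixSub_inv {g x : G} (h1 : x ∈ fixSub H z hzc g) : x ∈ fixSub H z hzc g⁻¹ := by
  refine ⟨h1.1, ?_⟩
  have hc := zpowers_central hzc _ (Subgroup.inv_mem _ h1.2)
  have e : g⁻¹ * x * g⁻¹⁻¹ * x⁻¹ = (g * x * g⁻¹ * x⁻¹)⁻¹ := by
    calc g⁻¹ * x * g⁻¹⁻¹ * x⁻¹ = g⁻¹ * ((g * x * g⁻¹ * x⁻¹)⁻¹ * g) := by group
      _ = g⁻¹ * (g * (g * x * g⁻¹ * x⁻¹)⁻¹) := by rw [hc g]
      _ = (g * x * g⁻¹ * x⁻¹)⁻¹ := by group
  rw [e]
  exact Subgroup.inv_mem _ h1.2

theorem mem_fixSub_pow {g x : G} (h1 : x ∈ fixSub H z hzc g) (n : ℕ) :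
    x ∈ fixSub H z hzc (g ^ n) := by
  induction n with
  | zero =>
    refine ⟨h1.1, ?_⟩
    simp
  | succ n ih =>
    rw [pow_succ]
    exact mem_fixSub_mul ih h1

theorem mem_fixSub_zpow {g x : G} (h1 : x ∈ fixSub H z hzc g) (n : ℤ) :
    x ∈ fixSub H z hzc (g ^ n) := by
  cases n with
  | ofNat n =>
    rw [Int.ofNat_eq_natCast, zpow_natCast]
    exact mem_fixSub_pow h1 n
  | negSucc n =>
    rw [zpow_negSucc]
    exact mem_fixSub_inv (mem_fixSub_pow h1 (n + 1))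

theorem ES.mem_fixSub_of_mem (h : ES H z) {a x : G} (ha : a ∈ H) (hx : x ∈ H) :
    x ∈ fixSub H z hzc a := by
  refine ⟨hx, ?_⟩
  rcases h.comm a ha x hx with e | e
  · rw [e]; exact Subgroup.one_mem _
  · rw [e]; exact Subgroup.mem_zpowers z

theorem ES.mem_fixSub_cancel_right (h : ES H z) {g a x : G} (ha : a ∈ H)
    (hx : x ∈ fixSub H z hzc (g * a)) : x ∈ fixSub H z hzc g := by
  have h1 : x ∈ fixSub H z hzc a⁻¹ := h.mem_fixSub_of_mem (H.inv_mem ha) hx.1
  have := mem_fixSub_mul hx h1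
  rwa [mul_inv_cancel_right] at this

theorem ES.mem_fixSub_cancel_left (h : ES H z) {g a x : G} (ha : a ∈ H)
    (hx : x ∈ fixSub H z hzc (a * g)) : x ∈ fixSub H z hzc g := by
  have h1 : x ∈ fixSub H z hzc a⁻¹ := h.mem_fixSub_of_mem (H.inv_mem ha) hx.1
  have := mem_fixSub_mul h1 hx
  rwa [inv_mul_cancel_left] at this

theorem mem_fixSub_conj [hn : H.Normal] {g x : G} (a : G) (h1 : x ∈ fixSub H z hzc g) :
    a * x * a⁻¹ ∈ fixSub H z hzc (a * g * a⁻¹) := by
  refine ⟨hn.conj_mem x h1.1 a, ?_⟩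
  have hc := zpowers_central hzc _ h1.2
  have e : (a * g * a⁻¹) * (a * x * a⁻¹) * (a * g * a⁻¹)⁻¹ * (a * x * a⁻¹)⁻¹ =
      g * x * g⁻¹ * x⁻¹ := by
    calc (a * g * a⁻¹) * (a * x * a⁻¹) * (a * g * a⁻¹)⁻¹ * (a * x * a⁻¹)⁻¹
        = a * (g * x * g⁻¹ * x⁻¹) * a⁻¹ := by group
      _ = (g * x * g⁻¹ * x⁻¹) * a * a⁻¹ := by rw [← hc a]
      _ = g * x * g⁻¹ * x⁻¹ := by group
  rw [e]
  exact h1.2

theorem mem_fixSub_of_comm {g x : G} (hx : x ∈ H) (hc : g * x = x * g) :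
    x ∈ fixSub H z hzc g := by
  refine ⟨hx, ?_⟩
  rw [hc]
  simp

end Fix

end Cfsg.Agent.Helper89
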