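import Mathlib
import Cfsg.Agent.Lib.Helper17.Sieve
import Cfsg.Agent.Lib.Helper17.IndexNormalizer
import Cfsg.Agent.Lib.Helper17.SylowInter
import Cfsg.Agent.Lib.Helper17.SylowInter2
import Cfsg.Agent.S1017

/-!
# Order 4800 = 2^6 * 3 * 5^2, part A: the normalizer of an intersection of two Sylow 5-subgroups

Key lemma (B) of helper1's paper proof (board #7146) for a nonabelian simple group of order 4800.
-/

set_option autoImplicit false

namespace Cfsg.Agent.Helper89.SV

open Nat MulAction Cfsg.Agent.Helper17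

universe u

variable {G : Type u} [Group G] [Finite G]

/-- The number of Sylow `p`-subgroups of `G` inside a subgroup `H` containing one of them is `≡ 1 mod p`
(copy of `Helper85.O4320.card_sylow_le_mod` without its unused hypothesis). -/
theorem h89sv_card_sylow_le_mod (p : ℕ) [Fact p.Prime] (P : Sylow p G)
    (H : Subgroup G) (hPH : (P : Subgroup G) ≤ H) :
    Nat.card {Q : Sylow p G // (Q : Subgroup G) ≤ H} ≡ 1 [MOD p] := by
  classical
  let X : SubMulAction (P : Subgroup G) (Sylow p G) :=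
    { carrier := {Q | (Q : Subgroup G) ≤ H}
      smul_mem' := by
        rintro ⟨g, hg⟩ Q hQ
        show ((⟨g, hg⟩ : (P : Subgroup G)) • Q : Sylow p G).1 ≤ H
        intro x hx
        have hx' : x ∈ (g • Q : Sylow p G).1 := hx
        rw [Sylow.coe_subgroup_smul] at hx'
        obtain ⟨s, hs, rfl⟩ := (Subgroup.mem_smul_pointwise_iff_exists _ _ _).mp hx'
        have h1 : s ∈ H := hQ hs
        have hgH : g ∈ H := hPH hg
        have h3 : MulAut.conj g • s = g * s * g⁻¹ := rfl
        rw [h3]
        exact H.mul_mem (H.mul_mem hgH h1) (H.inv_mem hgH) }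
  have hmod := P.2.card_modEq_card_fixedPoints ↥X
  have e1 : Nat.card ↥X = Nat.card {Q : Sylow p G // (Q : Subgroup G) ≤ H} := rfl
  have hfix : ∀ x : ↥X, x ∈ fixedPoints (P : Subgroup G) ↥X ↔ x = ⟨P, hPH⟩ := by
    intro x
    constructor
    · intro hx
      have h1 : (x : Sylow p G) ∈ fixedPoints (P : Subgroup G) (Sylow p G) := by
        intro g
        have := hx g
        exact congrArg (fun t : ↥X => (t : Sylow p G)) this
      have h2 : (P : Subgroup G) ≤ (x : Sylow p G) := P.2.sylow_mem_fixedPoints_iff.mp h1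
      have h3 : ((x : Sylow p G) : Subgroup G) = P := P.3 (x : Sylow p G).2 h2
      apply Subtype.ext
      exact Sylow.ext h3
    · rintro rfl g
      apply Subtype.ext
      show g • P = P
      have : P ∈ fixedPoints (P : Subgroup G) (Sylow p G) :=
        P.2.sylow_mem_fixedPoints_iff.mpr le_rfl
      exact this g
  have e2 : Nat.card (fixedPoints (P : Subgroup G) ↥X) = 1 := by
    rw [Nat.card_eq_one_iff_unique]
    refine ⟨⟨?_⟩, ⟨⟨⟨P, hPH⟩, (hfix _).2 rfl⟩⟩⟩
    rintro ⟨a, ha⟩ ⟨b, hb⟩
    apply Subtype.ext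
    exact ((hfix a).1 ha).trans ((hfix b).1 hb).symm
  rw [e1, e2] at hmod
  exact hmod

/-- An element normalizing two subgroups normalizes their intersection. -/
theorem h89sv_mem_normalizer_inf (A B : Subgroup G) (g : G)
    (hA : g ∈ Subgroup.normalizer (A : Set G)) (hB : g ∈ Subgroup.normalizer (B : Set G)) :
    g ∈ Subgroup.normalizer ((A ⊓ B : Subgroup G) : Set G) := by
  rw [Subgroup.mem_normalizer_iff] at hA hB ⊢
  intro h
  rw [Subgroup.mem_inf, Subgroup.mem_inf, hA h, hB h]

/-- Key lemma (B): two Sylow 5-subgroups `P ≠ R` of a nonabelian simple group of order 4800 with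
`P ⊓ R ≠ 1`. -/
theorem h89sv_keyB [IsSimpleGroup G] (hna : ¬ IsMulCommutative G) (hn : Nat.card G = 4800)
    [Fact (Nat.Prime 5)] (P R : Sylow 5 G) (hPR : P ≠ R)
    (hD : Nat.card ↥((P : Subgroup G) ⊓ (R : Subgroup G)) ≠ 1) :
    Nat.card ↥((P : Subgroup G) ⊓ (R : Subgroup G)) = 5 ∧
    (P : Subgroup G) ≤ Subgroup.normalizer (((P : Subgroup G) ⊓ (R : Subgroup G) : Subgroup G) : Set G) ∧
    (R : Subgroup G) ≤ Subgroup.normalizer (((P : Subgroup G) ⊓ (R : Subgroup G) : Subgroup G) : Set G) ∧
    Subgroup.normalizer (((P : Subgroup G) ⊓ (R : Subgroup G) : Subgroup G) : Set G) ≠ ⊤ ∧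
    Nat.card {Q : Sylow 5 G // (Q : Subgroup G) ≤
      Subgroup.normalizer (((P : Subgroup G) ⊓ (R : Subgroup G) : Subgroup G) : Set G)} % 5 = 1 ∧
    Nat.card {Q : Sylow 5 G // (Q : Subgroup G) ≤
      Subgroup.normalizer (((P : Subgroup G) ⊓ (R : Subgroup G) : Subgroup G) : Set G)} ≠ 1 ∧
    Nat.card {Q : Sylow 5 G // (Q : Subgroup G) ≤
      Subgroup.normalizer (((P : Subgroup G) ⊓ (R : Subgroup G) : Subgroup G) : Set G)} *
      Nat.card ↥(Subgroup.normalizer ((P : Subgroup G) : Set G) ⊓
        Subgroup.normalizer (((P : Subgroup G) ⊓ (R : Subgroup G) : Subgroup G) : Set G)) ≤ 480 ∧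
    Nat.card {Q : Sylow 5 G // (Q : Subgroup G) ≤
      Subgroup.normalizer (((P : Subgroup G) ⊓ (R : Subgroup G) : Subgroup G) : Set G)} *
      Nat.card ↥(Subgroup.normalizer ((P : Subgroup G) : Set G) ⊓
        Subgroup.normalizer (((P : Subgroup G) ⊓ (R : Subgroup G) : Subgroup G) : Set G)) ∣ 4800 ∧
    Nat.card ↥(Subgroup.normalizer (((P : Subgroup G) ⊓ (R : Subgroup G) : Subgroup G) : Set G)) =
      Nat.card {Q : Sylow 5 G // (Q : Subgroup G) ≤
        Subgroup.normalizer (((P : Subgroup G) ⊓ (R : Subgroup G) : Subgroup G) : Set G)} *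
      Nat.card ↥(Subgroup.normalizer ((P : Subgroup G) : Set G) ⊓
        Subgroup.normalizer (((P : Subgroup G) ⊓ (R : Subgroup G) : Subgroup G) : Set G)) ∧
    25 ∣ Nat.card ↥(Subgroup.normalizer ((P : Subgroup G) : Set G) ⊓
        Subgroup.normalizer (((P : Subgroup G) ⊓ (R : Subgroup G) : Subgroup G) : Set G)) := by
  have hn5 : Nat.card G = 5 ^ 2 * 192 := by rw [hn]; norm_num
  have hcP : Nat.card (P : Subgroup G) = 25 := by
    have := sylow_card_eq P hn5 (by norm_num); simpa using this
  have hcR : Nat.card (R : Subgroup G) = 25 := by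
    have := sylow_card_eq R hn5 (by norm_num); simpa using this
  set D : Subgroup G := (P : Subgroup G) ⊓ (R : Subgroup G) with hDdef
  set L : Subgroup G := Subgroup.normalizer (D : Set G) with hLdef
  -- |D| = 5
  have hDP : D ≤ (P : Subgroup G) := inf_le_left
  have hDR : D ≤ (R : Subgroup G) := inf_le_right
  have hDdvd : Nat.card D ∣ 5 ^ 2 := by
    have := Subgroup.card_dvd_of_le hDP
    rw [hcP] at this
    exact this
  have hD25 : Nat.card D ≠ 25 := by
    intro h25
    apply hPR
    apply Sylow.ext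
    have h1 : D = (P : Subgroup G) := Subgroup.eq_of_le_of_card_ge hDP (by rw [hcP, h25])
    have h2 : D = (R : Subgroup G) := Subgroup.eq_of_le_of_card_ge hDR (by rw [hcR, h25])
    rw [← h1, h2]
  have hD5 : Nat.card D = 5 := by
    obtain ⟨e, he, hDe⟩ := (Nat.dvd_prime_pow (by norm_num : Nat.Prime 5)).1 hDdvd
    interval_cases e
    · exact absurd hDe (by simpa using hD)
    · simpa using hDe
    · exact absurd hDe (by simpa using hD25)
  -- relative indices
  have hrel : (R : Subgroup G).relIndex (P : Subgroup G) = 5 := by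
    have h1 := card_inf_mul_relIndex (R : Subgroup G) (P : Subgroup G)
    rw [inf_comm, ← hDdef, hD5, hcP] at h1
    omega
  have hrel' : (P : Subgroup G).relIndex (R : Subgroup G) = 5 := by
    rw [← sylow_relIndex_symm]; exact hrel
  have hPL : (P : Subgroup G) ≤ L := le_normalizer_inf_of_relIndex_eq_prime P R hrel
  have hRL : (R : Subgroup G) ≤ L := by
    have := le_normalizer_inf_of_relIndex_eq_prime R P hrel'
    rw [inf_comm] at this
    exact this
  have hLtop : L ≠ ⊤ := by
    intro htop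
    have hnorm : D.Normal := Subgroup.normalizer_eq_top_iff.1 htop
    apply Cfsg.Agent.Helper17.normal_card_absurd D hnorm
    · rw [hD5]; norm_num
    · rw [hD5, hn]; norm_num
  have hmod := h89sv_card_sylow_le_mod 5 P L hPL
  have hmod' : Nat.card {Q : Sylow 5 G // (Q : Subgroup G) ≤ L} % 5 = 1 := by
    have := hmod
    rw [Nat.ModEq] at this
    simpa using this
  have hne1 : Nat.card {Q : Sylow 5 G // (Q : Subgroup G) ≤ L} ≠ 1 := by
    intro h1
    have hss : Subsingleton {Q : Sylow 5 G // (Q : Subgroup G) ≤ L} :=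
      (Nat.card_eq_one_iff_unique.1 h1).1
    have := hss.elim ⟨P, hPL⟩ ⟨R, hRL⟩
    exact hPR (congrArg Subtype.val this)
  have hcount := Cfsg.Agent.S1017.card_eq_card_mul L P hPL
  have h25 : 25 ∣ Nat.card ↥(Subgroup.normalizer ((P : Subgroup G) : Set G) ⊓ L) := by
    rw [← hcP]
    apply Subgroup.card_dvd_of_le
    exact le_inf Subgroup.le_normalizer hPL
  have hfac := two_mul_card_dvd_factorial hna L hLtop
  have hidx10 : 10 ≤ L.index := by
    by_contra hlt
    push Not at hlt
    have h9 : (L.index)! ∣ 9 ! := Nat.factorial_dvd_factorial (by omega)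
    have := dvd_trans hfac h9
    rw [hn] at this
    revert this
    decide
  have hLi := L.card_mul_index
  rw [hn, hcount] at hLi
  have hle : Nat.card {Q : Sylow 5 G // (Q : Subgroup G) ≤ L} *
      Nat.card ↥(Subgroup.normalizer ((P : Subgroup G) : Set G) ⊓ L) ≤ 480 := by
    generalize Nat.card {Q : Sylow 5 G // (Q : Subgroup G) ≤ L} *
      Nat.card ↥(Subgroup.normalizer ((P : Subgroup G) : Set G) ⊓ L) = m at hLi
    have := Nat.mul_le_mul_left m hidx10
    omega
  have hdvd : Nat.card {Q : Sylow 5 G // (Q : Subgroup G) ≤ L} *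
      Nat.card ↥(Subgroup.normalizer ((P : Subgroup G) : Set G) ⊓ L) ∣ 4800 :=
    ⟨L.index, hLi.symm⟩
  exact ⟨hD5, hPL, hRL, hLtop, hmod', hne1, hle, hdvd, hcount, h25⟩

end Cfsg.Agent.Helper89.SV
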