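import Mathlib
import Cfsg.Agent.Lib.Helper89.SV4800A

/-!
# Order 4800, part B: the case of 16 Sylow 5-subgroups
-/

set_option autoImplicit false

namespace Cfsg.Agent.Helper89.SV

open Nat MulAction Cfsg.Agent.Helper17

universe u

variable {G : Type u} [Group G] [Finite G]

/-- If every Sylow `p`-subgroup lies in `L` and `G` is simple (with nontrivial Sylow), then `L = ⊤`. -/
theorem h89sv_top_of_all_sylow_le [IsSimpleGroup G] {p : ℕ} [Fact p.Prime] (P : Sylow p G)
    (hP1 : Nat.card (P : Subgroup G) ≠ 1) (L : Subgroup G)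
    (hall : ∀ Q : Sylow p G, (Q : Subgroup G) ≤ L) : L = ⊤ := by
  have hle : Subgroup.normalClosure ((P : Subgroup G) : Set G) ≤ L := by
    unfold Subgroup.normalClosure
    rw [Subgroup.closure_le]
    intro a ha
    rw [Group.mem_conjugatesOfSet_iff] at ha
    obtain ⟨b, hb, hconj⟩ := ha
    rw [isConj_iff] at hconj
    obtain ⟨c, rfl⟩ := hconj
    apply hall (c • P)
    show c * b * c⁻¹ ∈ ((c • P : Sylow p G) : Subgroup G)
    rw [Cfsg.Agent.S1017.mem_smul_sylow_iff]
    have : c⁻¹ * (c * b * c⁻¹) * c = b := by group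
    rw [this]
    exact hb
  have hnorm : (Subgroup.normalClosure ((P : Subgroup G) : Set G)).Normal :=
    Subgroup.normalClosure_normal
  have hPle : (P : Subgroup G) ≤ Subgroup.normalClosure ((P : Subgroup G) : Set G) :=
    Subgroup.le_normalClosure
  rcases hnorm.eq_bot_or_eq_top with h | h
  · exfalso
    apply hP1
    have : (P : Subgroup G) = ⊥ := by
      rw [h] at hPle
      exact le_bot_iff.1 hPle
    rw [this]
    exact Subgroup.card_bot
  · rw [h] at hle
    exact top_le_iff.1 hle

/-- Case `n_5 = 16` of order 4800. -/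
theorem h89sv_case16 [IsSimpleGroup G] (hna : ¬ IsMulCommutative G) (hn : Nat.card G = 4800)
    [hp5 : Fact (Nat.Prime 5)] (h16 : Nat.card (Sylow 5 G) = 16) : False := by
  classical
  obtain ⟨P⟩ : Nonempty (Sylow 5 G) := inferInstance
  have hn5 : Nat.card G = 5 ^ 2 * 192 := by rw [hn]; norm_num
  have hcP : Nat.card (P : Subgroup G) = 25 := by
    have := sylow_card_eq P hn5 (by norm_num); simpa using this
  have hmod : ¬ Nat.card (Sylow 5 G) ≡ 1 [MOD 5 ^ 2] := by rw [h16]; decide
  obtain ⟨R, hPR, hidx⟩ := exists_sylow_large_inter 5 2 hmod P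
  change (R : Subgroup G).relIndex (P : Subgroup G) ≤ 5 ^ (2 - 1) at hidx
  have hDne : Nat.card ↥((P : Subgroup G) ⊓ (R : Subgroup G)) ≠ 1 := by
    intro h1
    have h2 := card_inf_mul_relIndex (R : Subgroup G) (P : Subgroup G)
    rw [inf_comm, h1, hcP] at h2
    norm_num at hidx
    omega
  obtain ⟨hD5, hPL, hRL, hLtop, hmodL, hne1, hle, hdvd, hcount, h25⟩ :=
    h89sv_keyB hna hn P R hPR hDne
  set D : Subgroup G := (P : Subgroup G) ⊓ (R : Subgroup G) with hDdef
  set L : Subgroup G := Subgroup.normalizer (D : Set G) with hLdef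
  set N : Subgroup G := Subgroup.normalizer ((P : Subgroup G) : Set G) with hNdef
  have hN300 : Nat.card N = 300 := by
    have : Nat.card N * Nat.card (Sylow 5 G) = Nat.card G := card_normalizer_mul_sylow_count P
    rw [h16, hn] at this
    omega
  -- n_L ≤ 16, and n_L ≠ 16
  have hnL16 : Nat.card {Q : Sylow 5 G // (Q : Subgroup G) ≤ L} ≤ 16 := by
    rw [← h16]
    exact Nat.card_le_card_of_injective (fun x => x.1) Subtype.val_injective
  have hnLne : Nat.card {Q : Sylow 5 G // (Q : Subgroup G) ≤ L} ≠ 16 := by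
    intro h
    apply hLtop
    apply h89sv_top_of_all_sylow_le P (by rw [hcP]; norm_num) L
    by_contra hex
    push Not at hex
    obtain ⟨Q0, hQ0⟩ := hex
    have : Fintype (Sylow 5 G) := Fintype.ofFinite _
    have hlt := Fintype.card_subtype_lt (p := fun Q : Sylow 5 G => (Q : Subgroup G) ≤ L) hQ0
    rw [← Nat.card_eq_fintype_card, ← Nat.card_eq_fintype_card, h, h16] at hlt
    exact lt_irrefl _ hlt
  have haN : Nat.card ↥(N ⊓ L) ∣ 300 := by
    rw [← hN300]
    exact Subgroup.card_dvd_of_le inf_le_left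
  have key : ∀ nL ∈ List.range 17, ∀ a ∈ List.range 301, nL % 5 = 1 → nL ≠ 1 → nL ≠ 16 → 25 ∣ a →
      a ∣ 300 → nL * a ∣ 4800 → nL * a ≤ 480 → a ∣ 50 := by decide +kernel
  have ha50 : Nat.card ↥(N ⊓ L) ∣ 50 :=
    key _ (List.mem_range.2 (by omega)) _
      (List.mem_range.2 (Nat.lt_succ_of_le (Nat.le_of_dvd (by norm_num) haN))) hmodL hne1 hnLne h25
      haN hdvd hle
  -- the stabilizer of R in N
  have h1 := Subgroup.card_eq_card_quotient_mul_card_subgroup (stabilizer ↥N R)
  have h2 : Nat.card (↥N ⧸ stabilizer ↥N R) = Nat.card (orbit ↥N R) :=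
    (Nat.card_congr (orbitEquivQuotientStabilizer ↥N R)).symm
  have h3 : Nat.card (orbit ↥N R) ≤ 16 := by
    rw [← h16]
    exact Nat.card_le_card_of_injective (fun x => x.1) Subtype.val_injective
  have hstabN : ∀ x : ↥N, x ∈ stabilizer ↥N R →
      (x : G) ∈ Subgroup.normalizer ((R : Subgroup G) : Set G) := by
    intro x hx
    rw [mem_stabilizer_iff] at hx
    exact Sylow.smul_eq_iff_mem_normalizer.mp hx
  -- |stab| divides |N ⊓ L|
  have hs1 : Nat.card (stabilizer ↥N R) ∣ Nat.card ↥(N ⊓ L) := by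
    let g : ↥(stabilizer ↥N R) →* G := N.subtype.comp (stabilizer ↥N R).subtype
    have hg : ∀ x, g x ∈ N ⊓ L := by
      intro x
      refine ⟨x.1.2, ?_⟩
      exact h89sv_mem_normalizer_inf _ _ _ x.1.2 (hstabN x.1 x.2)
    let f : ↥(stabilizer ↥N R) →* ↥(N ⊓ L) := g.codRestrict (N ⊓ L) hg
    apply Subgroup.card_dvd_of_injective f
    intro x y hxy
    have h := congrArg (fun z : ↥(N ⊓ L) => (z : G)) hxy
    exact Subtype.ext (Subtype.ext h)
  -- |stab| divides 60
  have hs2 : Nat.card (stabilizer ↥N R) ∣ 60 := by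
    set P' : Subgroup ↥N := (P : Subgroup G).subgroupOf N with hP'
    have hP'n : P'.Normal := Subgroup.normal_in_normalizer
    have hcP' : Nat.card P' = 25 := by
      rw [← hcP]
      exact Nat.card_congr (Subgroup.subgroupOfEquivOfLe Subgroup.le_normalizer).toEquiv
    have hP'idx : P'.index = 12 := by
      have := P'.card_mul_index
      rw [hcP', hN300] at this
      omega
    have hr := Subgroup.relIndex_dvd_index_of_normal (H := P') (K := stabilizer ↥N R)
    rw [hP'idx] at hr
    have hc := card_inf_mul_relIndex P' (stabilizer ↥N R)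
    have hinf : Nat.card ↥(P' ⊓ stabilizer ↥N R) ∣ 5 := by
      have hgoal : Nat.card ↥(P' ⊓ stabilizer ↥N R) ∣ Nat.card D := by
        let g : ↥(P' ⊓ stabilizer ↥N R) →* G := N.subtype.comp (P' ⊓ stabilizer ↥N R).subtype
        have hg : ∀ x, g x ∈ D := by
          intro x
          have hxP : (x.1 : G) ∈ (P : Subgroup G) := Subgroup.mem_subgroupOf.1 x.2.1
          have hxR : (x.1 : G) ∈ Subgroup.normalizer ((R : Subgroup G) : Set G) := hstabN x.1 x.2.2
          have := (IsPGroup.inf_normalizer_sylow P.2 R).le ⟨hxP, hxR⟩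
          exact this
        let f : ↥(P' ⊓ stabilizer ↥N R) →* ↥D := g.codRestrict D hg
        apply Subgroup.card_dvd_of_injective f
        intro x y hxy
        have h := congrArg (fun z : ↥D => (z : G)) hxy
        exact Subtype.ext (Subtype.ext h)
      rwa [hD5] at hgoal
    rw [← hc]
    exact Nat.mul_dvd_mul hinf hr
  have hs3 : Nat.card (stabilizer ↥N R) ∣ 10 := by
    have := Nat.dvd_gcd (dvd_trans hs1 ha50) hs2
    simpa using this
  have hs4 : Nat.card (stabilizer ↥N R) ≤ 10 := Nat.le_of_dvd (by norm_num) hs3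
  rw [hN300, h2] at h1
  have := Nat.mul_le_mul h3 hs4
  omega

end Cfsg.Agent.Helper89.SV
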