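import Mathlib
import Cfsg.Agent.Lib.Helper89.SV4800B

/-!
# Order 4800: glue.  `n_5 ∈ {16, 96}`; the case `16` is `h89sv_case16`, the case `96` is a hypothesis.
-/

set_option autoImplicit false

namespace Cfsg.Agent.Helper89.SV

open Nat Cfsg.Agent.Helper17 Cfsg.Agent.Helper17.Sieve

/-- No nonabelian simple group of order 4800, given the case of 96 Sylow 5-subgroups. -/
theorem no_4800_of_case96.{u}
    (h96 : ∀ (G : Type u) [Group G] [Finite G] [IsSimpleGroup G], ¬ IsMulCommutative G →
      Nat.card G = 4800 → Nat.card (Sylow 5 G) = 96 → False) : NoSimple.{u} 4800 := by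
  intro G _ _ _ hna hn
  have hp5 : Fact (Nat.Prime 5) := ⟨by norm_num⟩
  have hn5 : Nat.card G = 5 ^ 2 * 192 := by rw [hn]; norm_num
  obtain ⟨hd5, hm5⟩ := sylow_count (G := G) (p := 5) hn5 (by norm_num)
  have hne5 := sylow_count_ne_one (G := G) (p := 5) hn5 (by norm_num) (by norm_num) (by norm_num)
  have key5 : ∀ d ∈ List.range 193, d ∣ 192 → d % 5 = 1 → d ≠ 1 → d = 6 ∨ d = 16 ∨ d = 96 := by
    decide +kernel
  rcases key5 _ (List.mem_range.2 (Nat.lt_succ_of_le (Nat.le_of_dvd (by norm_num) hd5))) hd5 hm5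
    hne5 with h | h | h
  · have hfac := sylow_count_factorial hna (p := 5) hne5
    rw [h, hn] at hfac
    revert hfac
    decide
  · exact h89sv_case16 hna hn h
  · exact h96 G hna hn h

end Cfsg.Agent.Helper89.SV
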