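import Mathlib
import Cfsg.Agent.Lib.Helper89.SV4800G
import Cfsg.Agent.Lib.Helper16.SV4800C96

/-!
# No nonabelian simple group of order 4800 = 2^6 * 3 * 5^2

`n_5 ∈ {6, 16, 96}`: `6` dies by the factorial bound, `16` is `h89sv_case16` (helper89),
`96` is `Cfsg.Agent.Helper16.SV4800.false_of_ninetysix` (helper16).
-/

set_option autoImplicit false

namespace Cfsg.Agent.Helper89.SV

open Cfsg.Agent.Helper17.Sieve

theorem no_4800.{u} : NoSimple.{u} 4800 :=
  no_4800_of_case96.{u} (fun G _ _ _ _ hn h => Cfsg.Agent.Helper16.SV4800.false_of_ninetysix hn h)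

end Cfsg.Agent.Helper89.SV
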