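import Mathlib
import Cfsg.Agent.Lib.Helper89.LargeKey

set_option autoImplicit false

namespace Cfsg.Agent.Helper89

/-- A finite group `D` with a central involution `z` and order not divisible by `4` is
`⟨z⟩ × K` with `K` normal of odd order. -/
theorem exists_odd_normal_complement {D : Type*} [Group D] [Finite D] (z : D) (hz1 : z ≠ 1)
    (hz2 : z * z = 1) (hzc : ∀ d : D, d * z = z * d) (h4 : ¬ 4 ∣ Nat.card D) :
    ∃ K : Subgroup D, K.Normal ∧ Odd (Nat.card K) ∧ ∀ d : D, d ∈ K ∨ z⁻¹ * d ∈ K := by
  have hN0 : (Subgroup.zpowers z).Normal := by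
    constructor
    intro n hn g
    rcases mem_zpowers_of_sq_eq_one hz2 hn with e | e
    · rw [e]; simp
    · rw [e, hzc g]; simp
  have hord : orderOf z = 2 := by
    apply orderOf_eq_prime
    · rw [pow_two]; exact hz2
    · exact hz1
  have hcardN : Nat.card (Subgroup.zpowers z) = 2 := by rw [Nat.card_zpowers, hord]
  have hidx : 2 * (Subgroup.zpowers z).index = Nat.card D := by
    rw [← hcardN]; exact Subgroup.card_mul_index _
  have hcop : Nat.Coprime (Nat.card (Subgroup.zpowers z)) (Subgroup.zpowers z).index := by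
    rw [hcardN, Nat.coprime_two_left]
    by_contra hne
    rw [Nat.not_odd_iff_even] at hne
    obtain ⟨k, hk⟩ := hne
    apply h4
    exact ⟨k, by omega⟩
  obtain ⟨K, hK⟩ := Subgroup.exists_right_complement'_of_coprime hcop
  have hKidx : K.index = 2 := by rw [hK.index_eq_card, hcardN]
  have hKn : K.Normal := Subgroup.normal_of_index_eq_two hKidx
  have hKcard : 2 * Nat.card K = Nat.card D := by
    rw [← hcardN]; exact hK.card_mul_card
  have hKodd : Odd (Nat.card K) := by
    by_contra hne
    rw [Nat.not_odd_iff_even] at hne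
    obtain ⟨k, hk⟩ := hne
    apply h4
    exact ⟨k, by omega⟩
  have hzK : z ∉ K := by
    intro h
    have hdvd : orderOf z ∣ Nat.card K := Subgroup.orderOf_dvd_natCard K h
    rw [hord] at hdvd
    exact (Nat.not_even_iff_odd.mpr hKodd) (even_iff_two_dvd.mpr hdvd)
  refine ⟨K, hKn, hKodd, ?_⟩
  intro d
  by_cases hd : d ∈ K
  · left; exact hd
  · right
    rw [Subgroup.mul_mem_iff_of_index_two hKidx, inv_mem_iff]
    exact ⟨fun h => absurd h hzK, fun h => absurd h hd⟩

end Cfsg.Agent.Helper89
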