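import Mathlib
import Cfsg.Prelude.Def_Transfer
import Cfsg.Agent.Lib.Helper89.Twist

set_option autoImplicit false

namespace Cfsg.Agent.Helper89

/-- Some elementary abelian `2`-subgroup has order `2 ^ r`. -/
def RankGE (E : Type*) [Group E] (r : ℕ) : Prop :=
  ∃ A : Subgroup E, Cfsg.IsElementaryAbelian 2 A ∧ Nat.card A = 2 ^ r

/-- Every elementary abelian `2`-subgroup has order at most `2 ^ r`. -/
def RankLE (E : Type*) [Group E] (r : ℕ) : Prop :=
  ∀ A : Subgroup E, Cfsg.IsElementaryAbelian 2 A → Nat.card A ≤ 2 ^ r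

theorem elemAb_comm {E : Type*} [Group E] {A : Subgroup E} (hA : Cfsg.IsElementaryAbelian 2 A)
    {a b : E} (ha : a ∈ A) (hb : b ∈ A) : a * b = b * a :=
  congrArg Subtype.val (hA.1.is_comm.comm ⟨a, ha⟩ ⟨b, hb⟩)

theorem elemAb_sq {E : Type*} [Group E] {A : Subgroup E} (hA : Cfsg.IsElementaryAbelian 2 A)
    {a : E} (ha : a ∈ A) : a * a = 1 := by
  have := hA.2 a ha
  rwa [pow_two] at this

theorem elemAb_of {E : Type*} [Group E] (A : Subgroup E)
    (h1 : ∀ a ∈ A, ∀ b ∈ A, a * b = b * a) (h2 : ∀ a ∈ A, a * a = 1) :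
    Cfsg.IsElementaryAbelian 2 A := by
  refine ⟨⟨⟨fun a b => Subtype.ext (h1 a a.2 b b.2)⟩⟩, fun a ha => ?_⟩
  rw [pow_two]; exact h2 a ha

/-- `|A| = |A ∩ ker f| · |f(A)|`. -/
theorem card_eq_card_inf_ker_mul_card_map {G G' : Type*} [Group G] [Group G'] (f : G →* G')
    (A : Subgroup G) :
    Nat.card A = Nat.card (A ⊓ f.ker : Subgroup G) * Nat.card (A.map f) := by
  have h1 := Subgroup.relIndex_mul_relIndex (⊥ : Subgroup G) (A ⊓ f.ker) A bot_le inf_le_left
  rw [Subgroup.relIndex_bot_left, Subgroup.relIndex_bot_left, inf_comm, Subgroup.inf_relIndex_right,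
    Subgroup.relIndex_ker] at h1
  rw [inf_comm]
  exact h1.symm

namespace Twist

variable {E : Type*} [Group E] {c : CentralInv E}

/-- The centralizer of `e` in `E ∘ D₈` is `E × ⟨e⟩`. -/
def iota : E × Multiplicative (ZMod 2) →* Twist E c 0 0 where
  toFun t := ⟨t.1, Multiplicative.toAdd t.2, 0⟩
  map_one' := rfl
  map_mul' s t := by
    apply Twist.ext
    · simp [beta]
    · simp
    · simp

@[simp] theorem iota_g (t : E × Multiplicative (ZMod 2)) : (iota t : Twist E c 0 0).g = t.1 := rfl
@[simp] theorem iota_x (t : E × Multiplicative (ZMod 2)) :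
    (iota t : Twist E c 0 0).x = Multiplicative.toAdd t.2 := rfl
@[simp] theorem iota_y (t : E × Multiplicative (ZMod 2)) : (iota t : Twist E c 0 0).y = 0 := rfl

theorem iota_injective : Function.Injective (iota : E × Multiplicative (ZMod 2) → Twist E c 0 0) := by
  intro s t hst
  have h1 := congrArg Twist.g hst
  have h2 := congrArg Twist.x hst
  simp only [iota_g, iota_x] at h1 h2
  exact Prod.ext h1 (Multiplicative.toAdd.injective h2)

theorem mem_range_iota (a : Twist E c 0 0) : a ∈ (iota : _ →* Twist E c 0 0).range ↔ a.y = 0 := by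
  constructor
  · rintro ⟨t, rfl⟩; rfl
  · intro h
    exact ⟨(a.g, Multiplicative.ofAdd a.x), Twist.ext rfl rfl h.symm⟩

theorem mem_ker_ypr (a : Twist E c 0 0) : a ∈ (ypr : Twist E c 0 0 →* _).ker ↔ a.y = 0 := by
  rw [MonoidHom.mem_ker]
  constructor
  · intro h
    exact Multiplicative.ofAdd.injective h
  · intro h
    show Multiplicative.ofAdd a.y = 1
    rw [h]; rfl

theorem card_mult_zmod_two : Nat.card (Multiplicative (ZMod 2)) = 2 := by
  rw [Nat.card_eq_fintype_card]; rfl

/-- The rank goes up by at least one. -/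
theorem rankGE {r : ℕ} (h : RankGE E r) : RankGE (Twist E c 0 0) (r + 1) := by
  obtain ⟨A, hA, hcard⟩ := h
  refine ⟨(A.prod ⊤).map iota, ?_, ?_⟩
  · apply elemAb_of
    · rintro _ ⟨s, hs, rfl⟩ _ ⟨t, ht, rfl⟩
      rw [← map_mul, ← map_mul]
      congr 1
      have hs' := (Subgroup.mem_prod.mp hs).1
      have ht' := (Subgroup.mem_prod.mp ht).1
      exact Prod.ext (elemAb_comm hA hs' ht') (mul_comm _ _)
    · rintro _ ⟨s, hs, rfl⟩
      rw [← map_mul]
      have hs' := (Subgroup.mem_prod.mp hs).1
      have : s * s = 1 := by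
        apply Prod.ext
        · exact elemAb_sq hA hs'
        · show s.2 * s.2 = 1
          have : ∀ u : Multiplicative (ZMod 2), u * u = 1 := by decide
          exact this _
      rw [this, map_one]
  · rw [Subgroup.card_map_of_injective iota_injective, Nat.card_congr (Subgroup.prodEquiv A ⊤).toEquiv,
      Nat.card_prod, hcard, Subgroup.card_top, card_mult_zmod_two, pow_succ]

/-- The rank goes up by at most one. -/
theorem rankLE (hc : c.val ≠ 1) {r : ℕ} (h : RankLE E r) : RankLE (Twist E c 0 0) (r + 1) := by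
  intro A hA
  -- the pullback to `E × ⟨e⟩`
  have hA1 : Nat.card (A.comap iota) = Nat.card (A ⊓ (ypr : Twist E c 0 0 →* _).ker : Subgroup _) := by
    rw [← Subgroup.card_map_of_injective (iota_injective (c := c)), Subgroup.map_comap_eq]
    congr 2
    ext a
    rw [Subgroup.mem_inf, Subgroup.mem_inf, mem_range_iota, mem_ker_ypr]
    tauto
  -- its projection to `E`
  have hB : Cfsg.IsElementaryAbelian 2 ((A.comap iota).map (MonoidHom.fst E (Multiplicative (ZMod 2)))) := by
    apply elemAb_of
    · rintro _ ⟨s, hs, rfl⟩ _ ⟨t, ht, rfl⟩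
      have := elemAb_comm hA (Subgroup.mem_comap.mp hs) (Subgroup.mem_comap.mp ht)
      rw [← map_mul, ← map_mul] at this
      have := iota_injective this
      exact congrArg Prod.fst this
    · rintro _ ⟨s, hs, rfl⟩
      have := elemAb_sq hA (Subgroup.mem_comap.mp hs)
      rw [← map_mul, ← map_one (iota : _ →* Twist E c 0 0)] at this
      have := iota_injective this
      exact congrArg Prod.fst this
  have hBcard := h _ hB
  have hsplit := card_eq_card_inf_ker_mul_card_map (MonoidHom.fst E (Multiplicative (ZMod 2))) (A.comap iota)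
  have hsplit2 := card_eq_card_inf_ker_mul_card_map (ypr : Twist E c 0 0 →* _) A
  have hker_le : Nat.card ((A.comap iota) ⊓ (MonoidHom.fst E (Multiplicative (ZMod 2))).ker : Subgroup _) ≤ 2 := by
    have h1 : (A.comap iota) ⊓ (MonoidHom.fst E (Multiplicative (ZMod 2))).ker ≤
        (⊥ : Subgroup E).prod ⊤ := by
      intro s hs
      have := (Subgroup.mem_inf.mp hs).2
      rw [MonoidHom.mem_ker] at this
      rw [Subgroup.mem_prod]
      exact ⟨Subgroup.mem_bot.mpr this, Subgroup.mem_top _⟩
    haveI : Finite ((⊥ : Subgroup E).prod (⊤ : Subgroup (Multiplicative (ZMod 2)))) :=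
      Finite.of_equiv _ (Subgroup.prodEquiv _ _).symm.toEquiv
    calc Nat.card ((A.comap iota) ⊓ (MonoidHom.fst E (Multiplicative (ZMod 2))).ker : Subgroup _)
        ≤ Nat.card ((⊥ : Subgroup E).prod (⊤ : Subgroup (Multiplicative (ZMod 2)))) :=
          Subgroup.card_le_of_le h1
      _ = 2 := by
          rw [Nat.card_congr (Subgroup.prodEquiv _ _).toEquiv, Nat.card_prod, Subgroup.card_bot,
            Subgroup.card_top, card_mult_zmod_two]
  have himg_le : Nat.card (A.map (ypr : Twist E c 0 0 →* _)) ≤ 2 := by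
    calc Nat.card (A.map (ypr : Twist E c 0 0 →* _)) ≤ Nat.card (Multiplicative (ZMod 2)) :=
          Subgroup.card_le_card_group _
      _ = 2 := card_mult_zmod_two
  by_cases he : (eT : Twist E c 0 0) ∈ A
  · -- A ≤ C(e)
    have hAle : A ≤ (ypr : Twist E c 0 0 →* _).ker := by
      intro a ha
      rw [mem_ker_ypr]
      have := congrArg Twist.g (elemAb_comm hA ha he)
      simp only [mul_g, eT, beta, mul_one, one_mul, mul_zero, zero_mul, add_zero, zero_add,
        CentralInv.pw_zero] at this
      have h3 : c.pw a.y = 1 := mul_left_cancel (this.trans (mul_one _).symm)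
      exact (c.pw_eq_one_iff hc _).mp h3
    have : A ⊓ (ypr : Twist E c 0 0 →* _).ker = A := inf_eq_left.mpr hAle
    rw [this] at hA1
    rw [← hA1, hsplit, pow_succ]
    calc _ ≤ 2 * 2 ^ r := Nat.mul_le_mul hker_le hBcard
      _ = 2 ^ r * 2 := by ring
  · -- the projection is injective
    have hker1 : (A.comap iota) ⊓ (MonoidHom.fst E (Multiplicative (ZMod 2))).ker = ⊥ := by
      rw [eq_bot_iff]
      intro s hs
      rw [Subgroup.mem_bot]
      have h1 := (Subgroup.mem_inf.mp hs).1
      have h2 := (Subgroup.mem_inf.mp hs).2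
      rw [MonoidHom.mem_ker] at h2
      rw [Subgroup.mem_comap] at h1
      by_contra hne
      apply he
      have hs2 : Multiplicative.toAdd s.2 = 1 := by
        rcases CentralInv.zmod_two_cases (Multiplicative.toAdd s.2) with h3 | h3
        · exfalso
          apply hne
          exact Prod.ext h2 (Multiplicative.toAdd.injective h3)
        · exact h3
      have : (iota s : Twist E c 0 0) = eT := Twist.ext h2 hs2 rfl
      rw [← this]; exact h1
    rw [hker1, Subgroup.card_bot, one_mul] at hsplit
    rw [hsplit2, ← hA1, hsplit, pow_succ]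
    exact Nat.mul_le_mul hBcard himg_le

end Twist

end Cfsg.Agent.Helper89
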