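import Mathlib
import Cfsg.Agent.Lib.Helper89.FStarES

set_option autoImplicit false

namespace Cfsg.Agent.Helper89

variable {G : Type*} [Group G] {Q : Subgroup G} {z : G}

open Classical in
/-- Parity of commutation with a product in an extraspecial `2`-group. -/
theorem ES.comm_list_prod_iff (h : ES Q z) {y : G} (hy : y ∈ Q) (L : List G)
    (hL : ∀ q ∈ L, q ∈ Q) :
    y * L.prod = L.prod * y ↔ Even (L.countP (fun q => decide (y * q ≠ q * y))) := by
  induction L with
  | nil => simp
  | cons q L ih =>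
    have hq : q ∈ Q := hL q List.mem_cons_self
    have hL' : ∀ q' ∈ L, q' ∈ Q := fun q' hq' => hL q' (List.mem_cons_of_mem _ hq')
    have hprod : L.prod ∈ Q := Subgroup.list_prod_mem _ hL'
    rw [List.prod_cons, h.comm_mul_iff hy hq hprod, ih hL', List.countP_cons]
    by_cases hc : y * q = q * y
    · simp [hc]
    · simp [hc, Nat.even_add_one]

/-- **Coprime action on an extraspecial `2`-group.**  If `A` has odd order, normalizes `Q` and
centralizes `z`, then every non-central element `x` of `C_Q(A)` fails to commute with some element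
of `C_Q(A)`. -/
theorem ES.exists_fixed_noncommuting [Finite G] (h : ES Q z) (A : Subgroup G)
    (hA : Odd (Nat.card A))
    (hAQ : ∀ α ∈ A, ∀ q ∈ Q, α * q * α⁻¹ ∈ Q) (hAz : ∀ α ∈ A, α * z = z * α)
    {x : G} (hxQ : x ∈ Q) (hxA : ∀ α ∈ A, α * x = x * α) (hx1 : x ≠ 1) (hxz : x ≠ z) :
    ∃ v ∈ Q, (∀ α ∈ A, α * v = v * α) ∧ v * x * v⁻¹ * x⁻¹ = z := by
  classical
  obtain ⟨u, huQ, hux⟩ := h.exists_conj hxQ hx1 hxz
  have hunc : x * u ≠ u * x := by
    intro hc
    apply h.ne_one
    have : u * x * u⁻¹ = x := by rw [← hc]; group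
    rw [this] at hux
    calc z = z * x * x⁻¹ := by group
      _ = 1 := by rw [← hux]; group
  have : Fintype ↥A := Fintype.ofFinite _
  set l : List ↥A := (Finset.univ : Finset ↥A).toList with hl
  set f : ↥A → G := fun α => (α : G) * u * (α : G)⁻¹ with hf
  set L : List G := l.map f with hL
  set v := L.prod with hv
  have hLQ : ∀ q ∈ L, q ∈ Q := by
    intro q hq
    obtain ⟨α, -, rfl⟩ := List.mem_map.mp hq
    exact hAQ α α.2 u huQ
  have hvQ : v ∈ Q := Subgroup.list_prod_mem _ hLQ
  have hxv : ¬ (x * v = v * x) := by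
    rw [h.comm_list_prod_iff hxQ L hLQ]
    have hcount : L.countP (fun q => decide (x * q ≠ q * x)) = L.length := by
      rw [List.countP_eq_length]
      intro q hq
      obtain ⟨α, -, rfl⟩ := List.mem_map.mp hq
      simp only [decide_eq_true_eq]
      intro hc
      apply hunc
      have hα : (α : G) * x = x * α := hxA α α.2
      have hα' : (α : G)⁻¹ * x = x * (α : G)⁻¹ := by
        calc (α : G)⁻¹ * x = (α : G)⁻¹ * (x * α) * (α : G)⁻¹ := by group
          _ = (α : G)⁻¹ * (α * x) * (α : G)⁻¹ := by rw [hα]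
          _ = x * (α : G)⁻¹ := by group
      calc x * u = (α : G)⁻¹ * ((α : G) * x) * u := by group
        _ = (α : G)⁻¹ * (x * α) * u := by rw [hα]
        _ = (α : G)⁻¹ * (x * (α * u * (α : G)⁻¹)) * α := by group
        _ = (α : G)⁻¹ * ((α * u * (α : G)⁻¹) * x) * α := by rw [hc]
        _ = u * ((α : G)⁻¹ * x) * α := by group
        _ = u * (x * (α : G)⁻¹) * α := by rw [hα']
        _ = u * x := by group
    rw [hcount, hL, List.length_map, hl, Finset.length_toList, Finset.card_univ,
      ← Nat.card_eq_fintype_card]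
    exact Nat.not_even_iff_odd.mpr hA
  have hβ : ∀ β ∈ A, β * v * β⁻¹ = v ∨ β * v * β⁻¹ = z * v := by
    intro β hβA
    have hperm : (L.map (fun q => β * q * β⁻¹)).Perm L := by
      rw [hL, List.map_map]
      have hcomp : ((fun q => β * q * β⁻¹) ∘ f) = f ∘ (fun α => (⟨β, hβA⟩ : A) * α) := by
        funext α
        simp only [hf, Function.comp_apply, Subgroup.coe_mul]
        group
      rw [hcomp, ← List.map_map]
      apply List.Perm.map
      apply List.perm_of_nodup_nodup_toFinset_eq
      · apply List.Nodup.map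
        · intro a b hab
          exact mul_left_cancel hab
        · exact Finset.nodup_toList _
      · exact Finset.nodup_toList _
      · ext α
        simp only [List.mem_toFinset, List.mem_map, hl, Finset.mem_toList, Finset.mem_univ,
          true_and, iff_true]
        exact ⟨(⟨β, hβA⟩ : A)⁻¹ * α, by group⟩
    have hprod : β * v * β⁻¹ = (L.map (fun q => β * q * β⁻¹)).prod := by
      have h1 := map_list_prod (MulAut.conj β).toMonoidHom L
      have h2 : (L.map (fun q => β * q * β⁻¹)) = L.map ((MulAut.conj β).toMonoidHom) := by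
        apply List.map_congr_left
        intro q _
        rfl
      rw [h2, ← h1]
      rfl
    have hLQ' : ∀ q ∈ L.map (fun q => β * q * β⁻¹), q ∈ Q := by
      intro q hq
      obtain ⟨q', hq', rfl⟩ := List.mem_map.mp hq
      exact hAQ β hβA q' (hLQ q' hq')
    have hv'Q : β * v * β⁻¹ ∈ Q := hAQ β hβA v hvQ
    have hiff : ∀ y ∈ Q, (y * (β * v * β⁻¹) = (β * v * β⁻¹) * y ↔ y * v = v * y) := by
      intro y hy
      rw [hprod, h.comm_list_prod_iff hy _ hLQ', h.comm_list_prod_iff hy L hLQ, hperm.countP_eq]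
    have hw : ∀ y ∈ Q, (β * v * β⁻¹ * v⁻¹) * y = y * (β * v * β⁻¹ * v⁻¹) := by
      intro y hy
      have := (h.comm_mul_iff hy hv'Q (Q.inv_mem hvQ)).mpr
        (by rw [comm_inv_iff]; exact hiff y hy)
      exact this.symm
    rcases h.cent _ (Q.mul_mem hv'Q (Q.inv_mem hvQ)) hw with e | e
    · left; exact mul_inv_eq_one.mp e
    · right; exact mul_inv_eq_iff_eq_mul.mp e
  refine ⟨v, hvQ, ?_, ?_⟩
  · intro β hβA
    have hzβ : β * z = z * β := hAz β hβA
    have h2 : β * β * v = v * (β * β) := by
      have key : β * β * v * (β * β)⁻¹ = v := by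
        rcases hβ β hβA with e | e
        · calc β * β * v * (β * β)⁻¹ = β * (β * v * β⁻¹) * β⁻¹ := by group
            _ = v := by rw [e, e]
        · have hzβ' : β * z * β⁻¹ = z := by rw [hzβ]; group
          calc β * β * v * (β * β)⁻¹ = β * (β * v * β⁻¹) * β⁻¹ := by group
            _ = β * (z * v) * β⁻¹ := by rw [e]
            _ = (β * z * β⁻¹) * (β * v * β⁻¹) := by group
            _ = z * (z * v) := by rw [e, hzβ']
            _ = (z * z) * v := by group
            _ = v := by rw [h.sq, one_mul]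
      calc β * β * v = (β * β * v * (β * β)⁻¹) * (β * β) := by group
        _ = v * (β * β) := by rw [key]
    have hodd : Odd (orderOf β) := Odd.of_dvd_nat hA (Subgroup.orderOf_dvd_natCard A hβA)
    obtain ⟨k, hk⟩ := hodd
    have hpow : (β * β) ^ (k + 1) = β := by
      rw [← pow_two, ← pow_mul]
      have : 2 * (k + 1) = orderOf β + 1 := by omega
      rw [this, pow_succ, pow_orderOf_eq_one, one_mul]
    have hc : Commute ((β * β) ^ (k + 1)) v := Commute.pow_left h2 (k + 1)
    rw [hpow] at hc
    exact hc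
  · rcases h.comm_or hvQ hxQ with e | e
    · exact absurd e.symm hxv
    · exact e

/-- The centralizer in an extraspecial `2`-group `Q` of an odd-order group `A` of automorphisms
(centralizing `z`) is again "extraspecial with centre `⟨z⟩`". -/
theorem ES.inf_centralizer_odd [Finite G] (h : ES Q z) (A : Subgroup G) (hA : Odd (Nat.card A))
    (hAQ : ∀ α ∈ A, ∀ q ∈ Q, α * q * α⁻¹ ∈ Q) (hAz : ∀ α ∈ A, α * z = z * α) :
    ES (Q ⊓ Subgroup.centralizer (A : Set G)) z where
  mem := Subgroup.mem_inf.mpr ⟨h.mem, Subgroup.mem_centralizer_iff.mpr (fun α hα => hAz α hα)⟩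
  ne_one := h.ne_one
  sq := h.sq
  central := fun x hx => h.central x hx.1
  comm := fun x hx y hy => h.comm x hx.1 y hy.1
  cent := by
    intro x hx hall
    by_contra hcon
    push Not at hcon
    have hxA : ∀ α ∈ A, α * x = x * α := fun α hα => Subgroup.mem_centralizer_iff.mp hx.2 α hα
    obtain ⟨v, hvQ, hvA, hvx⟩ := h.exists_fixed_noncommuting A hA hAQ hAz hx.1 hxA hcon.1 hcon.2
    have hvR : v ∈ Q ⊓ Subgroup.centralizer (A : Set G) :=
      Subgroup.mem_inf.mpr ⟨hvQ, Subgroup.mem_centralizer_iff.mpr (fun α hα => hvA α hα)⟩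
    have hc := hall v hvR
    apply h.ne_one
    rw [← hvx, ← hc]; group
  pgroup := h.pgroup.to_le inf_le_left

/-- Restriction of an `ES` structure to an intermediate subgroup. -/
theorem ES.subgroupOf (h : ES Q z) (M : Subgroup G) (hQM : Q ≤ M) :
    ES (Q.subgroupOf M) (⟨z, hQM h.mem⟩ : M) where
  mem := Subgroup.mem_subgroupOf.mpr h.mem
  ne_one := fun e => h.ne_one (congrArg Subtype.val e)
  sq := Subtype.ext h.sq
  central := fun x hx => Subtype.ext (h.central x (Subgroup.mem_subgroupOf.mp hx))
  comm := by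
    intro x hx y hy
    rcases h.comm x (Subgroup.mem_subgroupOf.mp hx) y (Subgroup.mem_subgroupOf.mp hy) with e | e
    · left; exact Subtype.ext e
    · right; exact Subtype.ext e
  cent := by
    intro x hx hall
    have hc : ∀ y ∈ Q, (x : G) * y = y * x := by
      intro y hy
      have := hall ⟨y, hQM hy⟩ (Subgroup.mem_subgroupOf.mpr hy)
      exact congrArg Subtype.val this
    rcases h.cent x (Subgroup.mem_subgroupOf.mp hx) hc with e | e
    · left; exact Subtype.ext e
    · right; exact Subtype.ext e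
  pgroup := h.pgroup.comap_subtype

/-- If `c y c⁻¹ y⁻¹ = n` lies in an odd-order subgroup `A`, commutes with `y`, and `y` is a
`2`-element, then `c` commutes with `y`. -/
theorem comm_of_commutator_mem_odd [Finite G] (A : Subgroup G) (hA : Odd (Nat.card A)) {c y : G}
    {k : ℕ} (hy : y ^ (2 ^ k) = 1) (hyA : ∀ α ∈ A, α * y = y * α)
    (hn : c * y * c⁻¹ * y⁻¹ ∈ A) : c * y = y * c := by
  set n := c * y * c⁻¹ * y⁻¹ with hndef
  have hcy : c * y * c⁻¹ = n * y := by rw [hndef]; group
  have hcomm : Commute n y := hyA n hn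
  have h1 : (c * y * c⁻¹) ^ (2 ^ k) = 1 := by rw [conj_pow, hy]; group
  rw [hcy, hcomm.mul_pow, hy, mul_one] at h1
  have hd1 : orderOf n ∣ 2 ^ k := orderOf_dvd_of_pow_eq_one h1
  have hd2 : orderOf n ∣ Nat.card A := Subgroup.orderOf_dvd_natCard A hn
  have hcop : Nat.Coprime (2 ^ k) (Nat.card A) :=
    Nat.Coprime.pow_left k (Nat.coprime_two_left.mpr hA)
  have hone : orderOf n = 1 := Nat.eq_one_of_dvd_coprimes hcop hd1 hd2
  have hn1 : n = 1 := orderOf_eq_one_iff.mp hone
  rw [hn1, one_mul] at hcy
  calc c * y = (c * y * c⁻¹) * c := by group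
    _ = y * c := by rw [hcy]

end Cfsg.Agent.Helper89
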