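import Mathlib
import Cfsg.Prelude.Def_Local
import Cfsg.Prelude.Def_MonsterType
import Cfsg.Agent.Lib.Helper22.Bender
import Cfsg.Agent.Lib.Helper89.FStarES

set_option autoImplicit false

namespace Cfsg.Agent.Helper89

variable {G : Type*} [Group G]

/-- Basic properties of the image `Q` of `F*(C)` in `G` for a subgroup `C` of a finite group:
`Q ≤ C`, `C` normalizes `Q`, and `C_C(Q) ≤ Q`. -/
theorem fstar_props [Finite G] (C Q : Subgroup G)
    (hF : (Cfsg.generalizedFittingSubgroup ↥C).map C.subtype = Q) :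
    Q ≤ C ∧ (∀ c ∈ C, ∀ q ∈ Q, c * q * c⁻¹ ∈ Q) ∧
      (∀ c ∈ C, (∀ q ∈ Q, c * q = q * c) → c ∈ Q) := by
  subst hF
  refine ⟨?_, ?_, ?_⟩
  · rintro _ ⟨x, -, rfl⟩
    exact x.2
  · rintro c hc _ ⟨x, hx, rfl⟩
    have hn : (Cfsg.generalizedFittingSubgroup ↥C).Normal :=
      Helper22.generalizedFittingSubgroup_normal
    exact ⟨(⟨c, hc⟩ : C) * x * (⟨c, hc⟩ : C)⁻¹, hn.conj_mem x hx _, rfl⟩
  · intro c hc hall
    have hmem : (⟨c, hc⟩ : C) ∈
        Subgroup.centralizer ((Cfsg.generalizedFittingSubgroup ↥C : Subgroup C) : Set C) := by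
      rw [Subgroup.mem_centralizer_iff]
      intro x hx
      apply Subtype.ext
      exact (hall _ ⟨x, hx, rfl⟩).symm
    exact ⟨_, Helper22.centralizer_generalizedFittingSubgroup_le hmem, rfl⟩

/-- The involution-centralizer setting: `z` an involution, `Q = F*(C_G(z))` extraspecial.  Then
`ES Q z`, and the first three clauses of `IsLargeExtraspecial` hold. -/
theorem fstar_involution_setting [Finite G] (z : G) (hz : orderOf z = 2) (Q : Subgroup G)
    (hF : (Cfsg.generalizedFittingSubgroup ↥(Subgroup.centralizer ({z} : Set G))).map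
      (Subgroup.centralizer ({z} : Set G)).subtype = Q)
    (hQ : Cfsg.IsExtraspecial 2 ↥Q) :
    ES Q z ∧ (∀ x : G, x ∈ (Subgroup.center ↥Q).map Q.subtype ↔ (x = 1 ∨ x = z)) ∧
      Subgroup.centralizer (Q : Set G) = (Subgroup.center ↥Q).map Q.subtype ∧
      Subgroup.centralizer (((Subgroup.center ↥Q).map Q.subtype : Subgroup G) : Set G) ≤
        Subgroup.normalizer (Q : Set G) ∧
      (∀ c ∈ Subgroup.centralizer ({z} : Set G), ∀ q ∈ Q, c * q * c⁻¹ ∈ Q) ∧
      (∀ c ∈ Subgroup.centralizer ({z} : Set G), (∀ q ∈ Q, c * q = q * c) → c ∈ Q) := by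
  obtain ⟨hQC, hnormC, hselfC⟩ := fstar_props (Subgroup.centralizer ({z} : Set G)) Q hF
  obtain ⟨z', hES, hcenter⟩ := ES.of_extraspecial Q hQ
  have hz1 : z ≠ 1 := by
    intro e
    rw [e, orderOf_one] at hz
    norm_num at hz
  have hzC : z ∈ Subgroup.centralizer ({z} : Set G) :=
    Subgroup.mem_centralizer_singleton_iff.mpr rfl
  have hzcomm : ∀ q ∈ Q, z * q = q * z := by
    intro q hq
    exact (Subgroup.mem_centralizer_singleton_iff.mp (hQC hq)).symm
  have hzQ : z ∈ Q := hselfC z hzC hzcomm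
  have hzz' : z = z' := by
    rcases hES.cent z hzQ hzcomm with e | e
    · exact absurd e hz1
    · exact e
  subst hzz'
  have hcentQ : ∀ x : G, x ∈ Subgroup.centralizer (Q : Set G) → x = 1 ∨ x = z := by
    intro x hx
    rw [Subgroup.mem_centralizer_iff] at hx
    have hxC : x ∈ Subgroup.centralizer ({z} : Set G) := by
      rw [Subgroup.mem_centralizer_singleton_iff]
      exact (hx z hzQ).symm
    have hxQ : x ∈ Q := hselfC x hxC (fun q hq => (hx q hq).symm)
    exact hES.cent x hxQ (fun q hq => (hx q hq).symm)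
  refine ⟨hES, hcenter, ?_, ?_, hnormC, hselfC⟩
  · ext x
    rw [hcenter]
    constructor
    · exact hcentQ x
    · rintro (e | e)
      · rw [e]; exact Subgroup.one_mem _
      · rw [e, Subgroup.mem_centralizer_iff]
        intro q hq
        exact (hzcomm q hq).symm
  · intro x hx
    rw [Subgroup.mem_centralizer_iff] at hx
    have hxC : x ∈ Subgroup.centralizer ({z} : Set G) := by
      rw [Subgroup.mem_centralizer_singleton_iff]
      exact (hx z ((hcenter z).mpr (Or.inr rfl))).symm
    rw [Subgroup.mem_normalizer_iff]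
    intro q
    constructor
    · intro hq
      exact hnormC x hxC q hq
    · intro hq
      have := hnormC x⁻¹ (Subgroup.inv_mem _ hxC) _ hq
      have e : x⁻¹ * (x * q * x⁻¹) * x⁻¹⁻¹ = q := by group
      rwa [e] at this

end Cfsg.Agent.Helper89
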