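import Mathlib

set_option autoImplicit false

namespace Cfsg.Agent.Helper89

section
variable {G : Type*} [Group G]

/-- The non-identity elements of a subgroup. -/
@[ext]
structure NonId (V : Subgroup G) where
  val : G
  mem : val ∈ V
  ne_one : val ≠ 1

/-- The normalizer of `V` acts by conjugation on the non-identity elements of `V`. -/
instance nonIdAction (V : Subgroup G) :
    MulAction ↥(Subgroup.normalizer (V : Set G)) (NonId V) where
  smul n v :=
    { val := (n : G) * v.val * (n : G)⁻¹
      mem := (Subgroup.mem_normalizer_iff.mp n.2 v.val).mp v.mem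
      ne_one := by
        intro h
        apply v.ne_one
        have := congrArg (fun w => (n : G)⁻¹ * w * (n : G)) h
        simpa [mul_assoc] using this }
  one_smul := by
    intro v
    apply NonId.ext
    show ((1 : ↥(Subgroup.normalizer (V : Set G))) : G) * v.val *
      ((1 : ↥(Subgroup.normalizer (V : Set G))) : G)⁻¹ = v.val
    simp
  mul_smul := by
    intro x y v
    apply NonId.ext
    show ((x * y : ↥(Subgroup.normalizer (V : Set G))) : G) * v.val *
      ((x * y : ↥(Subgroup.normalizer (V : Set G))) : G)⁻¹ =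
      (x : G) * ((y : G) * v.val * (y : G)⁻¹) * (x : G)⁻¹
    simp [mul_assoc]

theorem nonId_smul_val (V : Subgroup G) (n : ↥(Subgroup.normalizer (V : Set G))) (v : NonId V) :
    (n • v).val = (n : G) * v.val * (n : G)⁻¹ := rfl

/-- Data of a four-group `V = {1, z, a, z a}`. -/
structure FourData (V : Subgroup G) (z a : G) : Prop where
  mem_iff : ∀ x : G, x ∈ V ↔ x = 1 ∨ x = z ∨ x = a ∨ x = z * a
  z_ne : z ≠ 1
  a_ne : a ≠ 1
  ne : z ≠ a
  zsq : z * z = 1
  asq : a * a = 1

/-- The three involutions of the four-group. -/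
def fourFun (z a : G) : Fin 3 → G := ![z, a, z * a]

@[simp] theorem fourFun_zero (z a : G) : fourFun z a 0 = z := rfl
@[simp] theorem fourFun_one (z a : G) : fourFun z a 1 = a := rfl
@[simp] theorem fourFun_two (z a : G) : fourFun z a 2 = z * a := rfl

namespace FourData

variable {V : Subgroup G} {z a : G} (h : FourData V z a)

include h

theorem za_ne_one : z * a ≠ 1 := by
  intro h1
  apply h.ne
  have := congrArg (fun w => w * a) h1
  simp only [mul_assoc, h.asq, mul_one, one_mul] at this
  exact this

theorem za_ne_z : z * a ≠ z := by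
  intro h1
  apply h.a_ne
  have := congrArg (fun w => z⁻¹ * w) h1
  simpa using this

theorem za_ne_a : z * a ≠ a := by
  intro h1
  apply h.z_ne
  have := congrArg (fun w => w * a⁻¹) h1
  simpa using this

theorem fourFun_mem (i : Fin 3) : fourFun z a i ∈ V := by
  rw [h.mem_iff]
  fin_cases i
  · right; left; rfl
  · right; right; left; rfl
  · right; right; right; rfl

theorem fourFun_ne_one (i : Fin 3) : fourFun z a i ≠ 1 := by
  fin_cases i
  · exact h.z_ne
  · exact h.a_ne
  · exact h.za_ne_one

theorem fourFun_injective : Function.Injective (fourFun z a) := by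
  intro i j hij
  fin_cases i <;> fin_cases j
  · rfl
  · exact absurd hij h.ne
  · exact absurd hij.symm h.za_ne_z
  · exact absurd hij.symm h.ne
  · rfl
  · exact absurd hij.symm h.za_ne_a
  · exact absurd hij h.za_ne_z
  · exact absurd hij h.za_ne_a
  · rfl

theorem exists_fourFun_eq {v : G} (hv : v ∈ V) (hv1 : v ≠ 1) : ∃ i : Fin 3, fourFun z a i = v := by
  rcases (h.mem_iff v).mp hv with h1 | h1 | h1 | h1
  · exact absurd h1 hv1
  · exact ⟨0, h1.symm⟩
  · exact ⟨1, h1.symm⟩
  · exact ⟨2, h1.symm⟩

/-- The bijection between `Fin 3` and the involutions of `V`. -/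
noncomputable def equiv : Fin 3 ≃ NonId V :=
  Equiv.ofBijective (fun i => ⟨fourFun z a i, h.fourFun_mem i, h.fourFun_ne_one i⟩)
    ⟨fun i j hij => h.fourFun_injective (congrArg NonId.val hij),
     fun v => by
      obtain ⟨i, hi⟩ := h.exists_fourFun_eq v.mem v.ne_one
      exact ⟨i, NonId.ext hi⟩⟩

theorem equiv_val (i : Fin 3) : (h.equiv i).val = fourFun z a i := rfl

/-- The permutation representation of the normalizer of a four-group on its three involutions. -/
noncomputable def perm : ↥(Subgroup.normalizer (V : Set G)) →* Equiv.Perm (Fin 3) :=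
  (h.equiv.symm.permCongrHom : Equiv.Perm (NonId V) ≃* Equiv.Perm (Fin 3)).toMonoidHom.comp
    (MulAction.toPermHom ↥(Subgroup.normalizer (V : Set G)) (NonId V))

theorem perm_apply_eq_iff (n : ↥(Subgroup.normalizer (V : Set G))) (i j : Fin 3) :
    h.perm n i = j ↔ (n : G) * fourFun z a i * (n : G)⁻¹ = fourFun z a j := by
  have e1 : h.perm n i = h.equiv.symm (n • h.equiv i) := rfl
  rw [e1, Equiv.symm_apply_eq]
  constructor
  · intro h1
    have := congrArg NonId.val h1
    rw [nonId_smul_val, h.equiv_val, h.equiv_val] at this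
    exact this
  · intro h1
    apply NonId.ext
    rw [nonId_smul_val, h.equiv_val, h.equiv_val]
    exact h1

/-- The kernel of the permutation representation is the centralizer. -/
theorem perm_eq_one_iff (n : ↥(Subgroup.normalizer (V : Set G))) :
    h.perm n = 1 ↔ (n : G) * z = z * (n : G) ∧ (n : G) * a = a * (n : G) := by
  constructor
  · intro h1
    have h0 : h.perm n 0 = 0 := by rw [h1]; rfl
    have h2 : h.perm n 1 = 1 := by rw [h1]; rfl
    rw [perm_apply_eq_iff] at h0 h2
    simp only [fourFun_zero, fourFun_one] at h0 h2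
    constructor
    · have := congrArg (fun w => w * (n : G)) h0
      simpa [mul_assoc] using this
    · have := congrArg (fun w => w * (n : G)) h2
      simpa [mul_assoc] using this
  · rintro ⟨h1, h2⟩
    ext i
    have : h.perm n i = i := by
      rw [perm_apply_eq_iff]
      fin_cases i
      · show (n : G) * z * (n : G)⁻¹ = z
        rw [h1]; group
      · show (n : G) * a * (n : G)⁻¹ = a
        rw [h2]; group
      · show (n : G) * (z * a) * (n : G)⁻¹ = z * a
        calc (n : G) * (z * a) * (n : G)⁻¹ = ((n : G) * z) * a * (n : G)⁻¹ := by group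
          _ = (z * (n : G)) * a * (n : G)⁻¹ := by rw [h1]
          _ = z * ((n : G) * a) * (n : G)⁻¹ := by group
          _ = z * (a * (n : G)) * (n : G)⁻¹ := by rw [h2]
          _ = z * a := by group
    rw [this]; rfl

end FourData

end

/-- `Perm (Fin 3)` is generated by two transpositions, explicitly. -/
theorem perm_fin_three_cases (σ : Equiv.Perm (Fin 3)) :
    σ = 1 ∨ σ = Equiv.swap 1 2 ∨ σ = Equiv.swap 0 2 ∨ σ = Equiv.swap 1 2 * Equiv.swap 0 2 ∨
      σ = Equiv.swap 0 2 * Equiv.swap 1 2 ∨ σ = Equiv.swap 1 2 * Equiv.swap 0 2 * Equiv.swap 1 2 := by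
  revert σ
  decide

set_option maxRecDepth 100000 in
/-- A non-identity element of `Perm (Fin 3)` has order 3, or its product with a conjugate under a
fixed 3-cycle has order 3. -/
theorem perm_fin_three_normal (σ : Equiv.Perm (Fin 3)) (hσ : σ ≠ 1) :
    σ ^ 3 = 1 ∨
      ((σ * ((Equiv.swap 1 2 * Equiv.swap 0 2) * σ * (Equiv.swap 1 2 * Equiv.swap 0 2)⁻¹)) ^ 3 = 1 ∧
        σ * ((Equiv.swap 1 2 * Equiv.swap 0 2) * σ * (Equiv.swap 1 2 * Equiv.swap 0 2)⁻¹) ≠ 1) := by
  revert σ
  decide

/-- A normal `2`-subgroup of `Perm (Fin 3)` is trivial. -/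
theorem normal_two_subgroup_perm_three (K : Subgroup (Equiv.Perm (Fin 3))) [K.Normal]
    (hK : IsPGroup 2 K) : K = ⊥ := by
  have key : ∀ τ ∈ K, τ ^ 3 = 1 → τ = 1 := by
    intro τ hτ h3
    obtain ⟨k, hk⟩ := hK ⟨τ, hτ⟩
    have hk' : τ ^ (2 ^ k) = 1 := by
      have := congrArg Subtype.val hk
      simpa using this
    have h1 : orderOf τ ∣ 3 := orderOf_dvd_of_pow_eq_one h3
    have h2 : orderOf τ ∣ 2 ^ k := orderOf_dvd_of_pow_eq_one hk'
    have hcop : Nat.Coprime 3 (2 ^ k) := Nat.Coprime.pow_right k (by norm_num)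
    have h3' : orderOf τ = 1 := Nat.eq_one_of_dvd_coprimes hcop h1 h2
    exact orderOf_eq_one_iff.mp h3'
  rw [eq_bot_iff]
  intro σ hσ
  rw [Subgroup.mem_bot]
  by_contra hne
  rcases perm_fin_three_normal σ hne with h1 | ⟨h1, h2⟩
  · exact hne (key σ hσ h1)
  · apply h2
    apply key _ _ h1
    exact K.mul_mem hσ (Subgroup.Normal.conj_mem inferInstance σ hσ _)

end Cfsg.Agent.Helper89
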