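import Mathlib

set_option autoImplicit false

namespace Cfsg.Agent.Helper89

variable {G : Type*} [Group G]

/-- The four-group `{1, u, v, u * v}` generated by two commuting involutions (possibly degenerate). -/
def fourSub (u v : G) (hu : u * u = 1) (hv : v * v = 1) (huv : u * v = v * u) : Subgroup G where
  carrier := {x | x = 1 ∨ x = u ∨ x = v ∨ x = u * v}
  one_mem' := Or.inl rfl
  mul_mem' := by
    rintro x y (rfl | rfl | rfl | rfl) (rfl | rfl | rfl | rfl)
    · left; simp
    · right; left; simp
    · right; right; left; simp
    · right; right; right; simp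
    · right; left; simp
    · left; exact hu
    · right; right; right; rfl
    · right; right; left; rw [← mul_assoc, hu, one_mul]
    · right; right; left; simp
    · right; right; right; exact huv.symm
    · left; exact hv
    · right; left; rw [← mul_assoc, ← huv, mul_assoc, hv, mul_one]
    · right; right; right; simp
    · right; right; left
      rw [huv, mul_assoc, hu, mul_one]
    · right; left; rw [mul_assoc, hv, mul_one]
    · left
      calc u * v * (u * v) = u * (v * u) * v := by group
        _ = u * (u * v) * v := by rw [← huv]
        _ = (u * u) * (v * v) := by group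
        _ = 1 := by rw [hu, hv, one_mul]
  inv_mem' := by
    have hui : u⁻¹ = u := inv_eq_of_mul_eq_one_right hu
    have hvi : v⁻¹ = v := inv_eq_of_mul_eq_one_right hv
    rintro x (rfl | rfl | rfl | rfl)
    · left; simp
    · right; left; exact hui
    · right; right; left; exact hvi
    · right; right; right
      rw [mul_inv_rev, hui, hvi, huv]

theorem mem_fourSub {u v : G} (hu : u * u = 1) (hv : v * v = 1) (huv : u * v = v * u) (x : G) :
    x ∈ fourSub u v hu hv huv ↔ x = 1 ∨ x = u ∨ x = v ∨ x = u * v := Iff.rfl

/-- Elements of the subgroup generated by two commuting involutions. -/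
theorem mem_closure_pair {u v : G} (hu : u * u = 1) (hv : v * v = 1) (huv : u * v = v * u) {x : G}
    (hx : x ∈ Subgroup.closure ({u} ∪ {v} : Set G)) : x = 1 ∨ x = u ∨ x = v ∨ x = u * v := by
  have hle : Subgroup.closure ({u} ∪ {v} : Set G) ≤ fourSub u v hu hv huv := by
    rw [Subgroup.closure_le]
    rintro y (hy | hy)
    · rw [Set.mem_singleton_iff] at hy; rw [hy]; exact Or.inr (Or.inl rfl)
    · rw [Set.mem_singleton_iff] at hy; rw [hy]; exact Or.inr (Or.inr (Or.inl rfl))
  exact hle hx

end Cfsg.Agent.Helper89
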