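import Cfsg.Agent.Lib.Helper53.IPDefs

set_option autoImplicit false

/-! IP (N2) for helper53's S4463 server: centralizers of nontrivial elements are core-free in a nonsolvable
group all of whose proper quotients are abelian. -/

namespace Cfsg.Agent.Helper89.IP

open Cfsg Cfsg.Agent.Helper53.IP

universe u

theorem core_centralizer_eq_bot {Q : Type u} [Group Q] [Finite Q]
    (hq : ∀ L : Subgroup Q, L.Normal → L ≠ ⊥ → commutator Q ≤ L) (hns : ¬ Group.IsSolvable Q)
    (x : Q) (hx : x ≠ 1) : (Subgroup.centralizer ({x} : Set Q)).normalCore = ⊥ := by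
  by_contra hne
  have hN : commutator Q ≤ (Subgroup.centralizer ({x} : Set Q)).normalCore :=
    hq _ (Subgroup.normalCore_normal _) hne
  have hC : commutator Q ≤ Subgroup.centralizer ({x} : Set Q) :=
    hN.trans (Subgroup.normalCore_le _)
  have hxC : x ∈ Subgroup.centralizer ((commutator Q : Subgroup Q) : Set Q) := by
    rw [Subgroup.mem_centralizer_iff]
    intro g hg
    have h1 := hC hg
    rw [Subgroup.mem_centralizer_singleton_iff] at h1
    exact h1
  have hCn : (Subgroup.centralizer ((commutator Q : Subgroup Q) : Set Q)).Normal := inferInstance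
  have hCne : Subgroup.centralizer ((commutator Q : Subgroup Q) : Set Q) ≠ ⊥ := by
    intro h
    rw [h, Subgroup.mem_bot] at hxC
    exact hx hxC
  have hab : commutator Q ≤ Subgroup.centralizer ((commutator Q : Subgroup Q) : Set Q) :=
    hq _ hCn hCne
  apply hns
  rw [Group.isSolvable_def]
  refine ⟨2, ?_⟩
  rw [derivedSeries_succ, derivedSeries_one]
  exact Subgroup.commutator_eq_bot_iff_le_centralizer.mpr hab

end Cfsg.Agent.Helper89.IP
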