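import Mathlib

set_option autoImplicit false

namespace Cfsg.Agent.Helper89

section
variable {G : Type*} [Group G]

/-- `x` lies in one of the six cosets `cR`, `c ∈ {1, u, t, ut, tu, utu}`. -/
def InSix (R : Subgroup G) (u t x : G) : Prop :=
  x ∈ R ∨ u⁻¹ * x ∈ R ∨ t⁻¹ * x ∈ R ∨ (u * t)⁻¹ * x ∈ R ∨ (t * u)⁻¹ * x ∈ R ∨ (u * t * u)⁻¹ * x ∈ R

theorem six_step (R : Subgroup G) {c c' s y : G} (h1 : c'⁻¹ * s * c ∈ R) (h2 : c⁻¹ * y ∈ R) :
    c'⁻¹ * (s * y) ∈ R := by
  have := R.mul_mem h1 h2
  have e : c'⁻¹ * s * c * (c⁻¹ * y) = c'⁻¹ * (s * y) := by group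
  rw [e] at this
  exact this

/-- If `u`, `t` normalize `R`, have squares in `R` and satisfy the braid relation modulo `R`, then
the group generated by `R`, `u`, `t` is the union of six cosets of `R`. -/
theorem six_cosets (R : Subgroup G) (u t : G)
    (hu : u ∈ Subgroup.normalizer (R : Set G)) (ht : t ∈ Subgroup.normalizer (R : Set G))
    (hu2 : u * u ∈ R) (ht2 : t * t ∈ R) (hbr : (t * u * t)⁻¹ * (u * t * u) ∈ R) :
    ∀ x ∈ Subgroup.closure ((R : Set G) ∪ {u, t}), InSix R u t x := by
  have conjN : ∀ c ∈ Subgroup.normalizer (R : Set G), ∀ r ∈ R, c⁻¹ * r * c ∈ R := by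
    intro c hc r hr
    have := (Subgroup.mem_normalizer_iff.mp (Subgroup.inv_mem _ hc) r).mp hr
    simpa using this
  have hut : u * t ∈ Subgroup.normalizer (R : Set G) := Subgroup.mul_mem _ hu ht
  have htu : t * u ∈ Subgroup.normalizer (R : Set G) := Subgroup.mul_mem _ ht hu
  have hutu : u * t * u ∈ Subgroup.normalizer (R : Set G) := Subgroup.mul_mem _ hut hu
  have one_inv_mul : ∀ y : G, (1 : G)⁻¹ * y = y := by intro y; simp
  have stepR : ∀ r ∈ R, ∀ y, InSix R u t y → InSix R u t (r * y) := by
    intro r hr y hy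
    rcases hy with h | h | h | h | h | h
    · exact Or.inl (R.mul_mem hr h)
    · exact Or.inr (Or.inl (six_step R (conjN u hu r hr) h))
    · exact Or.inr (Or.inr (Or.inl (six_step R (conjN t ht r hr) h)))
    · exact Or.inr (Or.inr (Or.inr (Or.inl (six_step R (conjN _ hut r hr) h))))
    · exact Or.inr (Or.inr (Or.inr (Or.inr (Or.inl (six_step R (conjN _ htu r hr) h)))))
    · exact Or.inr (Or.inr (Or.inr (Or.inr (Or.inr (six_step R (conjN _ hutu r hr) h)))))
  have stepu : ∀ y, InSix R u t y → InSix R u t (u * y) := by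
    intro y hy
    rcases hy with h | h | h | h | h | h
    · -- y ∈ R : u y ∈ u R
      right; left
      have e : u⁻¹ * (u * y) = y := by group
      rw [e]; exact h
    · -- y ∈ u R : u y ∈ R
      left
      have := R.mul_mem hu2 h
      have e : u * u * (u⁻¹ * y) = u * y := by group
      rw [e] at this; exact this
    · -- y ∈ t R : u y ∈ ut R
      right; right; right; left
      have e : (u * t)⁻¹ * (u * y) = t⁻¹ * y := by group
      rw [e]; exact h
    · -- y ∈ ut R : u y ∈ t R
      right; right; left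
      have h1 : t⁻¹ * (u * u) * t ∈ R := conjN t ht _ hu2
      have := R.mul_mem h1 h
      have e : t⁻¹ * (u * u) * t * ((u * t)⁻¹ * y) = t⁻¹ * (u * y) := by group
      rw [e] at this; exact this
    · -- y ∈ tu R : u y ∈ utu R
      right; right; right; right; right
      have e : (u * t * u)⁻¹ * (u * y) = (t * u)⁻¹ * y := by group
      rw [e]; exact h
    · -- y ∈ utu R : u y ∈ tu R
      right; right; right; right; left
      have h1 : (t * u)⁻¹ * (u * u) * (t * u) ∈ R := conjN _ htu _ hu2
      have := R.mul_mem h1 h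
      have e : (t * u)⁻¹ * (u * u) * (t * u) * ((u * t * u)⁻¹ * y) = (t * u)⁻¹ * (u * y) := by group
      rw [e] at this; exact this
  have stept : ∀ y, InSix R u t y → InSix R u t (t * y) := by
    intro y hy
    rcases hy with h | h | h | h | h | h
    · -- y ∈ R : t y ∈ t R
      right; right; left
      have e : t⁻¹ * (t * y) = y := by group
      rw [e]; exact h
    · -- y ∈ u R : t y ∈ tu R
      right; right; right; right; left
      have e : (t * u)⁻¹ * (t * y) = u⁻¹ * y := by group
      rw [e]; exact h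
    · -- y ∈ t R : t y ∈ R
      left
      have := R.mul_mem ht2 h
      have e : t * t * (t⁻¹ * y) = t * y := by group
      rw [e] at this; exact this
    · -- y ∈ ut R : t y ∈ utu R
      right; right; right; right; right
      have h1 : ((t * u * t)⁻¹ * (u * t * u))⁻¹ ∈ R := R.inv_mem hbr
      have := R.mul_mem h1 h
      have e : ((t * u * t)⁻¹ * (u * t * u))⁻¹ * ((u * t)⁻¹ * y) = (u * t * u)⁻¹ * (t * y) := by group
      rw [e] at this; exact this
    · -- y ∈ tu R : t y ∈ u R
      right; left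
      have h1 : u⁻¹ * (t * t) * u ∈ R := conjN u hu _ ht2
      have := R.mul_mem h1 h
      have e : u⁻¹ * (t * t) * u * ((t * u)⁻¹ * y) = u⁻¹ * (t * y) := by group
      rw [e] at this; exact this
    · -- y ∈ utu R : t y ∈ ut R
      right; right; right; left
      have h1 : ((t * u * t)⁻¹ * (u * t * u))⁻¹ ∈ R := R.inv_mem hbr
      have h2 : u⁻¹ * ((t * u * t)⁻¹ * (u * t * u))⁻¹ * u ∈ R := conjN u hu _ h1
      have h3 : u * u * (u⁻¹ * ((t * u * t)⁻¹ * (u * t * u))⁻¹ * u) ∈ R := R.mul_mem hu2 h2
      have := R.mul_mem h3 h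
      have e : u * u * (u⁻¹ * ((t * u * t)⁻¹ * (u * t * u))⁻¹ * u) * ((u * t * u)⁻¹ * y)
          = (u * t)⁻¹ * (t * y) := by group
      rw [e] at this; exact this
  have stepu' : ∀ y, InSix R u t y → InSix R u t (u⁻¹ * y) := by
    intro y hy
    have e : u⁻¹ * y = u * ((u * u)⁻¹ * y) := by group
    rw [e]
    exact stepu _ (stepR _ (R.inv_mem hu2) _ hy)
  have stept' : ∀ y, InSix R u t y → InSix R u t (t⁻¹ * y) := by
    intro y hy
    have e : t⁻¹ * y = t * ((t * t)⁻¹ * y) := by group
    rw [e]
    exact stept _ (stepR _ (R.inv_mem ht2) _ hy)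
  intro x hx
  induction hx using Subgroup.closure_induction_left with
  | one => exact Or.inl R.one_mem
  | mul_left s hs y _ ih =>
    rcases hs with hs | hs | hs
    · exact stepR s hs y ih
    · rw [hs]; exact stepu y ih
    · rw [Set.mem_singleton_iff.mp hs]; exact stept y ih
  | inv_mul_cancel s hs y _ ih =>
    rcases hs with hs | hs | hs
    · exact stepR _ (R.inv_mem hs) y ih
    · rw [hs]; exact stepu' y ih
    · rw [Set.mem_singleton_iff.mp hs]; exact stept' y ih

end

end Cfsg.Agent.Helper89
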