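import Mathlib
import Cfsg.Prelude.Def_MonsterType
import Cfsg.Agent.Lib.Helper89.PairRadical
import Cfsg.Agent.Lib.Helper89.SixCosets
import Cfsg.Agent.Lib.Helper89.FourGroup
import Cfsg.Agent.Lib.Helper89.FourAction

set_option autoImplicit false

namespace Cfsg.Agent.Helper89

/-- A pair of conjugate large extraspecial 2-subgroups `Q`, `P` with central involutions `z`, `a`
such that `a ∈ Q` and `z ∈ P`. -/
structure LPair {G : Type*} [Group G] (Q P : Subgroup G) (z a : G) : Prop where
  esQ : ES Q z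
  esP : ES P a
  aQ : a ∈ Q
  zP : z ∈ P
  ne : a ≠ z
  nQ : ∀ x : G, x * z = z * x → ∀ y ∈ Q, x * y * x⁻¹ ∈ Q
  nP : ∀ x : G, x * a = a * x → ∀ y ∈ P, x * y * x⁻¹ ∈ P
  cQP : ∀ x : G, x * z * x⁻¹ = a → ∀ y ∈ Q, x * y * x⁻¹ ∈ P
  cPQ : ∀ x : G, x * a * x⁻¹ = z → ∀ y ∈ P, x * y * x⁻¹ ∈ Q
  centQ : ∀ x : G, (∀ y ∈ Q, x * y = y * x) → x = 1 ∨ x = z
  centP : ∀ x : G, (∀ y ∈ P, x * y = y * x) → x = 1 ∨ x = a

/-- The hypotheses of Aschbacher's Lemma 8.7 give an `LPair`. -/
theorem LPair.of_large {G : Type*} [Group G] [Finite G] (Q : Subgroup G)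
    (hQ : Cfsg.IsLargeExtraspecial Q) (z : G)
    (hz : ((Subgroup.center ↥Q).map Q.subtype) = Subgroup.zpowers z) (hz2 : orderOf z = 2)
    (w : ℕ) (hw : 2 ≤ w) (hcard : Nat.card ↥Q = 2 ^ (2 * w + 1)) (g : G)
    (hgH : g ∉ Subgroup.centralizer ({z} : Set G)) (hgQ : g * z * g⁻¹ ∈ Q) :
    LPair Q (Q.map (MulAut.conj g).toMonoidHom) z (g * z * g⁻¹) := by
  have : Fact (Nat.Prime 2) := ⟨Nat.prime_two⟩
  obtain ⟨hL1, hL2, hL3, hL4⟩ := hQ
  obtain ⟨z', hES, hZ⟩ := ES.of_extraspecial Q hL1
  have hz1 : z ≠ 1 := by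
    intro h
    rw [h, orderOf_one] at hz2
    omega
  have hzz' : z' = z := by
    have : z ∈ (Subgroup.center ↥Q).map Q.subtype := by rw [hz]; exact Subgroup.mem_zpowers z
    rcases (hZ z).mp this with h | h
    · exact absurd h hz1
    · exact h.symm
  subst hzz'
  have hC : ∀ x : G, (∀ y ∈ Q, x * y = y * x) → x = 1 ∨ x = z' := by
    intro x hx
    apply (hZ x).mp
    rw [← hL2, Subgroup.mem_centralizer_iff]
    intro y hy
    exact (hx y hy).symm
  have hN : ∀ x : G, x * z' = z' * x → ∀ y ∈ Q, x * y * x⁻¹ ∈ Q := by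
    intro x hx y hy
    have hxC : x ∈ Subgroup.centralizer ((((Subgroup.center ↥Q).map Q.subtype : Subgroup G)) : Set G) := by
      rw [Subgroup.mem_centralizer_iff]
      intro v hv
      rcases (hZ v).mp hv with h | h
      · rw [h]; simp
      · rw [h]; exact hx.symm
    have hxN := hL3 hxC
    exact (Subgroup.mem_normalizer_iff.mp hxN y).mp hy
  have hne0 : g * z' * g⁻¹ ≠ z' := by
    intro h
    apply hgH
    rw [Subgroup.mem_centralizer_singleton_iff]
    have := congrArg (fun w => w * g) h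
    simpa [mul_assoc] using this
  have hcard32 : 32 ≤ Nat.card Q := by
    rw [hcard]
    calc 32 = 2 ^ 5 := by norm_num
      _ ≤ 2 ^ (2 * w + 1) := Nat.pow_le_pow_right (by norm_num) (by omega)
  have hzP0 : z' ∈ Q.map (MulAut.conj g).toMonoidHom :=
    center_mem_conj Q z' hES hC hN hcard32 g hgQ hne0
  refine ⟨hES, hES.conj g, hgQ, hzP0, hne0, hN, normalizes_conj Q z' hN g, ?_, ?_, hC, ?_⟩
  · intro x hx y hy
    rw [mem_map_conj_iff]
    have hx' : (g⁻¹ * x) * z' = z' * (g⁻¹ * x) := by
      have h1 : x * z' = g * z' * g⁻¹ * x := by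
        have := congrArg (fun w => w * x) hx
        simpa [mul_assoc] using this
      calc g⁻¹ * x * z' = g⁻¹ * (x * z') := by group
        _ = g⁻¹ * (g * z' * g⁻¹ * x) := by rw [h1]
        _ = z' * (g⁻¹ * x) := by group
    have := hN _ hx' y hy
    have e : g⁻¹ * (x * y * x⁻¹) * g = g⁻¹ * x * y * (g⁻¹ * x)⁻¹ := by group
    rw [e]; exact this
  · intro x hx y hy
    rw [mem_map_conj_iff] at hy
    have hx' : (x * g) * z' = z' * (x * g) := by
      have h1 : x * (g * z' * g⁻¹) = z' * x := by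
        have := congrArg (fun w => w * x) hx
        simpa [mul_assoc] using this
      calc x * g * z' = x * (g * z' * g⁻¹) * g := by group
        _ = z' * x * g := by rw [h1]
        _ = z' * (x * g) := by group
    have := hN _ hx' _ hy
    have e : x * g * (g⁻¹ * y * g) * (x * g)⁻¹ = x * y * x⁻¹ := by group
    rw [e] at this; exact this
  · intro x hx
    have key : ∀ y ∈ Q, (g⁻¹ * x * g) * y = y * (g⁻¹ * x * g) := by
      intro y hy
      have h1 := hx (g * y * g⁻¹) (conj_mem_map_conj Q g hy)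
      have e1 : (g⁻¹ * x * g) * y = g⁻¹ * (x * (g * y * g⁻¹)) * g := by group
      have e2 : y * (g⁻¹ * x * g) = g⁻¹ * ((g * y * g⁻¹) * x) * g := by group
      rw [e1, e2, h1]
    rcases hC _ key with h1 | h1
    · left
      have := congrArg (fun w => g * w * g⁻¹) h1
      simpa [mul_assoc] using this
    · right
      have := congrArg (fun w => g * w * g⁻¹) h1
      simpa [mul_assoc] using this

namespace LPair

variable {G : Type*} [Group G] {Q P : Subgroup G} {z a : G}

theorem symm (h : LPair Q P z a) : LPair P Q a z :=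
  ⟨h.esP, h.esQ, h.zP, h.aQ, h.ne.symm, h.nP, h.nQ, h.cPQ, h.cQP, h.centP, h.centQ⟩

variable (h : LPair Q P z a)

include h

theorem za_comm : z * a = a * z := (h.esQ.central a h.aQ).symm

theorem a_ne_one : a ≠ 1 := h.esP.ne_one

theorem z_ne_one : z ≠ 1 := h.esQ.ne_one

theorem mem1 (x : G) : x ∈ Q ⊓ Subgroup.centralizer ({a} : Set G) ↔ x ∈ Q ∧ x * a = a * x := by
  rw [Subgroup.mem_inf, Subgroup.mem_centralizer_singleton_iff]

theorem mem2 (x : G) : x ∈ P ⊓ Subgroup.centralizer ({z} : Set G) ↔ x ∈ P ∧ x * z = z * x := by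
  rw [Subgroup.mem_inf, Subgroup.mem_centralizer_singleton_iff]

/-- Conjugates of `a` under `Q`. -/
theorem conj_a {q : G} (hq : q ∈ Q) : q * a * q⁻¹ = a ∨ q * a * q⁻¹ = z * a := by
  rcases h.esQ.comm q hq a h.aQ with h1 | h1
  · left
    have := conj_eq_of_commutator_eq h1
    simpa using this
  · right
    exact conj_eq_of_commutator_eq h1

/-- `[Q, C_P(z)] ≤ C_Q(a)`. -/
theorem comm_mem {q s : G} (hq : q ∈ Q) (hs : s ∈ P) (hsz : s * z = z * s) :
    q * s * q⁻¹ * s⁻¹ ∈ Q ⊓ Subgroup.centralizer ({a} : Set G) := by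
  rw [h.mem1]
  constructor
  · have h1 : s * q⁻¹ * s⁻¹ ∈ Q := h.nQ s hsz _ (Q.inv_mem hq)
    have := Q.mul_mem hq h1
    have e : q * (s * q⁻¹ * s⁻¹) = q * s * q⁻¹ * s⁻¹ := by group
    rw [e] at this; exact this
  · have hsa : s * a = a * s := h.esP.central s hs
    have hsa' : s⁻¹ * a = a * s⁻¹ := h.esP.central _ (P.inv_mem hs)
    -- s commutes with q⁻¹ a q
    have h2 : s * (q⁻¹ * a * q) = (q⁻¹ * a * q) * s := by
      have := h.conj_a (Q.inv_mem hq)
      rw [inv_inv] at this
      rcases this with h3 | h3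
      · rw [h3]; exact hsa
      · rw [h3]
        calc s * (z * a) = (s * z) * a := by group
          _ = (z * s) * a := by rw [hsz]
          _ = z * (s * a) := by group
          _ = z * (a * s) := by rw [hsa]
          _ = z * a * s := by group
    calc q * s * q⁻¹ * s⁻¹ * a = q * s * q⁻¹ * (s⁻¹ * a) := by group
      _ = q * s * q⁻¹ * (a * s⁻¹) := by rw [hsa']
      _ = q * (s * (q⁻¹ * a * q)) * q⁻¹ * s⁻¹ := by group
      _ = q * ((q⁻¹ * a * q) * s) * q⁻¹ * s⁻¹ := by rw [h2]
      _ = a * (q * s * q⁻¹ * s⁻¹) := by group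

/-- `z` and `a` lie in `C_Q(a)`. -/
theorem z_mem1 : z ∈ Q ⊓ Subgroup.centralizer ({a} : Set G) :=
  (h.mem1 z).mpr ⟨h.esQ.mem, h.za_comm⟩

theorem a_mem1 : a ∈ Q ⊓ Subgroup.centralizer ({a} : Set G) :=
  (h.mem1 a).mpr ⟨h.aQ, rfl⟩

/-- `Q` normalizes `R = C_P(z) C_Q(a)` (elementwise form). -/
theorem conj_mem_radical {q : G} (hq : q ∈ Q) :
    ∀ r ∈ (P ⊓ Subgroup.centralizer ({z} : Set G)) ⊔ (Q ⊓ Subgroup.centralizer ({a} : Set G)),
      q * r * q⁻¹ ∈ (P ⊓ Subgroup.centralizer ({z} : Set G)) ⊔ (Q ⊓ Subgroup.centralizer ({a} : Set G)) := by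
  have hle : (P ⊓ Subgroup.centralizer ({z} : Set G)) ⊔ (Q ⊓ Subgroup.centralizer ({a} : Set G)) ≤
      ((P ⊓ Subgroup.centralizer ({z} : Set G)) ⊔ (Q ⊓ Subgroup.centralizer ({a} : Set G))).comap
        (MulAut.conj q).toMonoidHom := by
    apply sup_le
    · intro s hs
      rw [Subgroup.mem_comap]
      show q * s * q⁻¹ ∈ _
      have hs' := (h.mem2 s).mp hs
      have h1 := h.comm_mem hq hs'.1 hs'.2
      have h2 : q * s * q⁻¹ * s⁻¹ * s ∈ (P ⊓ Subgroup.centralizer ({z} : Set G)) ⊔
          (Q ⊓ Subgroup.centralizer ({a} : Set G)) :=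
        Subgroup.mul_mem _ ((le_sup_right : Q ⊓ Subgroup.centralizer ({a} : Set G) ≤ _) h1)
          ((le_sup_left : P ⊓ Subgroup.centralizer ({z} : Set G) ≤ _) hs)
      have e : q * s * q⁻¹ * s⁻¹ * s = q * s * q⁻¹ := by group
      rw [e] at h2; exact h2
    · intro r hr
      rw [Subgroup.mem_comap]
      show q * r * q⁻¹ ∈ _
      have hr' := (h.mem1 r).mp hr
      apply (le_sup_right : Q ⊓ Subgroup.centralizer ({a} : Set G) ≤ _)
      have h1 : q * r * q⁻¹ * r⁻¹ ∈ Q ⊓ Subgroup.centralizer ({a} : Set G) := by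
        rcases h.esQ.comm q hq r hr'.1 with h2 | h2
        · rw [h2]; exact Subgroup.one_mem _
        · rw [h2]; exact h.z_mem1
      have := Subgroup.mul_mem _ h1 hr
      have e : q * r * q⁻¹ * r⁻¹ * r = q * r * q⁻¹ := by group
      rw [e] at this; exact this
  intro r hr
  exact hle hr

theorem Q_le_normalizer :
    Q ≤ Subgroup.normalizer ((((P ⊓ Subgroup.centralizer ({z} : Set G)) ⊔
      (Q ⊓ Subgroup.centralizer ({a} : Set G)) : Subgroup G)) : Set G) := by
  intro q hq
  apply mem_normalizer_of_conj_mem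
  · exact h.conj_mem_radical hq
  · intro r hr
    have := h.conj_mem_radical (Q.inv_mem hq) r hr
    simpa using this

/-- The radical `R = C_P(z) C_Q(a)`. -/
def radical (Q P : Subgroup G) (z a : G) : Subgroup G :=
  (P ⊓ Subgroup.centralizer ({z} : Set G)) ⊔ (Q ⊓ Subgroup.centralizer ({a} : Set G))

omit h in
theorem radical_def : radical Q P z a =
    (P ⊓ Subgroup.centralizer ({z} : Set G)) ⊔ (Q ⊓ Subgroup.centralizer ({a} : Set G)) := rfl

omit h in
theorem radical_symm : radical P Q a z = radical Q P z a := by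
  unfold radical
  exact sup_comm _ _

theorem le_normalizer_radical : Q ⊔ P ≤ Subgroup.normalizer ((radical Q P z a : Subgroup G) : Set G) := by
  apply sup_le
  · exact h.Q_le_normalizer
  · have := h.symm.Q_le_normalizer
    rw [sup_comm] at this
    exact this

theorem radical_le_centralizer_z : radical Q P z a ≤ Subgroup.centralizer ({z} : Set G) := by
  unfold radical
  apply sup_le inf_le_right
  intro x hx
  rw [Subgroup.mem_centralizer_singleton_iff]
  exact h.esQ.central x ((h.mem1 x).mp hx).1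

theorem radical_le_centralizer_a : radical Q P z a ≤ Subgroup.centralizer ({a} : Set G) := by
  unfold radical
  apply sup_le _ inf_le_right
  intro x hx
  rw [Subgroup.mem_centralizer_singleton_iff]
  exact h.esP.central x ((h.mem2 x).mp hx).1

theorem R1_le_radical : Q ⊓ Subgroup.centralizer ({a} : Set G) ≤ radical Q P z a := le_sup_right

theorem R2_le_radical : P ⊓ Subgroup.centralizer ({z} : Set G) ≤ radical Q P z a := le_sup_left

theorem radical_le : radical Q P z a ≤ Q ⊔ P := by
  unfold radical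
  exact sup_le (inf_le_left.trans le_sup_right) (inf_le_left.trans le_sup_left)

/-- The braid relation modulo the radical. -/
theorem braid {u t : G} (hu : u ∈ Q) (hua : u * a * u⁻¹ = z * a) (ht : t ∈ P)
    (htz : t * z * t⁻¹ = a * z) :
    (t * u * t)⁻¹ * (u * t * u) ∈ radical Q P z a := by
  have hza := h.za_comm
  have huz : u * z * u⁻¹ = z := by
    rw [h.esQ.central u hu]; group
  have hta : t * a * t⁻¹ = a := by
    rw [h.esP.central t ht]; group
  have hzsq := h.esQ.sq
  have hasq := h.esP.sq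
  -- d = u t maps z to a
  have hd : (u * t) * z * (u * t)⁻¹ = a := by
    calc (u * t) * z * (u * t)⁻¹ = u * (t * z * t⁻¹) * u⁻¹ := by group
      _ = u * (a * z) * u⁻¹ := by rw [htz]
      _ = (u * a * u⁻¹) * (u * z * u⁻¹) := by group
      _ = (z * a) * z := by rw [hua, huz]
      _ = (a * z) * z := by rw [hza]
      _ = a * (z * z) := by group
      _ = a := by rw [hzsq, mul_one]
  have hda : (u * t) * a * (u * t)⁻¹ = z * a := by
    calc (u * t) * a * (u * t)⁻¹ = u * (t * a * t⁻¹) * u⁻¹ := by group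
      _ = z * a := by rw [hta, hua]
  have hdza : (u * t) * (z * a) * (u * t)⁻¹ = z := by
    calc (u * t) * (z * a) * (u * t)⁻¹ = ((u * t) * z * (u * t)⁻¹) * ((u * t) * a * (u * t)⁻¹) := by group
      _ = a * (z * a) := by rw [hd, hda]
      _ = a * (a * z) := by rw [hza]
      _ = (a * a) * z := by group
      _ = z := by rw [hasq, one_mul]
  -- t' = d u d⁻¹ ∈ P
  have ht'P : (u * t) * u * (u * t)⁻¹ ∈ P := h.cQP _ hd u hu
  -- t' does not centralize z
  have ht'z : ¬ ((u * t) * u * (u * t)⁻¹ * z = z * ((u * t) * u * (u * t)⁻¹)) := by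
    intro hc
    -- u commutes with d⁻¹ z d = z a
    have h1 : (u * t)⁻¹ * z * (u * t) = z * a := by
      have := congrArg (fun w => (u * t)⁻¹ * w * (u * t)) hdza
      rw [← this]; group
    have h2 : u * (z * a) = (z * a) * u := by
      have := congrArg (fun w => (u * t)⁻¹ * w * (u * t)) hc
      have e1 : (u * t)⁻¹ * ((u * t) * u * (u * t)⁻¹ * z) * (u * t) = u * ((u * t)⁻¹ * z * (u * t)) := by
        group
      have e2 : (u * t)⁻¹ * (z * ((u * t) * u * (u * t)⁻¹)) * (u * t) = ((u * t)⁻¹ * z * (u * t)) * u := by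
        group
      rw [e1, e2, h1] at this
      exact this
    have h3 : u * a = a * u := by
      have huz' : u * z = z * u := h.esQ.central u hu
      have : z * (u * a) = z * (a * u) := by
        calc z * (u * a) = (z * u) * a := by group
          _ = (u * z) * a := by rw [huz']
          _ = u * (z * a) := by group
          _ = (z * a) * u := h2
          _ = z * (a * u) := by group
      exact mul_left_cancel this
    have h4 : u * a * u⁻¹ = a := by rw [h3]; group
    rw [h4] at hua
    apply h.z_ne_one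
    have := congrArg (fun w => w * a⁻¹) hua
    simpa using this.symm
  -- t⁻¹ t' ∈ C_P(z)
  have hidx := h.esP.index_two h.zP ht htz ((u * t) * u * (u * t)⁻¹) ht'P
  have hr : t⁻¹ * ((u * t) * u * (u * t)⁻¹) ∈ radical Q P z a := by
    apply h.R2_le_radical
    rw [h.mem2]
    refine ⟨P.mul_mem (P.inv_mem ht) ht'P, ?_⟩
    rcases hidx with h1 | h1
    · exact absurd h1 ht'z
    · exact h1
  -- conjugate by u t
  have hutN : u * t ∈ Subgroup.normalizer ((radical Q P z a : Subgroup G) : Set G) :=
    h.le_normalizer_radical (Subgroup.mul_mem _ ((le_sup_left : Q ≤ Q ⊔ P) hu)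
      ((le_sup_right : P ≤ Q ⊔ P) ht))
  have := (Subgroup.mem_normalizer_iff.mp (Subgroup.inv_mem _ hutN) _).mp hr
  have e : (u * t)⁻¹ * (t⁻¹ * ((u * t) * u * (u * t)⁻¹)) * (u * t)⁻¹⁻¹ = (t * u * t)⁻¹ * (u * t * u) := by
    group
  rw [e] at this
  exact this

/-- The centralizer of `V = ⟨z, a⟩` in `X = ⟨Q, P⟩` is contained in the radical. -/
theorem centralizer_le_radical {y : G} (hy : y ∈ Q ⊔ P) (hyz : y * z = z * y) (hya : y * a = a * y) :
    y ∈ radical Q P z a := by
  obtain ⟨u, hu, hua⟩ := h.esQ.exists_conj h.aQ h.a_ne_one h.ne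
  obtain ⟨t, ht, htz⟩ := h.esP.exists_conj h.zP h.z_ne_one h.ne.symm
  have huX : u ∈ Q ⊔ P := (le_sup_left : Q ≤ Q ⊔ P) hu
  have htX : t ∈ Q ⊔ P := (le_sup_right : P ≤ Q ⊔ P) ht
  have huN := h.le_normalizer_radical huX
  have htN := h.le_normalizer_radical htX
  have hzR : z ∈ radical Q P z a := h.R1_le_radical h.z_mem1
  have haR : a ∈ radical Q P z a := h.R1_le_radical h.a_mem1
  have hu2 : u * u ∈ radical Q P z a := by
    rcases h.esQ.sq_mem hu with h1 | h1
    · rw [h1]; exact Subgroup.one_mem _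
    · rw [h1]; exact hzR
  have ht2 : t * t ∈ radical Q P z a := by
    rcases h.esP.sq_mem ht with h1 | h1
    · rw [h1]; exact Subgroup.one_mem _
    · rw [h1]; exact haR
  have hbr := h.braid hu hua ht htz
  have hXle : Q ⊔ P ≤ Subgroup.closure (((radical Q P z a : Subgroup G) : Set G) ∪ {u, t}) := by
    have hRle : radical Q P z a ≤ Subgroup.closure (((radical Q P z a : Subgroup G) : Set G) ∪ {u, t}) := by
      intro x hx
      exact Subgroup.subset_closure (Or.inl hx)
    have huc : u ∈ Subgroup.closure (((radical Q P z a : Subgroup G) : Set G) ∪ {u, t}) :=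
      Subgroup.subset_closure (Or.inr (Or.inl rfl))
    have htc : t ∈ Subgroup.closure (((radical Q P z a : Subgroup G) : Set G) ∪ {u, t}) :=
      Subgroup.subset_closure (Or.inr (Or.inr rfl))
    apply sup_le
    · intro x hx
      rcases h.esQ.index_two h.aQ hu hua x hx with h1 | h1
      · exact hRle (h.R1_le_radical ((h.mem1 x).mpr ⟨hx, h1⟩))
      · have h2 : u⁻¹ * x ∈ radical Q P z a :=
          h.R1_le_radical ((h.mem1 _).mpr ⟨Q.mul_mem (Q.inv_mem hu) hx, h1⟩)
        have := Subgroup.mul_mem _ huc (hRle h2)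
        have e : u * (u⁻¹ * x) = x := by group
        rw [e] at this; exact this
    · intro x hx
      rcases h.esP.index_two h.zP ht htz x hx with h1 | h1
      · exact hRle (h.R2_le_radical ((h.mem2 x).mpr ⟨hx, h1⟩))
      · have h2 : t⁻¹ * x ∈ radical Q P z a :=
          h.R2_le_radical ((h.mem2 _).mpr ⟨P.mul_mem (P.inv_mem ht) hx, h1⟩)
        have := Subgroup.mul_mem _ htc (hRle h2)
        have e : t * (t⁻¹ * x) = x := by group
        rw [e] at this; exact this
  have hsix := six_cosets (radical Q P z a) u t huN htN hu2 ht2 hbr y (hXle hy)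
  -- the centralizer of z and a
  have hyC : y ∈ Subgroup.centralizer ({z} : Set G) ⊓ Subgroup.centralizer ({a} : Set G) := by
    rw [Subgroup.mem_inf, Subgroup.mem_centralizer_singleton_iff, Subgroup.mem_centralizer_singleton_iff]
    exact ⟨hyz, hya⟩
  have hRC : radical Q P z a ≤ Subgroup.centralizer ({z} : Set G) ⊓ Subgroup.centralizer ({a} : Set G) :=
    le_inf h.radical_le_centralizer_z h.radical_le_centralizer_a
  have hcC : ∀ c : G, c⁻¹ * y ∈ radical Q P z a → c * z = z * c ∧ c * a = a * c := by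
    intro c hc
    have h1 := Subgroup.mul_mem _ hyC (Subgroup.inv_mem _ (hRC hc))
    have e : y * (c⁻¹ * y)⁻¹ = c := by group
    rw [e, Subgroup.mem_inf, Subgroup.mem_centralizer_singleton_iff,
      Subgroup.mem_centralizer_singleton_iff] at h1
    exact h1
  have huz : u * z = z * u := h.esQ.central u hu
  have hta : t * a = a * t := h.esP.central t ht
  have hu_not : ¬ (u * a = a * u) := by
    intro h3
    have h4 : u * a * u⁻¹ = a := by rw [h3]; group
    rw [h4] at hua
    apply h.z_ne_one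
    have := congrArg (fun w => w * a⁻¹) hua
    simpa using this.symm
  have ht_not : ¬ (t * z = z * t) := by
    intro h3
    have h4 : t * z * t⁻¹ = z := by rw [h3]; group
    rw [h4] at htz
    apply h.a_ne_one
    have := congrArg (fun w => w * z⁻¹) htz
    simpa using this.symm
  rcases hsix with h1 | h1 | h1 | h1 | h1 | h1
  · exact h1
  · exact absurd (hcC u h1).2 hu_not
  · exact absurd (hcC t h1).1 ht_not
  · exfalso
    have h2 := (hcC _ h1).1
    apply ht_not
    have : u * (t * z) = u * (z * t) := by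
      calc u * (t * z) = u * t * z := by group
        _ = z * (u * t) := h2
        _ = (z * u) * t := by group
        _ = (u * z) * t := by rw [huz]
        _ = u * (z * t) := by group
    exact mul_left_cancel this
  · exfalso
    have h2 := (hcC _ h1).2
    apply hu_not
    have : t * (u * a) = t * (a * u) := by
      calc t * (u * a) = t * u * a := by group
        _ = a * (t * u) := h2
        _ = (a * t) * u := by group
        _ = (t * a) * u := by rw [hta]
        _ = t * (a * u) := by group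
    exact mul_left_cancel this
  · exfalso
    have h2 := (hcC _ h1).1
    apply ht_not
    have : u * (t * z) * u = u * (z * t) * u := by
      calc u * (t * z) * u = u * t * (z * u) := by group
        _ = u * t * (u * z) := by rw [huz]
        _ = u * t * u * z := by group
        _ = z * (u * t * u) := h2
        _ = (z * u) * t * u := by group
        _ = (u * z) * t * u := by rw [huz]
        _ = u * (z * t) * u := by group
    exact mul_left_cancel (mul_right_cancel this)

/-- The four-group data of `V = ⟨z, a⟩`. -/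
theorem fourData (V : Subgroup G) (hV : V = Subgroup.closure ({z, a} : Set G)) : FourData V z a where
  mem_iff := by
    intro x
    rw [hV]
    exact mem_closure_pair_iff h.esQ.sq h.esP.sq h.za_comm x
  z_ne := h.z_ne_one
  a_ne := h.a_ne_one
  ne := h.ne.symm
  zsq := h.esQ.sq
  asq := h.esP.sq

theorem Q_le_normalizer_four (V : Subgroup G) (hV : V = Subgroup.closure ({z, a} : Set G)) :
    Q ≤ Subgroup.normalizer (V : Set G) := by
  have hFD := h.fourData V hV
  have hzV : z ∈ V := (hFD.mem_iff z).mpr (Or.inr (Or.inl rfl))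
  have hVQ : V ≤ Q := by
    rw [hV, Subgroup.closure_le]
    rintro v (rfl | rfl)
    · exact h.esQ.mem
    · exact h.aQ
  have key : ∀ q ∈ Q, ∀ v ∈ V, q * v * q⁻¹ ∈ V := by
    intro q hq v hv
    have h1 : q * v * q⁻¹ * v⁻¹ ∈ V := by
      rcases h.esQ.comm q hq v (hVQ hv) with h2 | h2
      · rw [h2]; exact V.one_mem
      · rw [h2]; exact hzV
    have := V.mul_mem h1 hv
    have e : q * v * q⁻¹ * v⁻¹ * v = q * v * q⁻¹ := by group
    rw [e] at this; exact this
  intro q hq
  apply mem_normalizer_of_conj_mem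
  · exact key q hq
  · intro v hv
    have := key q⁻¹ (Q.inv_mem hq) v hv
    simpa using this

theorem le_normalizer_four (V : Subgroup G) (hV : V = Subgroup.closure ({z, a} : Set G)) :
    Q ⊔ P ≤ Subgroup.normalizer (V : Set G) := by
  apply sup_le (h.Q_le_normalizer_four V hV)
  apply h.symm.Q_le_normalizer_four V
  rw [hV]
  congr 1
  exact Set.pair_comm z a

/-- The radical is a `2`-group. -/
theorem isPGroup_radical : IsPGroup 2 (radical Q P z a) := by
  have h1 : IsPGroup 2 (P ⊓ Subgroup.centralizer ({z} : Set G) : Subgroup G) :=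
    h.esP.pgroup.to_le inf_le_left
  have h2 : (P ⊓ Subgroup.centralizer ({z} : Set G) : Subgroup G) ≤ Subgroup.normalizer (Q : Set G) := by
    intro s hs
    have hs' := (h.mem2 s).mp hs
    apply mem_normalizer_of_conj_mem
    · exact h.nQ s hs'.2
    · intro v hv
      have hs'' : s⁻¹ * z = z * s⁻¹ := by
        have := congrArg (fun w => s⁻¹ * w * s⁻¹) hs'.2
        simp only [mul_assoc, mul_inv_cancel, mul_one, inv_mul_cancel_left] at this
        exact this.symm
      have := h.nQ s⁻¹ hs'' v hv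
      simpa using this
  have h3 := IsPGroup.to_sup_of_normal_right' h1 h.esQ.pgroup h2
  apply h3.to_le
  unfold radical
  exact sup_le le_sup_left (inf_le_left.trans le_sup_right)

/-- Elements centralizing `z` and `a` normalize `X = ⟨Q, P⟩`. -/
theorem conj_mem_sup {c : G} (hcz : c * z = z * c) (hca : c * a = a * c) :
    ∀ x ∈ Q ⊔ P, c * x * c⁻¹ ∈ Q ⊔ P := by
  have hle : Q ⊔ P ≤ (Q ⊔ P).comap (MulAut.conj c).toMonoidHom := by
    apply sup_le
    · intro q hq
      rw [Subgroup.mem_comap]
      show c * q * c⁻¹ ∈ _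
      exact (le_sup_left : Q ≤ Q ⊔ P) (h.nQ c hcz q hq)
    · intro p hp
      rw [Subgroup.mem_comap]
      show c * p * c⁻¹ ∈ _
      exact (le_sup_right : P ≤ Q ⊔ P) (h.nP c hca p hp)
  intro x hx
  exact hle hx

end LPair

end Cfsg.Agent.Helper89
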