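import Mathlib
import Cfsg.Agent.Lib.Helper89.FStarProps

set_option autoImplicit false

namespace Cfsg.Agent.Helper89

variable {G : Type*} [Group G]

/-- A normal subgroup meeting `C_G(z)` trivially (`z` an involution) has odd order. -/
theorem odd_card_of_inf_centralizer_eq_bot [Finite G] (z : G) (hz2 : z * z = 1) (N : Subgroup G)
    [hN : N.Normal] (hNC : ∀ n ∈ N, n * z = z * n → n = 1) : Odd (Nat.card N) := by
  have hzinv : z⁻¹ = z := inv_eq_of_mul_eq_one_left hz2
  by_contra hodd
  rw [Nat.not_odd_iff_even] at hodd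
  have hp2 : Fact (Nat.Prime 2) := ⟨Nat.prime_two⟩
  obtain ⟨t, ht⟩ := exists_prime_orderOf_dvd_card' (G := N) 2 hodd.two_dvd
  -- the map n ↦ n⁻¹ * (z n z⁻¹) on N is injective hence surjective
  let φ : N → N := fun n => ⟨(n : G)⁻¹ * (z * n * z⁻¹), N.mul_mem (N.inv_mem n.2) (hN.conj_mem n n.2 z)⟩
  have hinj : Function.Injective φ := by
    intro n m hnm
    have h1 : (n : G)⁻¹ * (z * n * z⁻¹) = (m : G)⁻¹ * (z * m * z⁻¹) := congrArg Subtype.val hnm
    have h2 : ((m : G) * (n : G)⁻¹) * z = z * ((m : G) * (n : G)⁻¹) := by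
      have e1 : (m : G) * (n : G)⁻¹ = (z * m * z⁻¹) * (z * n * z⁻¹)⁻¹ := by
        calc (m : G) * (n : G)⁻¹ = (m : G) * ((n : G)⁻¹ * (z * n * z⁻¹)) * (z * n * z⁻¹)⁻¹ := by group
          _ = (m : G) * ((m : G)⁻¹ * (z * m * z⁻¹)) * (z * n * z⁻¹)⁻¹ := by rw [h1]
          _ = (z * m * z⁻¹) * (z * n * z⁻¹)⁻¹ := by group
      have e2 : (z * m * z⁻¹) * (z * n * z⁻¹)⁻¹ = z * ((m : G) * (n : G)⁻¹) * z⁻¹ := by group
      calc ((m : G) * (n : G)⁻¹) * z = (z * ((m : G) * (n : G)⁻¹) * z⁻¹) * z := by rw [← e2, ← e1]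
        _ = z * ((m : G) * (n : G)⁻¹) := by group
    have h3 := hNC _ (N.mul_mem m.2 (N.inv_mem n.2)) h2
    apply Subtype.ext
    calc (n : G) = ((m : G) * (n : G)⁻¹)⁻¹ * m := by group
      _ = m := by rw [h3]; simp
  have hsurj : Function.Surjective φ := Finite.injective_iff_surjective.mp hinj
  obtain ⟨n, hn⟩ := hsurj t
  have htn : (t : G) = (n : G)⁻¹ * (z * n * z⁻¹) := (congrArg Subtype.val hn).symm
  have ht2 : (t : G) * (t : G) = 1 := by
    have : t ^ 2 = 1 := by rw [← ht]; exact pow_orderOf_eq_one t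
    have := congrArg Subtype.val this
    simpa [pow_two] using this
  have htinv : (t : G)⁻¹ = t := inv_eq_of_mul_eq_one_left ht2
  -- z t z⁻¹ = t⁻¹ = t
  have hzt : z * (t : G) * z⁻¹ = (t : G)⁻¹ := by
    rw [htn]
    calc z * ((n : G)⁻¹ * (z * n * z⁻¹)) * z⁻¹ = (z * (n : G)⁻¹ * z) * n * (z⁻¹ * z⁻¹) := by
          rw [hzinv]; group
      _ = (z * (n : G)⁻¹ * z) * n := by rw [hzinv, hz2, mul_one]
      _ = z * (n : G)⁻¹ * z⁻¹ * n := by rw [hzinv]
      _ = ((n : G)⁻¹ * (z * n * z⁻¹))⁻¹ := by group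
  have hcomm : (t : G) * z = z * t := by
    calc (t : G) * z = (t : G)⁻¹ * z := by rw [htinv]
      _ = (z * (t : G) * z⁻¹) * z := by rw [hzt]
      _ = z * t := by group
  have ht1 : (t : G) = 1 := hNC t t.2 hcomm
  have : t = 1 := Subtype.ext ht1
  rw [this, orderOf_one] at ht
  norm_num at ht

/-- **Simplicity from a large extraspecial subgroup.**  Suppose `ES Q z`, `C_G(z)` normalizes `Q`,
`C_{C(z)}(Q) ≤ Q`, `Q` normalizes no nontrivial subgroup of odd order, and every normal subgroup of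
`G` containing `z` contains `C_G(z)`.  Then `G` is simple. -/
theorem isSimpleGroup_of_large [Finite G] {Q : Subgroup G} {z : G} (hES : ES Q z)
    (hnormC : ∀ c ∈ Subgroup.centralizer ({z} : Set G), ∀ q ∈ Q, c * q * c⁻¹ ∈ Q)
    (hselfC : ∀ c ∈ Subgroup.centralizer ({z} : Set G), (∀ q ∈ Q, c * q = q * c) → c ∈ Q)
    (hodd : ∀ K : Subgroup G, Odd (Nat.card K) → Q ≤ Subgroup.normalizer (K : Set G) → K = ⊥)
    (hgen : ∀ N : Subgroup G, N.Normal → z ∈ N → Subgroup.centralizer ({z} : Set G) ≤ N) :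
    IsSimpleGroup G := by
  have hp2 : Fact (Nat.Prime 2) := ⟨Nat.prime_two⟩
  have hcentQ : ∀ x : G, (∀ q ∈ Q, x * q = q * x) → x = 1 ∨ x = z := by
    intro x hx
    have hxC : x ∈ Subgroup.centralizer ({z} : Set G) := by
      rw [Subgroup.mem_centralizer_singleton_iff]
      exact hx z hES.mem
    exact hES.cent x (hselfC x hxC hx) hx
  refine { exists_pair_ne := ⟨z, 1, hES.ne_one⟩, eq_bot_or_eq_top_of_normal := ?_ }
  intro N hN
  by_cases hzN : z ∈ N
  · right
    have hCN := hgen N hN hzN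
    obtain ⟨S, hQS⟩ := hES.pgroup.exists_le_sylow
    -- z is central in S
    have hzS : z ∈ (S : Subgroup G) := hQS hES.mem
    have hSnt : Nontrivial (S : Subgroup G) := ⟨⟨⟨z, hzS⟩, 1, fun e => hES.ne_one (congrArg Subtype.val e)⟩⟩
    have hcn := S.isPGroup'.center_nontrivial
    obtain ⟨c, hc1⟩ := exists_ne (1 : Subgroup.center (S : Subgroup G))
    have hcS : ∀ s ∈ (S : Subgroup G), ((c : (S : Subgroup G)) : G) * s = s * ((c : (S : Subgroup G)) : G) := by
      intro s hs
      have := Subgroup.mem_center_iff.mp c.2 ⟨s, hs⟩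
      exact (congrArg Subtype.val this).symm
    have hcz : ((c : (S : Subgroup G)) : G) = z := by
      rcases hcentQ _ (fun q hq => hcS q (hQS hq)) with e | e
      · exfalso
        apply hc1
        apply Subtype.ext
        apply Subtype.ext
        exact e
      · exact e
    have hzcS : ∀ s ∈ (S : Subgroup G), z * s = s * z := by
      intro s hs
      rw [← hcz]
      exact hcS s hs
    have hSC : (S : Subgroup G) ≤ Subgroup.centralizer ({z} : Set G) := by
      intro s hs
      rw [Subgroup.mem_centralizer_singleton_iff]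
      exact (hzcS s hs).symm
    have hNS : Subgroup.normalizer ((S : Subgroup G) : Set G) ≤ Subgroup.centralizer ({z} : Set G) := by
      intro x hx
      rw [Subgroup.mem_normalizer_iff] at hx
      have hxz : x * z * x⁻¹ ∈ (S : Subgroup G) := (hx z).mp hzS
      have hcomm : ∀ q ∈ Q, (x * z * x⁻¹) * q = q * (x * z * x⁻¹) := by
        intro q hq
        have hq' : x⁻¹ * q * x ∈ (S : Subgroup G) := by
          rw [hx]
          have e : x * (x⁻¹ * q * x) * x⁻¹ = q := by group
          rw [e]; exact hQS hq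
        have := hzcS _ hq'
        calc (x * z * x⁻¹) * q = x * (z * (x⁻¹ * q * x)) * x⁻¹ := by group
          _ = x * ((x⁻¹ * q * x) * z) * x⁻¹ := by rw [this]
          _ = q * (x * z * x⁻¹) := by group
      rw [Subgroup.mem_centralizer_singleton_iff]
      rcases hcentQ _ hcomm with e | e
      · exfalso
        apply hES.ne_one
        have := congrArg (fun w => x⁻¹ * w * x) e
        simpa [mul_assoc] using this
      · calc x * z = (x * z * x⁻¹) * x := by group
          _ = z * x := by rw [e]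
    have hfr := Sylow.normalizer_sup_eq_top' S (hSC.trans hCN)
    rw [eq_top_iff, ← hfr]
    exact sup_le (hNS.trans hCN) le_rfl
  · left
    -- N ∩ Q = 1
    have hNQ : ∀ x ∈ N, x ∈ Q → x = 1 := by
      intro x hxN hxQ
      by_contra hx1
      apply hzN
      by_cases hcen : ∀ q ∈ Q, x * q = q * x
      · rcases hES.cent x hxQ hcen with e | e
        · exact absurd e hx1
        · rw [← e]; exact hxN
      · push Not at hcen
        obtain ⟨q, hq, hnc⟩ := hcen
        rcases hES.comm_or hq hxQ with e | e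
        · exact absurd e.symm hnc
        · rw [← e]
          have : q * x * q⁻¹ * x⁻¹ = (q * x * q⁻¹) * x⁻¹ := by group
          rw [this]
          exact N.mul_mem (hN.conj_mem x hxN q) (N.inv_mem hxN)
    have hNC : ∀ n ∈ N, n * z = z * n → n = 1 := by
      intro n hn hnz
      have hnC : n ∈ Subgroup.centralizer ({z} : Set G) := by
        rw [Subgroup.mem_centralizer_singleton_iff]; exact hnz
      have hcen : ∀ q ∈ Q, n * q = q * n := by
        intro q hq
        have h1 : n * q * n⁻¹ * q⁻¹ ∈ N := by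
          have : n * q * n⁻¹ * q⁻¹ = n * (q * n⁻¹ * q⁻¹) := by group
          rw [this]
          exact N.mul_mem hn (hN.conj_mem _ (N.inv_mem hn) q)
        have h2 : n * q * n⁻¹ * q⁻¹ ∈ Q := Q.mul_mem (hnormC n hnC q hq) (Q.inv_mem hq)
        exact comm_of_commutator_eq_one (hNQ _ h1 h2)
      exact hNQ n hn (hselfC n hnC hcen)
    have hoddN := odd_card_of_inf_centralizer_eq_bot z hES.sq N hNC
    apply hodd N hoddN
    intro q _
    rw [Subgroup.mem_normalizer_iff]
    intro n
    constructor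
    · intro hn; exact hN.conj_mem n hn q
    · intro hn
      have := hN.conj_mem _ hn q⁻¹
      have e : q⁻¹ * (q * n * q⁻¹) * q⁻¹⁻¹ = n := by group
      rwa [e] at this

end Cfsg.Agent.Helper89
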