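import Mathlib
import Cfsg.Prelude.Def_MonsterType
import Cfsg.Agent.Lib.Helper89.FixSub
import Cfsg.Agent.Lib.Helper89.Large
import Cfsg.Agent.Lib.Helper89.PairRadical
import Cfsg.Agent.Lib.Helper21.Components
import Cfsg.Agent.Lib.Helper21.Layer
import Cfsg.Agent.Lib.Helper21.PGen
import Cfsg.Agent.Lib.Helper22.Bender
import Cfsg.Agent.Lib.Helper22.Fitting
import Cfsg.Agent.Lib.Helper22.Radical
import Cfsg.Agent.Lib.Helper22.Components
import Cfsg.Agent.Lib.Helper24.FStar
import Cfsg.Agent.Lib.Helper24.PConstrained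
import Cfsg.Agent.Lib.Helper34.Components
import Cfsg.Agent.S3747

set_option autoImplicit false

namespace Cfsg.Agent.Helper89

variable {G : Type*} [Group G]

/-- A `p`-group `Q` normalizing a subgroup `X` of order divisible by `p` centralizes some
non-identity element of `X`. -/
theorem exists_ne_one_fixed [Finite G] {p : ℕ} [hp : Fact p.Prime] (Q X : Subgroup G)
    (hQ : IsPGroup p Q) (hQX : Q ≤ Subgroup.normalizer (X : Set G)) (hdvd : p ∣ Nat.card X) :
    ∃ x ∈ X, x ≠ 1 ∧ ∀ q ∈ Q, q * x = x * q := by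
  let _ : MulAction Q X := conjActOn X Q hQX
  have h1 := hQ.card_modEq_card_fixedPoints (α := X)
  have h2 : p ∣ Nat.card (MulAction.fixedPoints Q X) := by
    rw [← Nat.modEq_zero_iff_dvd]
    exact h1.symm.trans (Nat.modEq_zero_iff_dvd.mpr hdvd)
  have h1fix : (1 : X) ∈ MulAction.fixedPoints Q X := by
    intro g
    apply Subtype.ext
    show (g : G) * ((1 : X) : G) * (g : G)⁻¹ = ((1 : X) : G)
    simp
  have hne : Nonempty (MulAction.fixedPoints Q X) := ⟨⟨1, h1fix⟩⟩
  have hcard : 1 < Nat.card (MulAction.fixedPoints Q X) := by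
    have hpos : 0 < Nat.card (MulAction.fixedPoints Q X) := Nat.card_pos
    have h3 := Nat.le_of_dvd hpos h2
    have h4 := hp.out.two_le
    omega
  have hnt : Nontrivial (MulAction.fixedPoints Q X) := Finite.one_lt_card_iff_nontrivial.mp hcard
  obtain ⟨y, hy⟩ := exists_ne (⟨1, h1fix⟩ : MulAction.fixedPoints Q X)
  refine ⟨(y.1 : G), y.1.2, ?_, ?_⟩
  · intro e
    apply hy
    apply Subtype.ext
    apply Subtype.ext
    exact e
  · intro q hq
    have := y.2 ⟨q, hq⟩
    have h5 : q * (y.1 : G) * q⁻¹ = (y.1 : G) := congrArg Subtype.val this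
    calc q * (y.1 : G) = (q * (y.1 : G) * q⁻¹) * q := by group
      _ = (y.1 : G) * q := by rw [h5]

/-- Hypotheses extracted from a large extraspecial `2`-subgroup with centre `⟨z⟩`. -/
structure LargeCtx (Q : Subgroup G) (z : G) : Prop where
  es : ES Q z
  centQ : ∀ x : G, (∀ q ∈ Q, x * q = q * x) → x = 1 ∨ x = z
  normC : ∀ c : G, c * z = z * c → ∀ q ∈ Q, c * q * c⁻¹ ∈ Q
  odd : ∀ K : Subgroup G, Odd (Nat.card K) → Q ≤ Subgroup.normalizer (K : Set G) → K = ⊥

theorem LargeCtx.of_large {Q : Subgroup G} (hQ : Cfsg.IsLargeExtraspecial Q) (z : G)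
    (hz : (Subgroup.center ↥Q).map Q.subtype = Subgroup.zpowers z) : LargeCtx Q z := by
  obtain ⟨hL1, hL2, hL3, hL4⟩ := hQ
  obtain ⟨z', hES, hcenter⟩ := ES.of_extraspecial Q hL1
  have hzz' : z = z' := by
    have h1 : z ∈ (Subgroup.center ↥Q).map Q.subtype := by rw [hz]; exact Subgroup.mem_zpowers z
    rcases (hcenter z).mp h1 with e | e
    · exfalso
      have h2 : z' ∈ Subgroup.zpowers z := by rw [← hz]; exact (hcenter z').mpr (Or.inr rfl)
      rw [e, Subgroup.zpowers_one_eq_bot, Subgroup.mem_bot] at h2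
      exact hES.ne_one h2
    · exact e
  subst hzz'
  refine ⟨hES, ?_, ?_, hL4⟩
  · intro x hx
    apply (hcenter x).mp
    rw [← hL2, Subgroup.mem_centralizer_iff]
    intro y hy
    exact (hx y hy).symm
  · intro c hc q hq
    have hcZ : c ∈ Subgroup.centralizer
        (((Subgroup.center ↥Q).map Q.subtype : Subgroup G) : Set G) := by
      rw [Subgroup.mem_centralizer_iff]
      intro y hy
      rcases (hcenter y).mp hy with e | e
      · rw [e]; simp
      · rw [e]; exact hc.symm
    exact (Subgroup.mem_normalizer_iff.mp (hL3 hcZ) q).mp hq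

section Ctx

variable [Finite G] {Q : Subgroup G} {z : G} (h : LargeCtx Q z)
include h

/-- Every non-trivial subgroup normalized by `Q` contains `z`. -/
theorem LargeCtx.mem_of_normalized (X : Subgroup G) (hX : X ≠ ⊥)
    (hQX : Q ≤ Subgroup.normalizer (X : Set G)) : z ∈ X := by
  have : Fact (Nat.Prime 2) := ⟨Nat.prime_two⟩
  rcases Nat.even_or_odd (Nat.card X) with he | ho
  · obtain ⟨x, hxX, hx1, hxc⟩ := exists_ne_one_fixed Q X h.es.pgroup hQX (even_iff_two_dvd.mp he)
    rcases h.centQ x (fun q hq => (hxc q hq).symm) with e | e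
    · exact absurd e hx1
    · rw [← e]; exact hxX
  · exact absurd (h.odd X ho hQX) hX

omit [Finite G] in
/-- The centralizer of `z` normalizes `Q`. -/
theorem LargeCtx.centralizer_le_normalizer :
    Subgroup.centralizer ({z} : Set G) ≤ Subgroup.normalizer (Q : Set G) := by
  intro c hc
  have hcz : c * z = z * c := Subgroup.mem_centralizer_singleton_iff.mp hc
  have hcz' : c⁻¹ * z = z * c⁻¹ := by
    calc c⁻¹ * z = c⁻¹ * (z * c) * c⁻¹ := by group
      _ = c⁻¹ * (c * z) * c⁻¹ := by rw [hcz]
      _ = z * c⁻¹ := by group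
  rw [Subgroup.mem_normalizer_iff]
  intro q
  constructor
  · exact h.normC c hcz q
  · intro hq
    have := h.normC c⁻¹ hcz' _ hq
    have e : c⁻¹ * (c * q * c⁻¹) * c⁻¹⁻¹ = q := by group
    rwa [e] at this

/-- No component of `G` centralizes `z`. -/
theorem LargeCtx.not_component_centralizes (K : Subgroup G) (hK : Cfsg.IsComponent K)
    (hKz : ∀ k ∈ K, k * z = z * k) : False := by
  have : Fact (Nat.Prime 2) := ⟨Nat.prime_two⟩
  have hKN : K ≤ Subgroup.normalizer (Q : Set G) := by
    intro k hk
    exact h.centralizer_le_normalizer (Subgroup.mem_centralizer_singleton_iff.mpr (hKz k hk))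
  have hnil : Group.IsNilpotent ↥Q := h.es.pgroup.isNilpotent
  have hsolv : Group.IsSolvable ↥Q := inferInstance
  have hc := Helper21.component_commutator_eq_bot_of_solvable K Q hK hsolv hKN
  rw [Subgroup.commutator_eq_bot_iff_le_centralizer] at hc
  have hK2 : ∀ k ∈ K, k = 1 ∨ k = z := by
    intro k hk
    apply h.centQ k
    intro q hq
    exact ((Subgroup.mem_centralizer_iff.mp (hc hk)) q hq).symm
  apply Helper21.component_not_le_of_commutative K hK
  rw [Subgroup.commutator_eq_bot_iff_le_centralizer]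
  intro k hk
  rw [Subgroup.mem_centralizer_iff]
  intro k' hk'
  rcases hK2 k hk with e | e <;> rcases hK2 k' hk' with e' | e'
  · rw [e, e']
  · rw [e, e']; simp
  · rw [e, e']; simp
  · rw [e, e']

omit [Finite G] in
/-- `O_{2'}(G) = 1`. -/
theorem LargeCtx.pPrimeCore_eq_bot : Cfsg.pPrimeCore 2 G = ⊥ := by
  unfold Cfsg.pPrimeCore
  rw [sSup_eq_bot]
  rintro N ⟨hNn, hNc⟩
  apply h.odd N (Nat.coprime_two_right.mp hNc)
  rw [Subgroup.normalizer_eq_top]
  exact le_top

end Ctx

/-- A group with trivial centre and simple central quotient is simple. -/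
theorem isSimpleGroup_of_quotient_center {H : Type*} [Group H] (hc : Subgroup.center H = ⊥)
    (hs : IsSimpleGroup (H ⧸ Subgroup.center H)) : IsSimpleGroup H := by
  have hinj : Function.Injective (QuotientGroup.mk' (Subgroup.center H)) := by
    rw [← MonoidHom.ker_eq_bot_iff, QuotientGroup.ker_mk', hc]
  have hsurj : Function.Surjective (QuotientGroup.mk' (Subgroup.center H)) :=
    QuotientGroup.mk'_surjective _
  let e : H ≃* H ⧸ Subgroup.center H := MulEquiv.ofBijective _ ⟨hinj, hsurj⟩
  have hnt : Nontrivial H := hsurj.nontrivial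
  exact IsSimpleGroup.isSimpleGroup_of_surjective e.symm.toMonoidHom e.symm.surjective

section CaseA

variable [Finite G] {Q : Subgroup G} {z : G} (h : LargeCtx Q z)
include h

/-- If `O_2(G) ≠ 1` then `⟨z^G⟩` is abelian and `F*(G) = O_2(G)`. -/
theorem LargeCtx.caseA (hO2 : Cfsg.pCore 2 G ≠ ⊥) :
    IsMulCommutative ↥(Subgroup.normalClosure ({z} : Set G)) ∧
      Cfsg.generalizedFittingSubgroup G = Cfsg.pCore 2 G := by
  have : Fact (Nat.Prime 2) := ⟨Nat.prime_two⟩
  have hOn : (Cfsg.pCore 2 G).Normal := Subgroup.sSup_normal _ (fun _ hH => hH.1)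
  have hOp : IsPGroup 2 (Cfsg.pCore 2 G) := Helper22.isPGroup_pCore 2
  set O := Cfsg.pCore 2 G with hOdef
  set T : Subgroup G := O ⊓ Subgroup.centralizer (O : Set G) with hT
  have hTn : T.Normal := inferInstance
  have hTne : T ≠ ⊥ := by
    have hnt : Nontrivial ↥O := (Subgroup.nontrivial_iff_ne_bot O).mpr hO2
    have hcn := hOp.center_nontrivial
    obtain ⟨c, hc⟩ := exists_ne (1 : Subgroup.center ↥O)
    intro hbot
    apply hc
    have hcT : ((c : ↥O) : G) ∈ T := by
      refine Subgroup.mem_inf.mpr ⟨(c : ↥O).2, ?_⟩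
      rw [Subgroup.mem_centralizer_iff]
      intro y hy
      have := Subgroup.mem_center_iff.mp c.2 ⟨y, hy⟩
      exact congrArg Subtype.val this
    rw [hbot, Subgroup.mem_bot] at hcT
    apply Subtype.ext
    apply Subtype.ext
    exact hcT
  have hzT : z ∈ T :=
    h.mem_of_normalized T hTne (by rw [Subgroup.normalizer_eq_top]; exact le_top)
  refine ⟨?_, ?_⟩
  · have hle : Subgroup.normalClosure ({z} : Set G) ≤ T :=
      Subgroup.normalClosure_le_normal (by simpa using hzT)
    refine ⟨⟨fun a b => ?_⟩⟩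
    apply Subtype.ext
    have ha := Subgroup.mem_inf.mp (hle a.2)
    have hb := Subgroup.mem_inf.mp (hle b.2)
    exact ((Subgroup.mem_centralizer_iff.mp ha.2) b hb.1).symm
  · have hlayer : Cfsg.layer G = ⊥ := by
      rw [Helper22.layer_eq_bot_iff]
      intro K hK
      apply h.not_component_centralizes K hK
      intro k hk
      have hkc := Helper22.component_le_centralizer_fittingSubgroup hK hk
      have hzF : z ∈ Cfsg.fittingSubgroup G :=
        Helper22.pCore_le_fittingSubgroup 2 (Subgroup.mem_inf.mp hzT).1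
      exact ((Subgroup.mem_centralizer_iff.mp hkc) z hzF).symm
    rw [Helper24.generalizedFitting_eq_fitting_of_layer_eq_bot hlayer]
    exact Helper24.fitting_eq_pCore_of_pPrimeCore_eq_bot h.pPrimeCore_eq_bot

end CaseA

/-- The layer is contained in `K · C_G(K)` for every component `K`. -/
theorem layer_le_sup_centralizer (K : Subgroup G) (hK : Cfsg.IsComponent K) :
    Cfsg.layer G ≤ Subgroup.centralizer (K : Set G) ⊔ K := by
  unfold Cfsg.layer
  apply sSup_le
  intro K' hK'
  by_cases e : K' = K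
  · rw [e]; exact le_sup_right
  · have hc := Helper21.component_commutator_eq_bot_of_ne K' K hK' hK e
    rw [Subgroup.commutator_eq_bot_iff_le_centralizer] at hc
    exact le_trans hc le_sup_left

/-- Elements of the layer decompose along a component. -/
theorem exists_decomp_of_mem_layer (K : Subgroup G) (hK : Cfsg.IsComponent K) {e : G}
    (he : e ∈ Cfsg.layer G) :
    ∃ a ∈ K, ∃ b : G, (∀ k ∈ K, b * k = k * b) ∧ e = a * b := by
  have h1 : e ∈ ((Subgroup.centralizer (K : Set G) ⊔ K : Subgroup G) : Set G) :=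
    layer_le_sup_centralizer K hK he
  rw [Subgroup.coe_mul_of_left_le_normalizer_right _ K (Subgroup.centralizer_le_normalizer _),
    Set.mem_mul] at h1
  obtain ⟨b, hb, a, ha, hba⟩ := h1
  have hb' : ∀ k ∈ K, b * k = k * b := by
    intro k hk
    exact ((Subgroup.mem_centralizer_iff.mp hb) k hk).symm
  refine ⟨a, ha, b, hb', ?_⟩
  rw [← hba, hb' a ha]

section CaseB

variable [Finite G] {Q : Subgroup G} {z : G} (h : LargeCtx Q z) (hO2 : Cfsg.pCore 2 G = ⊥)
include h hO2

theorem LargeCtx.fitting_eq_bot : Cfsg.fittingSubgroup G = ⊥ := by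
  have : Fact (Nat.Prime 2) := ⟨Nat.prime_two⟩
  rw [Helper24.fitting_eq_pCore_of_pPrimeCore_eq_bot h.pPrimeCore_eq_bot, hO2]

theorem LargeCtx.gfs_eq_layer : Cfsg.generalizedFittingSubgroup G = Cfsg.layer G := by
  unfold Cfsg.generalizedFittingSubgroup
  rw [h.fitting_eq_bot hO2, sup_bot_eq]

theorem LargeCtx.mem_layer : z ∈ Cfsg.layer G := by
  have hLn : (Cfsg.layer G).Normal := by
    rw [← h.gfs_eq_layer hO2]; infer_instance
  have hLne : Cfsg.layer G ≠ ⊥ := by
    intro hbot
    have hB := Helper22.centralizer_generalizedFittingSubgroup_le (G := G)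
    rw [h.gfs_eq_layer hO2, hbot] at hB
    have hz : z ∈ (⊥ : Subgroup G) := by
      apply hB
      rw [Subgroup.mem_centralizer_iff]
      intro y hy
      have : y = 1 := by simpa using hy
      rw [this]; simp
    exact h.es.ne_one (Subgroup.mem_bot.mp hz)
  exact h.mem_of_normalized _ hLne (by rw [Subgroup.normalizer_eq_top]; exact le_top)

theorem LargeCtx.normalClosure_eq_layer :
    Subgroup.normalClosure ({z} : Set G) = Cfsg.layer G := by
  have hLn : (Cfsg.layer G).Normal := by
    rw [← h.gfs_eq_layer hO2]; infer_instance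
  apply le_antisymm
  · exact Subgroup.normalClosure_le_normal (by simpa using h.mem_layer hO2)
  · unfold Cfsg.layer
    apply sSup_le
    intro K hK
    rcases Helper34.component_le_or_commutator_eq_bot K (Subgroup.normalClosure {z}) hK with h1 | h1
    · exact h1
    · exfalso
      apply h.not_component_centralizes K hK
      intro k hk
      rw [Subgroup.commutator_eq_bot_iff_le_centralizer] at h1
      exact ((Subgroup.mem_centralizer_iff.mp (h1 hk)) z
        (Subgroup.subset_normalClosure rfl)).symm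

/-- A component meets its centralizer trivially. -/
theorem LargeCtx.component_cent_trivial (K : Subgroup G) (hK : Cfsg.IsComponent K) {x : G}
    (hxK : x ∈ K) (hx : ∀ k ∈ K, x * k = k * x) : x = 1 := by
  have hc := Cfsg.Agent.S3747.center_component_eq_bot (h.fitting_eq_bot hO2) K hK
  have hmem : (⟨x, hxK⟩ : K) ∈ Subgroup.center ↥K := by
    rw [Subgroup.mem_center_iff]
    intro g
    apply Subtype.ext
    exact (hx g g.2).symm
  rw [hc, Subgroup.mem_bot] at hmem
  exact congrArg Subtype.val hmem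

theorem LargeCtx.component_simple (K : Subgroup G) (hK : Cfsg.IsComponent K) :
    IsSimpleGroup ↥K ∧ ¬ IsMulCommutative ↥K := by
  have hc := Cfsg.Agent.S3747.center_component_eq_bot (h.fitting_eq_bot hO2) K hK
  refine ⟨isSimpleGroup_of_quotient_center hc hK.2.2, ?_⟩
  intro hcomm
  apply Helper21.component_not_le_of_commutative K hK
  rw [Subgroup.commutator_eq_bot_iff_le_centralizer]
  intro k hk
  rw [Subgroup.mem_centralizer_iff]
  intro k' hk'
  exact congrArg Subtype.val (hcomm.is_comm.comm (⟨k', hk'⟩ : K) ⟨k, hk⟩)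

/-- The `K`-component of `z`: an involution `a ∈ K` with `a⁻¹ z ∈ C_G(K)`. -/
theorem LargeCtx.exists_zK (K : Subgroup G) (hK : Cfsg.IsComponent K) :
    ∃ a ∈ K, a ≠ 1 ∧ a * a = 1 ∧ ∃ b : G, (∀ k ∈ K, b * k = k * b) ∧ z = a * b := by
  obtain ⟨a, ha, b, hb, hab⟩ := exists_decomp_of_mem_layer K hK (h.mem_layer hO2)
  refine ⟨a, ha, ?_, ?_, b, hb, hab⟩
  · intro e
    apply h.not_component_centralizes K hK
    intro k hk
    rw [hab, e, one_mul]
    exact (hb k hk).symm
  · have hba : b * a = a * b := hb a ha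
    have hzz : a * b * (a * b) = 1 := by rw [← hab]; exact h.es.sq
    have h1 : (a * a) * (b * b) = 1 := by
      calc (a * a) * (b * b) = a * (a * b) * b := by group
        _ = a * (b * a) * b := by rw [hba]
        _ = a * b * (a * b) := by group
        _ = 1 := hzz
    have h2 : a * a = (b * b)⁻¹ := eq_inv_of_mul_eq_one_left h1
    apply h.component_cent_trivial hO2 K hK (K.mul_mem ha ha)
    intro k hk
    rw [h2]
    have h3 : (b * b) * k = k * (b * b) := by
      calc (b * b) * k = b * (b * k) := by group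
        _ = b * (k * b) := by rw [hb k hk]
        _ = (b * k) * b := by group
        _ = (k * b) * b := by rw [hb k hk]
        _ = k * (b * b) := by group
    calc (b * b)⁻¹ * k = (b * b)⁻¹ * (k * (b * b)) * (b * b)⁻¹ := by group
      _ = (b * b)⁻¹ * ((b * b) * k) * (b * b)⁻¹ := by rw [h3]
      _ = k * (b * b)⁻¹ := by group

/-- `Q` permutes the components transitively. -/
theorem LargeCtx.component_conj (K K' : Subgroup G) (hK : Cfsg.IsComponent K)
    (hK' : Cfsg.IsComponent K') : ∃ q ∈ Q, K' = Helper22.conjS q K := by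
  by_contra hcon
  push Not at hcon
  set O' : Set (Subgroup G) := {K'' | Cfsg.IsComponent K'' ∧ ∀ q ∈ Q, K'' ≠ Helper22.conjS q K}
    with hO'
  have hK'O : K' ∈ O' := ⟨hK', hcon⟩
  have hne : sSup O' ≠ ⊥ := by
    intro hbot
    have hle : K' ≤ sSup O' := le_sSup hK'O
    rw [hbot, le_bot_iff] at hle
    have hs := (h.component_simple hO2 K' hK').1
    have hnt : Nontrivial ↥K' := hs.toNontrivial
    rw [Subgroup.nontrivial_iff_ne_bot] at hnt
    exact hnt hle
  have hstep : ∀ q0 ∈ Q, ∀ A ∈ O', Helper22.conjS q0 A ∈ O' := by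
    intro q0 hq0 A hA
    refine ⟨Helper22.IsComponent.conj hA.1 q0, ?_⟩
    intro q hq e
    apply hA.2 (q0⁻¹ * q) (Q.mul_mem (Q.inv_mem hq0) hq)
    rw [Helper22.conjS_mul, ← e, Helper22.conjS_inv_conjS]
  have hnorm : Q ≤ Subgroup.normalizer ((sSup O' : Subgroup G) : Set G) := by
    intro q0 hq0
    apply Helper22.mem_normalizer_of_conjS_le
    · exact Helper22.conjS_sSup_le O' q0 (hstep q0 hq0)
    · exact Helper22.conjS_sSup_le O' q0⁻¹ (hstep q0⁻¹ (Q.inv_mem hq0))
  have hz := h.mem_of_normalized _ hne hnorm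
  have hle : sSup O' ≤ Subgroup.centralizer (K : Set G) := by
    apply sSup_le
    intro A hA
    have hAK : A ≠ K := by
      intro e
      apply hA.2 1 Q.one_mem
      rw [Helper22.conjS_one]; exact e
    have hc := Helper21.component_commutator_eq_bot_of_ne A K hA.1 hK hAK
    rw [Subgroup.commutator_eq_bot_iff_le_centralizer] at hc
    exact hc
  apply h.not_component_centralizes K hK
  intro k hk
  exact (Subgroup.mem_centralizer_iff.mp (hle hz)) k hk

end CaseB

end Cfsg.Agent.Helper89
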