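import Mathlib
import Cfsg.Agent.Lib.Helper89.LargeStruct

set_option autoImplicit false

namespace Cfsg.Agent.Helper89

/-- A finite simple non-abelian group has no involution `a` with `C(a) = {1, a}`. -/
theorem not_simple_of_centralizer_involution {K : Type*} [Group K] [Finite K] [IsSimpleGroup K]
    (hna : ¬ IsMulCommutative K) (a : K) (ha1 : a ≠ 1) (ha2 : a * a = 1)
    (hcent : ∀ x : K, x * a = a * x → x = 1 ∨ x = a) : False := by
  have hp2 : Fact (Nat.Prime 2) := ⟨Nat.prime_two⟩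
  have hord : orderOf a = 2 := by
    apply orderOf_eq_prime
    · rw [pow_two]; exact ha2
    · exact ha1
  have hzp : IsPGroup 2 (Subgroup.zpowers a) := by
    apply IsPGroup.of_card (n := 1)
    rw [Nat.card_zpowers, hord, pow_one]
  obtain ⟨P, hP⟩ := hzp.exists_le_sylow
  have haP : a ∈ (P : Subgroup K) := hP (Subgroup.mem_zpowers a)
  have hPnt : Nontrivial (P : Subgroup K) :=
    ⟨⟨⟨a, haP⟩, 1, fun e => ha1 (congrArg Subtype.val e)⟩⟩
  have hcn := P.isPGroup'.center_nontrivial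
  obtain ⟨c, hc1⟩ := exists_ne (1 : Subgroup.center (P : Subgroup K))
  have hca : ((c : (P : Subgroup K)) : K) * a = a * ((c : (P : Subgroup K)) : K) := by
    have := Subgroup.mem_center_iff.mp c.2 ⟨a, haP⟩
    exact (congrArg Subtype.val this).symm
  have hceq : ((c : (P : Subgroup K)) : K) = a := by
    rcases hcent _ hca with e | e
    · exfalso
      apply hc1
      apply Subtype.ext
      apply Subtype.ext
      exact e
    · exact e
  have hPall : ∀ s ∈ (P : Subgroup K), s = 1 ∨ s = a := by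
    intro s hs
    apply hcent
    have := Subgroup.mem_center_iff.mp c.2 ⟨s, hs⟩
    have h2 : s * ((c : (P : Subgroup K)) : K) = ((c : (P : Subgroup K)) : K) * s :=
      congrArg Subtype.val this
    rw [hceq] at h2
    exact h2
  have hPeq : (P : Subgroup K) = Subgroup.zpowers a := by
    apply le_antisymm
    · intro s hs
      rcases hPall s hs with e | e
      · rw [e]; exact Subgroup.one_mem _
      · rw [e]; exact Subgroup.mem_zpowers a
    · exact hP
  have hPcard : Nat.card (P : Subgroup K) = 2 := by rw [hPeq, Nat.card_zpowers, hord]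
  have hPcyc : IsCyclic (P : Subgroup K) := isCyclic_of_prime_card hPcard
  have h2dvd : 2 ∣ Nat.card K := by
    rw [← hord]; exact orderOf_dvd_natCard a
  have hmin : (Nat.card K).minFac = 2 := (Nat.minFac_eq_two_iff _).mpr h2dvd
  have hcompl := IsCyclic.isComplement' hmin hPcyc
  set N := (MonoidHom.transferSylow P (hPcyc.normalizer_le_centralizer hmin)).ker with hN
  have hNn : N.Normal := MonoidHom.normal_ker _
  have hNidx : N.index = 2 := by rw [hcompl.symm.index_eq_card, hPcard]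
  rcases hNn.eq_bot_or_eq_top with e | e
  · rw [e, Subgroup.index_bot] at hNidx
    apply hna
    have hcyc : IsCyclic K := isCyclic_of_prime_card hNidx
    obtain ⟨g, hg⟩ := hcyc.exists_generator
    refine ⟨⟨fun x y => ?_⟩⟩
    obtain ⟨i, rfl⟩ := Subgroup.mem_zpowers_iff.mp (hg x)
    obtain ⟨j, rfl⟩ := Subgroup.mem_zpowers_iff.mp (hg y)
    exact ((Commute.refl g).zpow_zpow i j)
  · rw [e, Subgroup.index_top] at hNidx
    norm_num at hNidx

variable {G : Type*} [Group G]

section CaseB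

variable [Finite G] {Q : Subgroup G} {z : G} (h : LargeCtx Q z) (hO2 : Cfsg.pCore 2 G = ⊥)
include h hO2

/-- Uniqueness of the decomposition along a component. -/
theorem LargeCtx.decomp_unique (K : Subgroup G) (hK : Cfsg.IsComponent K) {a₁ a₂ b₁ b₂ : G}
    (ha₁ : a₁ ∈ K) (ha₂ : a₂ ∈ K) (hb₁ : ∀ k ∈ K, b₁ * k = k * b₁)
    (hb₂ : ∀ k ∈ K, b₂ * k = k * b₂) (e : a₁ * b₁ = a₂ * b₂) : a₁ = a₂ ∧ b₁ = b₂ := by
  have h1 : a₂⁻¹ * a₁ = b₂ * b₁⁻¹ := by
    calc a₂⁻¹ * a₁ = a₂⁻¹ * (a₁ * b₁) * b₁⁻¹ := by group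
      _ = a₂⁻¹ * (a₂ * b₂) * b₁⁻¹ := by rw [e]
      _ = b₂ * b₁⁻¹ := by group
  have h2 : a₂⁻¹ * a₁ = 1 := by
    apply h.component_cent_trivial hO2 K hK (K.mul_mem (K.inv_mem ha₂) ha₁)
    intro k hk
    rw [h1]
    have hb₁' : b₁⁻¹ * k = k * b₁⁻¹ := by
      calc b₁⁻¹ * k = b₁⁻¹ * (k * b₁) * b₁⁻¹ := by group
        _ = b₁⁻¹ * (b₁ * k) * b₁⁻¹ := by rw [hb₁ k hk]
        _ = k * b₁⁻¹ := by group
    calc b₂ * b₁⁻¹ * k = b₂ * (b₁⁻¹ * k) := by group
      _ = b₂ * (k * b₁⁻¹) := by rw [hb₁']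
      _ = (b₂ * k) * b₁⁻¹ := by group
      _ = (k * b₂) * b₁⁻¹ := by rw [hb₂ k hk]
      _ = k * (b₂ * b₁⁻¹) := by group
  have h3 : a₁ = a₂ := by
    calc a₁ = a₂ * (a₂⁻¹ * a₁) := by group
      _ = a₂ := by rw [h2, mul_one]
  refine ⟨h3, ?_⟩
  rw [h3] at e
  exact mul_left_cancel e

/-- `z` normalizes every component. -/
theorem LargeCtx.conjS_z (K : Subgroup G) (hK : Cfsg.IsComponent K) :
    Helper22.conjS z K = K := by
  rw [← Helper22.mem_normalizer_iff_conjS]
  obtain ⟨a, ha, -, -, b, hb, hzab⟩ := h.exists_zK hO2 K hK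
  rw [hzab]
  apply Subgroup.mul_mem
  · exact Subgroup.le_normalizer ha
  · apply Subgroup.centralizer_le_normalizer
    rw [Subgroup.mem_centralizer_iff]
    intro k hk
    exact (hb k hk).symm

/-- Conjugating by `v⁻¹` or `v ∈ Q` has the same effect on components. -/
theorem LargeCtx.conjS_inv (K : Subgroup G) (hK : Cfsg.IsComponent K) {v : G} (hv : v ∈ Q) :
    Helper22.conjS v⁻¹ K = Helper22.conjS v K := by
  have hw : Helper22.conjS (v * v) K = K := by
    rcases h.es.sq_mem hv with e | e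
    · rw [e, Helper22.conjS_one]
    · rw [e]; exact h.conjS_z hO2 K hK
  have e : v = v⁻¹ * (v * v) := by group
  conv_rhs => rw [e, Helper22.conjS_mul, hw]

omit hO2 [Finite G] in
/-- For `x ∈ C_G(z)` and `u ∈ Q`, the commutator `x (u x⁻¹ u⁻¹)` lies in `Q`. -/
theorem LargeCtx.comm_mem {x u : G} (hx : x * z = z * x) (hu : u ∈ Q) :
    x * (u * x⁻¹ * u⁻¹) ∈ Q := by
  have h1 : x * u * x⁻¹ ∈ Q := h.normC x hx u hu
  have := Q.mul_mem h1 (Q.inv_mem hu)
  have e : x * u * x⁻¹ * u⁻¹ = x * (u * x⁻¹ * u⁻¹) := by group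
  rwa [e] at this

/-- There are at most two `Q`-conjugates of a component. -/
theorem LargeCtx.conj_cases (K : Subgroup G) (hK : Cfsg.IsComponent K) {u v : G} (hu : u ∈ Q)
    (hv : v ∈ Q) (hKu : Helper22.conjS u K ≠ K) :
    Helper22.conjS v K = K ∨ Helper22.conjS v K = Helper22.conjS u K := by
  by_contra hcon
  push Not at hcon
  obtain ⟨hv1, hv2⟩ := hcon
  have hKuC := Helper22.IsComponent.conj hK u
  have hKvC := Helper22.IsComponent.conj hK v
  have hKvuC := Helper22.IsComponent.conj hKuC v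
  have hKvu : Helper22.conjS v (Helper22.conjS u K) ≠ K := by
    intro e
    apply hv2
    have e2 : Helper22.conjS u K = Helper22.conjS v⁻¹ K := by
      have e3 := congrArg (Helper22.conjS v⁻¹) e
      rwa [Helper22.conjS_inv_conjS] at e3
    rw [e2, h.conjS_inv hO2 K hK hv]
  obtain ⟨a, haK, ha1, ha2, b, hb, hzab⟩ := h.exists_zK hO2 K hK
  have hkey : ∀ x ∈ K, x * z = z * x → x = 1 ∨ x = a := by
    intro x hxK hxz
    by_cases hx1 : x = 1
    · left; exact hx1
    right
    set x' := u * x⁻¹ * u⁻¹ with hx'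
    have hx'K : x' ∈ Helper22.conjS u K := conj_mem_map_conj K u (K.inv_mem hxK)
    have hd : x * x' ∈ Q := h.comm_mem hxz hu
    set d := x * x' with hddef
    set y := v * d⁻¹ * v⁻¹ with hy
    have hyeq : y = (v * x'⁻¹ * v⁻¹) * (v * x⁻¹ * v⁻¹) := by
      rw [hy, hddef]; group
    have hy1 : v * x'⁻¹ * v⁻¹ ∈ Helper22.conjS v (Helper22.conjS u K) :=
      conj_mem_map_conj _ v (Subgroup.inv_mem _ hx'K)
    have hy2 : v * x⁻¹ * v⁻¹ ∈ Helper22.conjS v K := conj_mem_map_conj K v (K.inv_mem hxK)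
    have hx'c : ∀ k ∈ K, x' * k = k * x' := fun k hk =>
      Helper21.component_commute_of_ne hKuC hK hKu hx'K hk
    have hyc : ∀ k ∈ K, y * k = k * y := by
      intro k hk
      have c1 := Helper21.component_commute_of_ne hKvuC hK hKvu hy1 hk
      have c2 := Helper21.component_commute_of_ne hKvC hK hv1 hy2 hk
      rw [hyeq]
      calc (v * x'⁻¹ * v⁻¹) * (v * x⁻¹ * v⁻¹) * k = (v * x'⁻¹ * v⁻¹) * ((v * x⁻¹ * v⁻¹) * k) := by
            group
        _ = (v * x'⁻¹ * v⁻¹) * (k * (v * x⁻¹ * v⁻¹)) := by rw [c2]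
        _ = ((v * x'⁻¹ * v⁻¹) * k) * (v * x⁻¹ * v⁻¹) := by group
        _ = (k * (v * x'⁻¹ * v⁻¹)) * (v * x⁻¹ * v⁻¹) := by rw [c1]
        _ = k * ((v * x'⁻¹ * v⁻¹) * (v * x⁻¹ * v⁻¹)) := by group
    have hx'yc : ∀ k ∈ K, (x' * y) * k = k * (x' * y) := by
      intro k hk
      calc (x' * y) * k = x' * (y * k) := by group
        _ = x' * (k * y) := by rw [hyc k hk]
        _ = (x' * k) * y := by group
        _ = (k * x') * y := by rw [hx'c k hk]
        _ = k * (x' * y) := by group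
    have hc : d * v * d⁻¹ * v⁻¹ = x * (x' * y) := by
      rw [hy, hddef]; group
    rcases h.es.comm d hd v hv with e | e
    · exfalso
      rw [hc] at e
      have := (h.decomp_unique hO2 K hK (a₁ := x) (a₂ := 1) (b₁ := x' * y) (b₂ := 1) hxK K.one_mem
        hx'yc (fun k _ => by simp) (by rw [e]; simp)).1
      exact hx1 this
    · rw [hc, hzab] at e
      exact (h.decomp_unique hO2 K hK hxK haK hx'yc hb e).1
  have hs := h.component_simple hO2 K hK
  have hsimple : IsSimpleGroup ↥K := hs.1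
  apply not_simple_of_centralizer_involution hs.2 (⟨a, haK⟩ : K)
    (fun e => ha1 (congrArg Subtype.val e)) (Subtype.ext ha2)
  intro x hx
  have hxa : (x : G) * a = a * x := congrArg Subtype.val hx
  have hxz : (x : G) * z = z * x := by
    rw [hzab]
    calc (x : G) * (a * b) = ((x : G) * a) * b := by group
      _ = (a * x) * b := by rw [hxa]
      _ = a * ((x : G) * b) := by group
      _ = a * (b * x) := by rw [hb x x.2]
      _ = a * b * x := by group
  rcases hkey x x.2 hxz with e | e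
  · left; exact Subtype.ext e
  · right; exact Subtype.ext e

end CaseB

end Cfsg.Agent.Helper89
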