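import Mathlib
import Cfsg.Agent.Lib.Helper89.LargeStruct2
import Cfsg.Agent.S2925

set_option autoImplicit false

namespace Cfsg.Agent.Helper89

variable {G : Type*} [Group G]

/-- Commutators in a product of two elementwise commuting subgroups. -/
theorem commutator_mul_of_commute {A B : Subgroup G} (hc : ∀ a ∈ A, ∀ b ∈ B, a * b = b * a)
    {x y x' y' : G} (hx : x ∈ A) (hy : y ∈ A) (hx' : x' ∈ B) (hy' : y' ∈ B) :
    (x * x') * (y * y') * (x * x')⁻¹ * (y * y')⁻¹ =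
      (x * y * x⁻¹ * y⁻¹) * (x' * y' * x'⁻¹ * y'⁻¹) := by
  have h1 : y * x' = x' * y := hc y hy x' hx'
  have h2 : x⁻¹ * (x' * y' * x'⁻¹) = (x' * y' * x'⁻¹) * x⁻¹ :=
    hc x⁻¹ (A.inv_mem hx) _ (B.mul_mem (B.mul_mem hx' hy') (B.inv_mem hx'))
  have h3 : y⁻¹ * (x' * y' * x'⁻¹ * y'⁻¹) = (x' * y' * x'⁻¹ * y'⁻¹) * y⁻¹ :=
    hc y⁻¹ (A.inv_mem hy) _
      (B.mul_mem (B.mul_mem (B.mul_mem hx' hy') (B.inv_mem hx')) (B.inv_mem hy'))
  calc (x * x') * (y * y') * (x * x')⁻¹ * (y * y')⁻¹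
      = x * (x' * y) * y' * x'⁻¹ * x⁻¹ * y'⁻¹ * y⁻¹ := by group
    _ = x * (y * x') * y' * x'⁻¹ * x⁻¹ * y'⁻¹ * y⁻¹ := by rw [h1]
    _ = x * y * ((x' * y' * x'⁻¹) * x⁻¹) * y'⁻¹ * y⁻¹ := by group
    _ = x * y * (x⁻¹ * (x' * y' * x'⁻¹)) * y'⁻¹ * y⁻¹ := by rw [h2]
    _ = x * y * x⁻¹ * ((x' * y' * x'⁻¹ * y'⁻¹) * y⁻¹) := by group
    _ = x * y * x⁻¹ * (y⁻¹ * (x' * y' * x'⁻¹ * y'⁻¹)) := by rw [h3]
    _ = (x * y * x⁻¹ * y⁻¹) * (x' * y' * x'⁻¹ * y'⁻¹) := by group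

section CaseB

variable [Finite G] {Q : Subgroup G} {z : G} (h : LargeCtx Q z) (hO2 : Cfsg.pCore 2 G = ⊥)
include h hO2

/-- Elements of a non-`Q`-invariant component commuting with `z` are `2`-elements. -/
theorem LargeCtx.two_elt_of_comm (K : Subgroup G) (hK : Cfsg.IsComponent K) {u : G} (hu : u ∈ Q)
    (hKu : Helper22.conjS u K ≠ K) {x : G} (hxK : x ∈ K) (hxz : x * z = z * x) :
    ∃ m : ℕ, x ^ (2 ^ m) = 1 := by
  have hKuC := Helper22.IsComponent.conj hK u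
  set x' := u * x⁻¹ * u⁻¹ with hx'
  have hx'K : x' ∈ Helper22.conjS u K := conj_mem_map_conj K u (K.inv_mem hxK)
  have hd : x * x' ∈ Q := h.comm_mem hxz hu
  obtain ⟨m, hm⟩ := h.es.pgroup ⟨x * x', hd⟩
  have hm' : (x * x') ^ (2 ^ m) = 1 := by simpa using congrArg Subtype.val hm
  have hcomm : Commute x x' :=
    (Helper21.component_commute_of_ne hKuC hK hKu hx'K hxK).symm
  rw [hcomm.mul_pow] at hm'
  refine ⟨m, ?_⟩
  have hc : ∀ k ∈ K, x' ^ (2 ^ m) * k = k * x' ^ (2 ^ m) := fun k hk =>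
    Helper21.component_commute_of_ne hKuC hK hKu (Subgroup.pow_mem _ hx'K _) hk
  exact (h.decomp_unique hO2 K hK (a₁ := x ^ (2 ^ m)) (a₂ := 1) (b₁ := x' ^ (2 ^ m)) (b₂ := 1)
    (K.pow_mem hxK _) K.one_mem hc (fun k _ => by simp) (by rw [hm']; simp)).1

/-- If `L ≠ L^u` are components then these are all the components. -/
theorem LargeCtx.two_components (L : Subgroup G) (hL : Cfsg.IsComponent L) {u : G} (hu : u ∈ Q)
    (hLu : Helper22.conjS u L ≠ L) (K' : Subgroup G) (hK' : Cfsg.IsComponent K') :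
    K' = L ∨ K' = Helper22.conjS u L := by
  obtain ⟨q, hq, e⟩ := h.component_conj hO2 L K' hL hK'
  rw [e]
  exact h.conj_cases hO2 L hL hu hq hLu

theorem LargeCtx.layer_eq_sup (L : Subgroup G) (hL : Cfsg.IsComponent L) {u : G} (hu : u ∈ Q)
    (hLu : Helper22.conjS u L ≠ L) : Cfsg.layer G = L ⊔ Helper22.conjS u L := by
  apply le_antisymm
  · unfold Cfsg.layer
    apply sSup_le
    intro K' hK'
    rcases h.two_components hO2 L hL hu hLu K' hK' with e | e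
    · rw [e]; exact le_sup_left
    · rw [e]; exact le_sup_right
  · apply sup_le
    · exact Helper21.component_le_layer hL
    · exact Helper21.component_le_layer (Helper22.IsComponent.conj hL u)

theorem LargeCtx.inf_conj_eq_bot (L : Subgroup G) (hL : Cfsg.IsComponent L) {u : G}
    (hLu : Helper22.conjS u L ≠ L) : L ⊓ Helper22.conjS u L = ⊥ := by
  rw [eq_bot_iff]
  intro x hx
  rw [Subgroup.mem_bot]
  apply h.component_cent_trivial hO2 L hL hx.1
  intro k hk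
  exact Helper21.component_commute_of_ne (Helper22.IsComponent.conj hL u) hL hLu hx.2 hk

/-- The decomposition `z = z₁ · u z₁ u⁻¹`. -/
theorem LargeCtx.z_decomp (L : Subgroup G) (hL : Cfsg.IsComponent L) {u : G} (hu : u ∈ Q)
    (hLu : Helper22.conjS u L ≠ L) :
    ∃ a ∈ L, a ≠ 1 ∧ a * a = 1 ∧ z = a * (u * a * u⁻¹) := by
  have hLuC := Helper22.IsComponent.conj hL u
  obtain ⟨a, haL, ha1, ha2, b, hb, hzab⟩ := h.exists_zK hO2 L hL
  refine ⟨a, haL, ha1, ha2, ?_⟩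
  have hcLu : ∀ l' ∈ Helper22.conjS u L, ∀ k ∈ L, l' * k = k * l' := fun l' hl' k hk =>
    Helper21.component_commute_of_ne hLuC hL hLu hl' hk
  -- z = l * l'
  have hzmem : z ∈ ((L ⊔ Helper22.conjS u L : Subgroup G) : Set G) := by
    have := h.mem_layer hO2
    rw [h.layer_eq_sup hO2 L hL hu hLu] at this
    exact this
  rw [Subgroup.coe_mul_of_left_le_normalizer_right L _
    (Helper21.component_le_normalizer_component hLuC hL), Set.mem_mul] at hzmem
  obtain ⟨l, hl, l', hl', hll'⟩ := hzmem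
  have hu1 := h.decomp_unique hO2 L hL hl haL (hcLu l' hl') hb (by rw [hll', hzab])
  have hbLu : b ∈ Helper22.conjS u L := by rw [← hu1.2]; exact hl'
  -- conjugate by u
  have huz : u * z * u⁻¹ = z := by rw [h.es.central u hu]; group
  have hua : u * a * u⁻¹ ∈ Helper22.conjS u L := conj_mem_map_conj L u haL
  have hub : u * b * u⁻¹ ∈ L := by
    have h1 : u * b * u⁻¹ ∈ Helper22.conjS u (Helper22.conjS u L) := conj_mem_map_conj _ u hbLu
    have h2 : Helper22.conjS u (Helper22.conjS u L) = L := by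
      rw [← Helper22.conjS_mul]
      rcases h.es.sq_mem hu with e | e
      · rw [e, Helper22.conjS_one]
      · rw [e]; exact h.conjS_z hO2 L hL
    rwa [h2] at h1
  have hz2 : (u * b * u⁻¹) * (u * a * u⁻¹) = a * b := by
    rw [hcLu _ hua _ hub |>.symm, ← hzab, ← huz, hzab]
    group
  have hu2 := h.decomp_unique hO2 L hL hub haL (hcLu _ hua) hb hz2
  rw [hzab, ← hu2.2]

end CaseB

end Cfsg.Agent.Helper89
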