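import Mathlib
import Cfsg.Agent.Lib.Helper89.LargeStruct3

set_option autoImplicit false

namespace Cfsg.Agent.Helper89

variable {G : Type*} [Group G]

section CaseB

variable [Finite G] {Q : Subgroup G} {z : G} (h : LargeCtx Q z) (hO2 : Cfsg.pCore 2 G = ⊥)
include h hO2

/-- Squares in `C_L(z)` lie in `{1, z₁}`. -/
theorem LargeCtx.sq_cases (L : Subgroup G) (hL : Cfsg.IsComponent L) {u : G} (hu : u ∈ Q)
    (hLu : Helper22.conjS u L ≠ L) {a : G} (haL : a ∈ L) (hza : z = a * (u * a * u⁻¹))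
    {x : G} (hxL : x ∈ L) (hxz : x * z = z * x) : x * x = 1 ∨ x * x = a := by
  have hLuC := Helper22.IsComponent.conj hL u
  have hcLu : ∀ l' ∈ Helper22.conjS u L, ∀ k ∈ L, l' * k = k * l' := fun l' hl' k hk =>
    Helper21.component_commute_of_ne hLuC hL hLu hl' hk
  set x' := u * x⁻¹ * u⁻¹ with hx'
  have hx'K : x' ∈ Helper22.conjS u L := conj_mem_map_conj L u (L.inv_mem hxL)
  have hb : u * a * u⁻¹ ∈ Helper22.conjS u L := conj_mem_map_conj L u haL
  have hd : x * x' ∈ Q := h.comm_mem hxz hu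
  have hxx' : x' * x = x * x' := hcLu x' hx'K x hxL
  have hdd : (x * x') * (x * x') = (x * x) * (x' * x') := by
    calc (x * x') * (x * x') = x * (x' * x) * x' := by group
      _ = x * (x * x') * x' := by rw [hxx']
      _ = (x * x) * (x' * x') := by group
  rcases h.es.sq_mem hd with e | e
  · left
    rw [hdd] at e
    exact (h.decomp_unique hO2 L hL (a₁ := x * x) (a₂ := 1) (b₁ := x' * x') (b₂ := 1)
      (L.mul_mem hxL hxL) L.one_mem (hcLu _ (Subgroup.mul_mem _ hx'K hx'K))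
      (fun k _ => by simp) (by rw [e]; simp)).1
  · right
    rw [hdd, hza] at e
    exact (h.decomp_unique hO2 L hL (L.mul_mem hxL hxL) haL
      (hcLu _ (Subgroup.mul_mem _ hx'K hx'K)) (hcLu _ hb) e).1

/-- Commutators in `C_L(z)` lie in `{1, z₁}`. -/
theorem LargeCtx.comm_cases (L : Subgroup G) (hL : Cfsg.IsComponent L) {u : G} (hu : u ∈ Q)
    (hLu : Helper22.conjS u L ≠ L) {a : G} (haL : a ∈ L) (hza : z = a * (u * a * u⁻¹))
    {x y : G} (hxL : x ∈ L) (hxz : x * z = z * x) (hyL : y ∈ L) (hyz : y * z = z * y) :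
    x * y * x⁻¹ * y⁻¹ = 1 ∨ x * y * x⁻¹ * y⁻¹ = a := by
  have hLuC := Helper22.IsComponent.conj hL u
  have hcLu : ∀ l' ∈ Helper22.conjS u L, ∀ k ∈ L, l' * k = k * l' := fun l' hl' k hk =>
    Helper21.component_commute_of_ne hLuC hL hLu hl' hk
  set x' := u * x⁻¹ * u⁻¹ with hx'
  set y' := u * y⁻¹ * u⁻¹ with hy'
  have hx'K : x' ∈ Helper22.conjS u L := conj_mem_map_conj L u (L.inv_mem hxL)
  have hy'K : y' ∈ Helper22.conjS u L := conj_mem_map_conj L u (L.inv_mem hyL)
  have hb : u * a * u⁻¹ ∈ Helper22.conjS u L := conj_mem_map_conj L u haL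
  have hdx : x * x' ∈ Q := h.comm_mem hxz hu
  have hdy : y * y' ∈ Q := h.comm_mem hyz hu
  have hid := commutator_mul_of_commute (A := L) (B := Helper22.conjS u L)
    (fun a ha b hb => (hcLu b hb a ha).symm) hxL hyL hx'K hy'K
  have hcL : x * y * x⁻¹ * y⁻¹ ∈ L :=
    L.mul_mem (L.mul_mem (L.mul_mem hxL hyL) (L.inv_mem hxL)) (L.inv_mem hyL)
  have hcLu' : x' * y' * x'⁻¹ * y'⁻¹ ∈ Helper22.conjS u L :=
    Subgroup.mul_mem _ (Subgroup.mul_mem _ (Subgroup.mul_mem _ hx'K hy'K)
      (Subgroup.inv_mem _ hx'K)) (Subgroup.inv_mem _ hy'K)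
  rcases h.es.comm _ hdx _ hdy with e | e
  · left
    rw [hid] at e
    exact (h.decomp_unique hO2 L hL (a₁ := x * y * x⁻¹ * y⁻¹) (a₂ := 1)
      (b₁ := x' * y' * x'⁻¹ * y'⁻¹) (b₂ := 1) hcL L.one_mem (hcLu _ hcLu')
      (fun k _ => by simp) (by rw [e]; simp)).1
  · right
    rw [hid, hza] at e
    exact (h.decomp_unique hO2 L hL hcL haL (hcLu _ hcLu') (hcLu _ hb) e).1

omit hO2 in
/-- `z` is centralized by any Sylow `2`-subgroup containing `Q`. -/
theorem LargeCtx.sylow_central (S : Sylow 2 G) (hQS : Q ≤ (S : Subgroup G)) :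
    ∀ s ∈ (S : Subgroup G), s * z = z * s := by
  have hp2 : Fact (Nat.Prime 2) := ⟨Nat.prime_two⟩
  set X : Subgroup G := (Subgroup.center ↥(S : Subgroup G)).map (S : Subgroup G).subtype with hX
  have hSnt : Nontrivial (S : Subgroup G) :=
    ⟨⟨⟨z, hQS h.es.mem⟩, 1, fun e => h.es.ne_one (congrArg Subtype.val e)⟩⟩
  have hcn := S.isPGroup'.center_nontrivial
  have hXne : X ≠ ⊥ := by
    obtain ⟨c, hc⟩ := exists_ne (1 : Subgroup.center (S : Subgroup G))
    intro hbot
    apply hc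
    have hcX : ((c : (S : Subgroup G)) : G) ∈ X := ⟨c, c.2, rfl⟩
    rw [hbot, Subgroup.mem_bot] at hcX
    apply Subtype.ext
    apply Subtype.ext
    exact hcX
  have hnorm : Q ≤ Subgroup.normalizer (X : Set G) := by
    intro q hq
    have hfix : ∀ x ∈ X, q * x * q⁻¹ = x := by
      rintro _ ⟨c, hc, rfl⟩
      have := Subgroup.mem_center_iff.mp hc ⟨q, hQS hq⟩
      have e : q * (c : G) = (c : G) * q := congrArg Subtype.val this
      show q * (c : G) * q⁻¹ = (c : G)
      rw [e]; group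
    have hfix' : ∀ x ∈ X, q⁻¹ * x * q = x := by
      intro x hx
      have := hfix x hx
      calc q⁻¹ * x * q = q⁻¹ * (q * x * q⁻¹) * q := by rw [this]
        _ = x := by group
    rw [Subgroup.mem_normalizer_iff]
    intro x
    constructor
    · intro hx; rw [hfix x hx]; exact hx
    · intro hx
      have := hfix' _ hx
      have e : q⁻¹ * (q * x * q⁻¹) * q = x := by group
      rw [e] at this
      rw [this]; exact hx
  obtain ⟨c, hc, hcz⟩ := h.mem_of_normalized X hXne hnorm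
  intro s hs
  have := Subgroup.mem_center_iff.mp hc ⟨s, hs⟩
  have e : s * (c : G) = (c : G) * s := congrArg Subtype.val this
  have hcz' : (c : G) = z := hcz
  rw [hcz'] at e
  exact e

/-- `C_L(z₁)` has odd index in `L`. -/
theorem LargeCtx.sylow_index (L : Subgroup G) (hL : Cfsg.IsComponent L) {u : G}
    (hLu : Helper22.conjS u L ≠ L) {a : G} (haL : a ∈ L) (hza : z = a * (u * a * u⁻¹)) :
    ¬ 2 ∣ ((Subgroup.centralizer ({a} : Set G)).subgroupOf L).index := by
  have hp2 : Fact (Nat.Prime 2) := ⟨Nat.prime_two⟩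
  have hLuC := Helper22.IsComponent.conj hL u
  obtain ⟨S, hQS⟩ := h.es.pgroup.exists_le_sylow
  have hSz := h.sylow_central S hQS
  have hb : u * a * u⁻¹ ∈ Helper22.conjS u L := conj_mem_map_conj L u haL
  have hle : ((S : Subgroup G) ⊓ L).subgroupOf L ≤
      (Subgroup.centralizer ({a} : Set G)).subgroupOf L := by
    intro x hx
    rw [Subgroup.mem_subgroupOf] at hx ⊢
    rw [Subgroup.mem_centralizer_singleton_iff]
    have hxz : (x : G) * z = z * x := hSz x hx.1
    have hxb : (u * a * u⁻¹) * (x : G) = x * (u * a * u⁻¹) :=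
      Helper21.component_commute_of_ne hLuC hL hLu hb x.2
    rw [hza] at hxz
    have : (x : G) * a * (u * a * u⁻¹) = a * x * (u * a * u⁻¹) := by
      calc (x : G) * a * (u * a * u⁻¹) = x * (a * (u * a * u⁻¹)) := by group
        _ = a * (u * a * u⁻¹) * x := hxz
        _ = a * ((u * a * u⁻¹) * x) := by group
        _ = a * (x * (u * a * u⁻¹)) := by rw [hxb]
        _ = a * x * (u * a * u⁻¹) := by group
    exact mul_right_cancel this
  intro hdvd
  have h1 := Subgroup.index_dvd_of_le hle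
  have h2 : 2 ∣ ((S : Subgroup G) ⊓ L).relIndex L := dvd_trans hdvd h1
  exact Cfsg.Agent.S2925.not_dvd_relIndex_inf_of_subnormal S hL.1 h2

end CaseB

end Cfsg.Agent.Helper89
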