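import Mathlib
import Cfsg.Agent.Lib.Helper89.LargeStruct4

set_option autoImplicit false

namespace Cfsg.Agent.Helper89

variable {G : Type*} [Group G]

section CaseB

variable [Finite G] {Q : Subgroup G} {z : G} (h : LargeCtx Q z) (hO2 : Cfsg.pCore 2 G = ⊥)
include h hO2

omit hO2 in
/-- Elements of `L` commuting with `z₁` commute with `z`. -/
theorem LargeCtx.comm_z_of_comm_a (L : Subgroup G) (hL : Cfsg.IsComponent L) {u : G}
    (hLu : Helper22.conjS u L ≠ L) {a : G} (haL : a ∈ L) (hza : z = a * (u * a * u⁻¹))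
    {x : G} (hxL : x ∈ L) (hxa : x * a = a * x) : x * z = z * x := by
  have hLuC := Helper22.IsComponent.conj hL u
  have hb : u * a * u⁻¹ ∈ Helper22.conjS u L := conj_mem_map_conj L u haL
  have hxb : (u * a * u⁻¹) * x = x * (u * a * u⁻¹) :=
    Helper21.component_commute_of_ne hLuC hL hLu hb hxL
  rw [hza]
  calc x * (a * (u * a * u⁻¹)) = (x * a) * (u * a * u⁻¹) := by group
    _ = (a * x) * (u * a * u⁻¹) := by rw [hxa]
    _ = a * (x * (u * a * u⁻¹)) := by group
    _ = a * ((u * a * u⁻¹) * x) := by rw [hxb]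
    _ = a * (u * a * u⁻¹) * x := by group

/-- `u² ` normalizes `L`. -/
theorem LargeCtx.conjS_conjS (L : Subgroup G) (hL : Cfsg.IsComponent L) {u : G} (hu : u ∈ Q) :
    Helper22.conjS u (Helper22.conjS u L) = L := by
  rw [← Helper22.conjS_mul]
  rcases h.es.sq_mem hu with e | e
  · rw [e, Helper22.conjS_one]
  · rw [e]; exact h.conjS_z hO2 L hL

/-- Elements of `E(G) ∩ C_G(z)` are `2`-elements. -/
theorem LargeCtx.layer_cent_two (L : Subgroup G) (hL : Cfsg.IsComponent L) {u : G} (hu : u ∈ Q)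
    (hLu : Helper22.conjS u L ≠ L) {e : G} (heL : e ∈ Cfsg.layer G) (hez : e * z = z * e) :
    ∃ m : ℕ, e ^ (2 ^ m) = 1 := by
  have hLuC := Helper22.IsComponent.conj hL u
  obtain ⟨a, haL, ha1, ha2, hza⟩ := h.z_decomp hO2 L hL hu hLu
  have hbLu : u * a * u⁻¹ ∈ Helper22.conjS u L := conj_mem_map_conj L u haL
  have hcLu : ∀ l' ∈ Helper22.conjS u L, ∀ k ∈ L, l' * k = k * l' := fun l' hl' k hk =>
    Helper21.component_commute_of_ne hLuC hL hLu hl' hk
  have hLuu := h.conjS_conjS hO2 L hL hu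
  have hLuu_ne : Helper22.conjS u (Helper22.conjS u L) ≠ Helper22.conjS u L := by
    rw [hLuu]; exact hLu.symm
  rw [h.layer_eq_sup hO2 L hL hu hLu] at heL
  have heL' : e ∈ ((L ⊔ Helper22.conjS u L : Subgroup G) : Set G) := heL
  rw [Subgroup.coe_mul_of_left_le_normalizer_right L _
    (Helper21.component_le_normalizer_component hLuC hL), Set.mem_mul] at heL'
  obtain ⟨l, hl, l', hl', hll'⟩ := heL'
  set b := u * a * u⁻¹ with hb
  have hA : l * a * l⁻¹ ∈ L := L.mul_mem (L.mul_mem hl haL) (L.inv_mem hl)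
  have hB : l' * b * l'⁻¹ ∈ Helper22.conjS u L :=
    Subgroup.mul_mem _ (Subgroup.mul_mem _ hl' hbLu) (Subgroup.inv_mem _ hl')
  have h1 : (l' * b * l'⁻¹) * l⁻¹ = l⁻¹ * (l' * b * l'⁻¹) := hcLu _ hB _ (L.inv_mem hl)
  have h2 : l' * a = a * l' := hcLu _ hl' _ haL
  have hconj : (l * a * l⁻¹) * (l' * b * l'⁻¹) = a * b := by
    have h3 : e * z * e⁻¹ = z := by rw [hez]; group
    calc (l * a * l⁻¹) * (l' * b * l'⁻¹) = l * a * (l⁻¹ * (l' * b * l'⁻¹)) := by group
      _ = l * a * ((l' * b * l'⁻¹) * l⁻¹) := by rw [h1]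
      _ = l * (a * l') * b * l'⁻¹ * l⁻¹ := by group
      _ = l * (l' * a) * b * l'⁻¹ * l⁻¹ := by rw [h2]
      _ = (l * l') * (a * b) * (l * l')⁻¹ := by group
      _ = e * z * e⁻¹ := by rw [hll', ← hza]
      _ = z := h3
      _ = a * b := hza
  have hu1 := h.decomp_unique hO2 L hL hA haL (hcLu _ hB) (hcLu _ hbLu) hconj
  have hla : l * a = a * l := by
    calc l * a = (l * a * l⁻¹) * l := by group
      _ = a * l := by rw [hu1.1]
  have hl'b : l' * b = b * l' := by
    calc l' * b = (l' * b * l'⁻¹) * l' := by group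
      _ = b * l' := by rw [hu1.2]
  have hlz : l * z = z * l := h.comm_z_of_comm_a L hL hLu haL hza hl hla
  have hl'z : l' * z = z * l' := by
    rw [hza]
    calc l' * (a * b) = (l' * a) * b := by group
      _ = (a * l') * b := by rw [h2]
      _ = a * (l' * b) := by group
      _ = a * (b * l') := by rw [hl'b]
      _ = a * b * l' := by group
  obtain ⟨m, hm⟩ := h.two_elt_of_comm hO2 L hL hu hLu hl hlz
  obtain ⟨m', hm'⟩ := h.two_elt_of_comm hO2 _ hLuC hu hLuu_ne hl' hl'z
  have hcomm : Commute l l' := (hcLu l' hl' l hl).symm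
  refine ⟨m + m', ?_⟩
  rw [← hll', hcomm.mul_pow, pow_add, pow_mul, hm, one_pow, one_mul, mul_comm (2 ^ m) (2 ^ m'),
    pow_mul, hm', one_pow]

/-- In the two-component case, `Q` is not `O₂(C_G(z))`. -/
theorem LargeCtx.ne_pcore (L : Subgroup G) (hL : Cfsg.IsComponent L) {u : G} (hu : u ∈ Q)
    (hLu : Helper22.conjS u L ≠ L) :
    Q ≠ (Cfsg.pCore 2 ↥(Subgroup.centralizer ({z} : Set G))).map
      (Subgroup.centralizer ({z} : Set G)).subtype := by
  intro hQeq
  have hLuC := Helper22.IsComponent.conj hL u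
  obtain ⟨a, haL, ha1, ha2, hza⟩ := h.z_decomp hO2 L hL hu hLu
  have hbLu : u * a * u⁻¹ ∈ Helper22.conjS u L := conj_mem_map_conj L u haL
  have hcLu : ∀ l' ∈ Helper22.conjS u L, ∀ k ∈ L, l' * k = k * l' := fun l' hl' k hk =>
    Helper21.component_commute_of_ne hLuC hL hLu hl' hk
  have hLn : (Cfsg.layer G).Normal := by
    rw [← h.gfs_eq_layer hO2]; infer_instance
  have hTn : ((Cfsg.layer G).subgroupOf (Subgroup.centralizer ({z} : Set G))).Normal :=
    hLn.subgroupOf _
  have hTp : IsPGroup 2 ((Cfsg.layer G).subgroupOf (Subgroup.centralizer ({z} : Set G))) := by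
    rintro ⟨⟨e, heC⟩, heL⟩
    rw [Subgroup.mem_subgroupOf] at heL
    obtain ⟨m, hm⟩ := h.layer_cent_two hO2 L hL hu hLu heL
      (Subgroup.mem_centralizer_singleton_iff.mp heC)
    refine ⟨m, ?_⟩
    apply Subtype.ext
    apply Subtype.ext
    simpa using hm
  have hTle := Helper22.le_pCore hTn hTp
  have hkey : ∀ x ∈ L, x * a = a * x → x = 1 ∨ x = a := by
    intro x hxL hxa
    have hxz := h.comm_z_of_comm_a L hL hLu haL hza hxL hxa
    have hxC : x ∈ Subgroup.centralizer ({z} : Set G) :=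
      Subgroup.mem_centralizer_singleton_iff.mpr hxz
    have hxT : (⟨x, hxC⟩ : ↥(Subgroup.centralizer ({z} : Set G))) ∈
        (Cfsg.layer G).subgroupOf (Subgroup.centralizer ({z} : Set G)) := by
      rw [Subgroup.mem_subgroupOf]
      exact Helper21.component_le_layer hL hxL
    have hxQ : x ∈ Q := by
      rw [hQeq]
      exact ⟨⟨x, hxC⟩, hTle hxT, rfl⟩
    have hx'K : u * x⁻¹ * u⁻¹ ∈ Helper22.conjS u L := conj_mem_map_conj L u (L.inv_mem hxL)
    have e0 : x * u * x⁻¹ * u⁻¹ = x * (u * x⁻¹ * u⁻¹) := by group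
    rcases h.es.comm x hxQ u hu with e | e
    · left
      rw [e0] at e
      exact (h.decomp_unique hO2 L hL (a₁ := x) (a₂ := 1) (b₁ := u * x⁻¹ * u⁻¹) (b₂ := 1)
        hxL L.one_mem (hcLu _ hx'K) (fun k _ => by simp) (by rw [e]; simp)).1
    · right
      rw [e0, hza] at e
      exact (h.decomp_unique hO2 L hL hxL haL (hcLu _ hx'K) (hcLu _ hbLu) e).1
  have hs := h.component_simple hO2 L hL
  have hsimple : IsSimpleGroup ↥L := hs.1
  apply not_simple_of_centralizer_involution hs.2 (⟨a, haL⟩ : L)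
  · intro e
    exact ha1 (congrArg Subtype.val e)
  · apply Subtype.ext
    exact ha2
  · intro x hx
    have hxa : (x : G) * a = a * x := congrArg Subtype.val hx
    rcases hkey x x.2 hxa with e | e
    · left; exact Subtype.ext e
    · right; exact Subtype.ext e

end CaseB

end Cfsg.Agent.Helper89
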