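import Mathlib
import Cfsg.Agent.Lib.Helper89.LargeStruct5
import Cfsg.Agent.Lib.Helper47.Frat

set_option autoImplicit false

namespace Cfsg.Agent.Helper89

variable {G : Type*} [Group G]

/-- A subgroup `P` of `L` whose squares and commutators lie in `{1, a}` with `a` central has
Frattini subgroup inside `⟨a⟩`. -/
theorem frattini_map_le_zpowers [Finite G] {L : Subgroup G} (P : Subgroup ↥L) (a : G)
    (hca : ∀ x ∈ P, ((x : ↥L) : G) * a = a * x)
    (hsq : ∀ x ∈ P, ((x : ↥L) : G) * x = 1 ∨ ((x : ↥L) : G) * x = a)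
    (hcomm : ∀ x ∈ P, ∀ y ∈ P, ((x : ↥L) : G) * y * ((x : ↥L) : G)⁻¹ * ((y : ↥L) : G)⁻¹ = 1 ∨
      ((x : ↥L) : G) * y * ((x : ↥L) : G)⁻¹ * ((y : ↥L) : G)⁻¹ = a) :
    (frattini ↥P).map ((L.subtype).comp P.subtype) ≤ Subgroup.zpowers a := by
  have hp2 : Fact (Nat.Prime 2) := ⟨Nat.prime_two⟩
  set f : ↥P →* G := (L.subtype).comp P.subtype with hf
  set N : Subgroup ↥P := (Subgroup.zpowers a).comap f with hN
  have hNn : N.Normal := by
    constructor
    intro n hn x
    rw [hN, Subgroup.mem_comap] at hn ⊢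
    have hx : f x * a = a * f x := hca x.1 x.2
    have hcx : ∀ w ∈ Subgroup.zpowers a, f x * w * (f x)⁻¹ = w := by
      intro w hw
      obtain ⟨k, rfl⟩ := Subgroup.mem_zpowers_iff.mp hw
      have hc : Commute (f x) a := hx
      have := (hc.zpow_right k).eq
      rw [this]; group
    rw [map_mul, map_mul, map_inv, hcx _ hn]
    exact hn
  have h1mem : ∀ w : G, w = 1 ∨ w = a → w ∈ Subgroup.zpowers a := by
    intro w hw
    rcases hw with e | e
    · rw [e]; exact Subgroup.one_mem _
    · rw [e]; exact Subgroup.mem_zpowers a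
  have hle := Helper47.frattini_le_ker_of_elementary (p := 2) (QuotientGroup.mk' N)
    (by
      intro x y
      rw [← map_mul, ← map_mul]
      apply (QuotientGroup.eq).mpr
      rw [hN, Subgroup.mem_comap]
      have := hcomm y⁻¹.1 y⁻¹.2 x⁻¹.1 x⁻¹.2
      have e : f ((x * y)⁻¹ * (y * x)) =
          (((y⁻¹ : ↥P) : ↥L) : G) * (((x⁻¹ : ↥P) : ↥L) : G) * ((((y⁻¹ : ↥P) : ↥L) : G))⁻¹ *
            ((((x⁻¹ : ↥P) : ↥L) : G))⁻¹ := by
        simp only [hf, MonoidHom.coe_comp, Function.comp_apply, Subgroup.coe_subtype,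
          Subgroup.coe_mul, Subgroup.coe_inv]
        group
      rw [e]
      exact h1mem _ this)
    (by
      intro x
      rw [← map_pow]
      apply (QuotientGroup.eq_one_iff _).mpr
      rw [hN, Subgroup.mem_comap]
      have := hsq x.1 x.2
      have e : f (x ^ 2) = ((x : ↥L) : G) * ((x : ↥L) : G) := by
        simp only [hf, MonoidHom.coe_comp, Function.comp_apply, Subgroup.coe_subtype,
          Subgroup.coe_pow]
        rw [pow_two]
      rw [e]
      exact h1mem _ this)
  rw [QuotientGroup.ker_mk'] at hle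
  rintro _ ⟨x, hx, rfl⟩
  exact hle hx

section CaseB

variable [Finite G] {Q : Subgroup G} {z : G} (h : LargeCtx Q z) (hO2 : Cfsg.pCore 2 G = ⊥)
include h hO2

theorem LargeCtx.exists_component : ∃ K : Subgroup G, Cfsg.IsComponent K := by
  by_contra hcon
  push Not at hcon
  have hbot := Helper22.layer_eq_bot_iff.mpr hcon
  have hz := h.mem_layer hO2
  rw [hbot, Subgroup.mem_bot] at hz
  exact h.es.ne_one hz

/-- If `Q` fixes a component, that component is the whole layer. -/
theorem LargeCtx.caseB_one (K : Subgroup G) (hK : Cfsg.IsComponent K)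
    (hfix : ∀ q ∈ Q, Helper22.conjS q K = K) : Cfsg.layer G = K := by
  apply le_antisymm
  · unfold Cfsg.layer
    apply sSup_le
    intro K' hK'
    obtain ⟨q, hq, e⟩ := h.component_conj hO2 K K' hK hK'
    rw [e, hfix q hq]
  · exact Helper21.component_le_layer hK

/-- The two-component case. -/
theorem LargeCtx.caseB_two (L : Subgroup G) (hL : Cfsg.IsComponent L) {u : G} (hu : u ∈ Q)
    (hLu : Helper22.conjS u L ≠ L) :
    IsSimpleGroup ↥L ∧ ¬ IsMulCommutative ↥L ∧
      L ⊓ (L).map (MulAut.conj u).toMonoidHom = ⊥ ∧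
      (∀ x ∈ L, ∀ y ∈ (L).map (MulAut.conj u).toMonoidHom, x * y = y * x) ∧
      L ⊔ (L).map (MulAut.conj u).toMonoidHom = Subgroup.normalClosure ({z} : Set G) ∧
      ∃ z₁ ∈ L, z = z₁ * (u * z₁ * u⁻¹) ∧
        (∃ R : Sylow 2 ↥L, (R : Subgroup ↥L) =
            (Subgroup.centralizer ({z₁} : Set G)).subgroupOf L ∧
          (frattini ↥(R : Subgroup ↥L)).map ((L.subtype).comp (R : Subgroup ↥L).subtype) ≤
            Subgroup.zpowers z₁) ∧
        Q ≠ (Cfsg.pCore 2 ↥(Subgroup.centralizer ({z} : Set G))).map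
          (Subgroup.centralizer ({z} : Set G)).subtype := by
  have hp2 : Fact (Nat.Prime 2) := ⟨Nat.prime_two⟩
  have hLuC := Helper22.IsComponent.conj hL u
  have hs := h.component_simple hO2 L hL
  refine ⟨hs.1, hs.2, h.inf_conj_eq_bot hO2 L hL hLu, ?_, ?_, ?_⟩
  · intro x hx y hy
    exact (Helper21.component_commute_of_ne hLuC hL hLu hy hx).symm
  · rw [h.normalClosure_eq_layer hO2, h.layer_eq_sup hO2 L hL hu hLu]
  · obtain ⟨a, haL, ha1, ha2, hza⟩ := h.z_decomp hO2 L hL hu hLu
    refine ⟨a, haL, hza, ?_, h.ne_pcore hO2 L hL hu hLu⟩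
    have hP1 : IsPGroup 2 ((Subgroup.centralizer ({a} : Set G)).subgroupOf L) := by
      rintro ⟨x, hx⟩
      rw [Subgroup.mem_subgroupOf, Subgroup.mem_centralizer_singleton_iff] at hx
      have hxz := h.comm_z_of_comm_a L hL hLu haL hza x.2 hx
      obtain ⟨m, hm⟩ := h.two_elt_of_comm hO2 L hL hu hLu x.2 hxz
      refine ⟨m, ?_⟩
      apply Subtype.ext
      apply Subtype.ext
      simpa using hm
    have hP2 := h.sylow_index hO2 L hL hLu haL hza
    refine ⟨hP1.toSylow hP2, IsPGroup.toSylow_coe hP1 hP2, ?_⟩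
    apply frattini_map_le_zpowers
    · intro x hx
      rw [IsPGroup.toSylow_coe hP1 hP2, Subgroup.mem_subgroupOf,
        Subgroup.mem_centralizer_singleton_iff] at hx
      exact hx
    · intro x hx
      rw [IsPGroup.toSylow_coe hP1 hP2, Subgroup.mem_subgroupOf,
        Subgroup.mem_centralizer_singleton_iff] at hx
      exact h.sq_cases hO2 L hL hu hLu haL hza x.2
        (h.comm_z_of_comm_a L hL hLu haL hza x.2 hx)
    · intro x hx y hy
      rw [IsPGroup.toSylow_coe hP1 hP2, Subgroup.mem_subgroupOf,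
        Subgroup.mem_centralizer_singleton_iff] at hx hy
      exact h.comm_cases hO2 L hL hu hLu haL hza x.2
        (h.comm_z_of_comm_a L hL hLu haL hza x.2 hx) y.2
        (h.comm_z_of_comm_a L hL hLu haL hza y.2 hy)

end CaseB

end Cfsg.Agent.Helper89
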