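import Mathlib
import Cfsg.Agent.Lib.Helper89.AGL.Full
import Cfsg.Agent.Lib.Helper26.OctadSplit
import Cfsg.Agent.Lib.Helper26.GolayCount
import Cfsg.Agent.Lib.Helper5.PSL4A8

set_option autoImplicit false
set_option linter.unusedSimpArgs false
set_option linter.unusedSectionVars false

namespace Cfsg.Agent.Helper89.M24Oct

/-- The octad stabilizer in `M24` as an abstract affine group `AGL_4(2)`, with a given octad
involution as first basis translation. -/
theorem octad_setup (z : ↥Cfsg.M24) (hz : orderOf z = 2) (o : Finset Cfsg.GolayPt)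
    (ho : o ∈ Cfsg.octads) (hmem_o : ∀ q, q ∈ o ↔ (z : Equiv.Perm Cfsg.GolayPt) q = q) :
    ∃ (S : Cfsg.Agent.Helper89.AGL.Setup ↥(Cfsg.Agent.Helper26.setStabM o) 3)
      (z₀ : ↥(Cfsg.Agent.Helper26.setStabM o)) (hz₀ : z₀ ∈ S.U),
      S.c.e ⟨z₀, hz₀⟩ = Pi.single 0 1 ∧ IsPGroup 2 ↥S.U ∧
      (z₀ : Equiv.Perm Cfsg.GolayPt) = z ∧
      ∀ c : ↥Cfsg.M24, c * z = z * c →
        (c : Equiv.Perm Cfsg.GolayPt) ∈ Cfsg.Agent.Helper26.setStabM o := by
  classical
  have : Fact (Nat.Prime 2) := ⟨Nat.prime_two⟩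
  have hcard_o : o.card = 8 := Cfsg.Agent.Helper26.card_of_mem_octads ho
  have hcard24 : (Finset.univ : Finset Cfsg.GolayPt).card = 24 := by
    rw [Finset.card_univ]
    simp [Cfsg.GolayPt]
  obtain ⟨p, hp⟩ : ∃ p, p ∉ o := by
    by_contra h
    push Not at h
    have h1 : (Finset.univ : Finset Cfsg.GolayPt) ⊆ o := fun q _ => h q
    have h2 := Finset.card_le_card h1
    omega
  have hzfix : (z : Equiv.Perm Cfsg.GolayPt) ∈ Cfsg.Agent.Helper7.octFix o :=
    Cfsg.Agent.Helper7.mem_octFix.mpr ⟨z.2, fun q hq => (hmem_o q).mp hq⟩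
  have hz_set : (z : Equiv.Perm Cfsg.GolayPt) ∈ Cfsg.Agent.Helper26.setStabM o :=
    Cfsg.Agent.Helper26.octFix_le_setStabM o hzfix
  set U : Subgroup ↥(Cfsg.Agent.Helper26.setStabM o) :=
    (Cfsg.Agent.Helper7.octFix o).subgroupOf (Cfsg.Agent.Helper26.setStabM o) with hUdef
  set M : Subgroup ↥(Cfsg.Agent.Helper26.setStabM o) :=
    (Cfsg.Agent.Helper26.flagStabM o p).subgroupOf (Cfsg.Agent.Helper26.setStabM o) with hMdef
  have hUn : U.Normal := by
    rw [hUdef, ← Cfsg.Agent.Helper26.resHom_ker o]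
    exact MonoidHom.normal_ker _
  have hsq : ∀ a : ↥U, a * a = 1 := by
    intro a
    apply Subtype.ext
    apply Subtype.ext
    exact (Cfsg.Agent.Helper7.octFix_spec ho).2 _ (Subgroup.mem_subgroupOf.mp a.2)
  have hinv : ∀ a : ↥U, a⁻¹ = a := fun a => inv_eq_of_mul_eq_one_right (hsq a)
  have hcomm : ∀ a b : ↥U, a * b = b * a := by
    intro a b
    have h1 := hinv (a * b)
    rw [mul_inv_rev, hinv a, hinv b] at h1
    exact h1.symm
  have hexp : ∀ a : ↥U, a ^ 2 = 1 := fun a => by rw [pow_two]; exact hsq a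
  have hUcard : Nat.card ↥U = 2 ^ (3 + 1) := by
    rw [Nat.card_congr (Subgroup.subgroupOfEquivOfLe
      (Cfsg.Agent.Helper26.octFix_le_setStabM o)).toEquiv, (Cfsg.Agent.Helper7.octFix_spec ho).1]
    norm_num
  set z₀ : ↥(Cfsg.Agent.Helper26.setStabM o) := ⟨z, hz_set⟩ with hz₀def
  have hz₀U : z₀ ∈ U := Subgroup.mem_subgroupOf.mpr hzfix
  have hzne : z ≠ 1 := by
    intro h
    rw [h, orderOf_one] at hz
    omega
  have hz₀ne : (⟨z₀, hz₀U⟩ : ↥U) ≠ 1 := by
    intro h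
    apply hzne
    apply Subtype.ext
    exact congrArg (fun x : ↥U =>
      ((x : ↥(Cfsg.Agent.Helper26.setStabM o)) : Equiv.Perm Cfsg.GolayPt)) h
  obtain ⟨ξ, hξ, hξz⟩ := Cfsg.Agent.Helper89.AGL.exists_coord hcomm hexp 3 hUcard ⟨z₀, hz₀U⟩ hz₀ne
  have hinf : U ⊓ M = ⊥ := by
    rw [eq_bot_iff]
    rintro x ⟨hxU, hxM⟩
    have h1 : (x : Equiv.Perm Cfsg.GolayPt) ∈
        Cfsg.Agent.Helper7.octFix o ⊓ Cfsg.Agent.Helper26.flagStabM o p :=
      ⟨Subgroup.mem_subgroupOf.mp hxU, Subgroup.mem_subgroupOf.mp hxM⟩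
    rw [Cfsg.Agent.Helper26.octFix_inf_flagStabM ho hp, Subgroup.mem_bot] at h1
    rw [Subgroup.mem_bot]
    exact Subtype.ext h1
  have hsup : U ⊔ M = ⊤ := by
    rw [hUdef, hMdef, ← Subgroup.subgroupOf_sup (Cfsg.Agent.Helper26.octFix_le_setStabM o)
      (Cfsg.Agent.Helper26.flagStabM_le o p), Cfsg.Agent.Helper26.octFix_sup_flagStabM ho hp,
      Subgroup.subgroupOf_self]
  have hle : Cfsg.Agent.Helper26.setStabM o ≤ Cfsg.M24 := inf_le_left
  have hfaith : ∀ m ∈ M, (∀ u ∈ U, m * u * m⁻¹ = u) → m = 1 := by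
    intro m hm hcent
    have hmflag := Cfsg.Agent.Helper26.mem_flagStabM.mp (Subgroup.mem_subgroupOf.mp hm)
    have step1 : ∀ q, q ∉ o → (m : Equiv.Perm Cfsg.GolayPt) q = q := by
      intro q hq
      obtain ⟨k, hk, hkq⟩ := Cfsg.Agent.Helper26.octFix_trans ho hp hq
      have h1 := hcent ⟨k, Cfsg.Agent.Helper26.octFix_le_setStabM o hk⟩
        (Subgroup.mem_subgroupOf.mpr hk)
      rw [mul_inv_eq_iff_eq_mul] at h1
      have h2 := congrArg (fun x : ↥(Cfsg.Agent.Helper26.setStabM o) =>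
        (x : Equiv.Perm Cfsg.GolayPt) p) h1
      simp only [Subgroup.coe_mul, Equiv.Perm.mul_apply] at h2
      rw [hkq, hmflag.2] at h2
      rw [h2, hkq]
    obtain ⟨o', ho'mem⟩ : (Cfsg.Agent.Helper26.octadFinset.filter
        (fun o' => Disjoint o o')).Nonempty := by
      rw [← Finset.card_pos, Cfsg.Agent.Helper26.card_disjoint_octads ho]
      norm_num
    rw [Finset.mem_filter, Cfsg.Agent.Helper26.mem_octadFinset] at ho'mem
    obtain ⟨ho', hdisj⟩ := ho'mem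
    have hmfix : (m : Equiv.Perm Cfsg.GolayPt) ∈ Cfsg.Agent.Helper7.octFix o' := by
      rw [Cfsg.Agent.Helper7.mem_octFix]
      refine ⟨hle m.2, fun q hq => step1 q (fun hqo => ?_)⟩
      exact Finset.disjoint_left.mp hdisj hqo hq
    obtain ⟨q, hq⟩ : ∃ q, q ∉ o ∪ o' := by
      by_contra h
      push Not at h
      have h1 : (Finset.univ : Finset Cfsg.GolayPt) ⊆ o ∪ o' := fun q _ => h q
      have h2 := Finset.card_le_card h1
      have h3 := Finset.card_union_le o o'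
      have h4 : o'.card = 8 := Cfsg.Agent.Helper26.card_of_mem_octads ho'
      omega
    rw [Finset.mem_union, not_or] at hq
    have := Cfsg.Agent.Helper26.octFix_semiregular ho' hmfix hq.2 (step1 q hq.1)
    exact Subtype.ext this
  have hMcard : Nat.card (Cfsg.Agent.Helper89.TV.SLn (3 + 1)) ≤ Nat.card ↥M := by
    obtain ⟨e1⟩ := Cfsg.Agent.Helper26.flagStabM_equiv ho hp
    obtain ⟨e2⟩ := Cfsg.Agent.Helper5.sl4_equiv_alternating
    have e3 : ↥M ≃* ↥(Cfsg.Agent.Helper26.flagStabM o p) :=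
      Subgroup.subgroupOfEquivOfLe (Cfsg.Agent.Helper26.flagStabM_le o p)
    exact (Nat.card_congr ((e3.trans e1).trans e2.symm).toEquiv).ge
  have hfull := Cfsg.Agent.Helper89.AGL.full_of_card (U := U) (M := M) (c := ⟨ξ, hξ⟩) hfaith hMcard
  let S : Cfsg.Agent.Helper89.AGL.Setup ↥(Cfsg.Agent.Helper26.setStabM o) 3 :=
    { U := U
      M := M
      normal := hUn
      comm := hcomm
      inf := hinf
      sup := hsup
      c := ⟨ξ, hξ⟩
      faith := hfaith
      full := hfull }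
  have hU2 : IsPGroup 2 ↥U := IsPGroup.of_card hUcard
  refine ⟨S, z₀, hz₀U, hξz, hU2, rfl, ?_⟩
  intro c hc'
  refine Cfsg.Agent.Helper26.mem_setStabM.mpr ⟨c.2, fun x => ?_⟩
  rw [hmem_o, hmem_o]
  have key : (z : Equiv.Perm Cfsg.GolayPt) ((c : Equiv.Perm Cfsg.GolayPt) x) =
      (c : Equiv.Perm Cfsg.GolayPt) ((z : Equiv.Perm Cfsg.GolayPt) x) := by
    have h1 := congrArg (fun g : ↥Cfsg.M24 => (g : Equiv.Perm Cfsg.GolayPt) x) hc'
    simp only [Subgroup.coe_mul, Equiv.Perm.mul_apply] at h1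
    exact h1.symm
  rw [key]
  exact (c : Equiv.Perm Cfsg.GolayPt).injective.eq_iff

end Cfsg.Agent.Helper89.M24Oct
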