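import Mathlib
import Cfsg.Agent.Lib.Helper89.FixSub
import Cfsg.Agent.Lib.Helper89.TwistRank
import Cfsg.Agent.S5395

set_option autoImplicit false

namespace Cfsg.Agent.Helper89

variable {G : Type*} [Group G] {H : Subgroup G} {z : G}

/-- An element acting trivially on `H/⟨z⟩` (for a self-centralizing normal extraspecial `H`)
lies in `H`. -/
theorem ES.mem_of_fix_all [Finite G] [hn : H.Normal] (h : ES H z)
    (hExt : Cfsg.IsExtraspecial 2 ↥H)
    (hcent : Subgroup.centralizer (H : Set G) ≤ H) (g : G)
    (hall : ∀ x ∈ H, g * x * g⁻¹ * x⁻¹ ∈ Subgroup.zpowers z) : g ∈ H := by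
  have hφ : ∀ x : H, (MulAut.conjNormal g : MulAut H) x * x⁻¹ ∈ Subgroup.center ↥H := by
    intro x
    rw [Subgroup.mem_center_iff]
    intro y
    apply Subtype.ext
    have hval : (((MulAut.conjNormal g : MulAut H) x * x⁻¹ : H) : G) = g * x * g⁻¹ * (x : G)⁻¹ := by
      simp [MulAut.conjNormal_apply]
    show (y : G) * (((MulAut.conjNormal g : MulAut H) x * x⁻¹ : H) : G) =
      (((MulAut.conjNormal g : MulAut H) x * x⁻¹ : H) : G) * (y : G)
    rw [hval]
    rcases mem_zpowers_of_sq h.sq (hall x x.2) with e | e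
    · rw [e]; simp
    · rw [e]; exact h.central y y.2
  obtain ⟨a, ha⟩ := Cfsg.Agent.S5395.result hExt (MulAut.conjNormal g : MulAut H) hφ
  have hmem : (a : G)⁻¹ * g ∈ Subgroup.centralizer (H : Set G) := by
    rw [Subgroup.mem_centralizer_iff]
    intro x hx
    have := congrArg (fun y : H => (y : G)) (ha ⟨x, hx⟩)
    simp only [MulAut.conjNormal_apply, Subgroup.coe_mul, Subgroup.coe_inv] at this
    -- this : g * x * g⁻¹ = a * x * a⁻¹
    calc x * ((a : G)⁻¹ * g) = (a : G)⁻¹ * ((a : G) * x * (a : G)⁻¹) * g := by group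
      _ = (a : G)⁻¹ * (g * x * g⁻¹) * g := by rw [this]
      _ = (a : G)⁻¹ * g * x := by group
  have := H.mul_mem a.2 (hcent hmem)
  simpa using this

/-- An element of order `5` acting on a self-centralizing normal extraspecial group of order `32`
fixes no nontrivial element of `H/⟨z⟩`. -/
theorem ES.fix_order_five [Finite G] [hn : H.Normal] (h : ES H z)
    (hzc : ∀ g : G, g * z = z * g) (h32 : Nat.card H = 32)
    (hcent : Subgroup.centralizer (H : Set G) ≤ H) (f : G) (hf : orderOf f = 5) :
    ∀ x ∈ fixSub H z hzc f, x = 1 ∨ x = z := by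
  have : Fact (Nat.Prime 5) := ⟨by norm_num⟩
  have hfH : f ∉ H := by
    intro hfH
    have h1 : orderOf (⟨f, hfH⟩ : H) ∣ Nat.card H := orderOf_dvd_natCard _
    rw [Subgroup.orderOf_mk, hf, h32] at h1
    norm_num at h1
  intro x hx
  -- f centralizes x
  have hfx : f * x * f⁻¹ = x := by
    rcases mem_zpowers_of_sq h.sq hx.2 with e | e
    · have := comm_of_commutator_eq_one e
      rw [this]; group
    · exfalso
      have e1 : f * x * f⁻¹ = z * x := conj_eq_of_commutator_eq e
      have key : ∀ n : ℕ, f ^ n * x * (f ^ n)⁻¹ = z ^ n * x := by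
        intro n
        induction n with
        | zero => simp
        | succ n ih =>
          have hzn : f * z ^ n = z ^ n * f := by
            have hle : Subgroup.zpowers z ≤ Subgroup.centralizer ({f} : Set G) := by
              rw [Subgroup.zpowers_le, Subgroup.mem_centralizer_singleton_iff]
              exact (hzc f).symm
            have hm : z ^ n ∈ Subgroup.zpowers z := Subgroup.pow_mem _ (Subgroup.mem_zpowers z) n
            exact (Subgroup.mem_centralizer_singleton_iff.mp (hle hm)).symm
          calc f ^ (n + 1) * x * (f ^ (n + 1))⁻¹ = f * (f ^ n * x * (f ^ n)⁻¹) * f⁻¹ := by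
                rw [pow_succ']; group
            _ = f * (z ^ n * x) * f⁻¹ := by rw [ih]
            _ = (f * z ^ n) * x * f⁻¹ := by group
            _ = (z ^ n * f) * x * f⁻¹ := by rw [hzn]
            _ = z ^ n * (f * x * f⁻¹) := by group
            _ = z ^ n * (z * x) := by rw [e1]
            _ = z ^ (n + 1) * x := by rw [pow_succ]; group
      have h5 := key 5
      rw [← hf, pow_orderOf_eq_one] at h5
      have hz5 : z ^ (orderOf f) = z := by
        rw [hf]
        have : z ^ 5 = (z * z) * (z * z) * z := by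
          simp only [pow_succ, pow_zero, one_mul, mul_assoc]
        rw [this, h.sq]; simp
      rw [hz5] at h5
      apply h.ne_one
      have : x = z * x := by simpa using h5
      calc z = (z * x) * x⁻¹ := by group
        _ = x * x⁻¹ := by rw [← this]
        _ = 1 := by group
  -- count
  have hmod := card_modEq_card_inf_centralizer H f
    (by rw [Subgroup.normalizer_eq_top]; exact Subgroup.mem_top f) 5
    (by
      apply IsPGroup.of_card (n := 1)
      rw [Nat.card_zpowers, hf, pow_one])
  set S : Subgroup G := H ⊓ Subgroup.centralizer ({f} : Set G) with hS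
  have hSH : S ≤ H := inf_le_left
  have hdvd : Nat.card S ∣ 32 := by
    rw [← h32]; exact Subgroup.card_dvd_of_le hSH
  have hne32 : Nat.card S ≠ 32 := by
    intro e
    have hEq : S = H := Subgroup.eq_of_le_of_card_ge hSH (by rw [e, h32])
    apply hfH
    apply hcent
    rw [Subgroup.mem_centralizer_iff]
    intro y hy
    have : y ∈ S := by rw [hEq]; exact hy
    exact (Subgroup.mem_centralizer_singleton_iff.mp this.2)
  have hS2 : Nat.card S = 2 := by
    have hm : 32 % 5 = Nat.card S % 5 := by
      have := hmod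
      rw [h32] at this
      exact this
    have hle : Nat.card S ≤ 32 := Nat.le_of_dvd (by norm_num) hdvd
    have hpos : 0 < Nat.card S := Nat.card_pos
    interval_cases hc : Nat.card S <;> simp_all
  have hzS : z ∈ S := ⟨h.mem, by
    show z ∈ Subgroup.centralizer ({f} : Set G)
    rw [Subgroup.mem_centralizer_singleton_iff]; exact (hzc f).symm⟩
  have hxS : x ∈ S := ⟨hx.1, by
    show x ∈ Subgroup.centralizer ({f} : Set G)
    rw [Subgroup.mem_centralizer_singleton_iff]
    calc x * f = (f * x * f⁻¹) * f := by rw [hfx]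
      _ = f * x := by group⟩
  have hzS1 : (⟨z, hzS⟩ : S) ≠ 1 := by
    intro e
    apply h.ne_one
    exact congrArg Subtype.val e
  rcases card_two_cases' hS2 ⟨z, hzS⟩ hzS1 ⟨x, hxS⟩ with e | e
  · left; exact congrArg Subtype.val e
  · right; exact congrArg Subtype.val e

theorem card_mul_relIndex_of_le {K L : Subgroup G} (hKL : K ≤ L) :
    Nat.card K * K.relIndex L = Nat.card L := by
  have := Subgroup.relIndex_mul_relIndex ⊥ K L bot_le hKL
  rwa [Subgroup.relIndex_bot_left, Subgroup.relIndex_bot_left] at this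

theorem card_le_two_of_forall {S : Subgroup G} (hS : ∀ x ∈ S, x = 1 ∨ x = z) : Nat.card S ≤ 2 := by
  classical
  have hinj : Function.Injective (fun w : S => decide ((w : G) = 1)) := by
    intro w w' hww
    apply Subtype.ext
    simp only [decide_eq_decide] at hww
    rcases hS w w.2 with e | e <;> rcases hS w' w'.2 with e' | e'
    · rw [e, e']
    · rw [e, hww.mp e]
    · rw [hww.mpr e', e']
    · rw [e, e']
  have := Nat.card_le_card_of_injective _ hinj
  simpa using this

/-- **Order `320`.**  `G` of order `320` with a self-centralizing normal extraspecial subgroup `H` of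
order `32` containing no `E₈`; an involution `T ∉ H` whose centralizer in `H` contains a subgroup
of order `4` has `|C_H(T)| = 4`. -/
theorem order320_centralizer [Finite G] [hn : H.Normal] (h : ES H z)
    (hExt : Cfsg.IsExtraspecial 2 ↥H) (hG : Nat.card G = 320) (h32 : Nat.card H = 32)
    (hcent : Subgroup.centralizer (H : Set G) ≤ H)
    (hminus : ∀ A : Subgroup G, A ≤ H → Cfsg.IsElementaryAbelian 2 A → Nat.card A ≤ 4)
    (T : G) (hT2 : T * T = 1) (hTH : T ∉ H)
    (V : Subgroup G) (hV : V ≤ H ⊓ Subgroup.centralizer ({T} : Set G)) (hV4 : Nat.card V = 4) :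
    Nat.card (H ⊓ Subgroup.centralizer ({T} : Set G) : Subgroup G) = 4 := by
  have hzc : ∀ g : G, g * z = z * g := h.central_of_normal
  have hTinv : T⁻¹ = T := inv_eq_of_mul_eq_one_left hT2
  set A := fixSub H z hzc T with hA
  set C : Subgroup G := H ⊓ Subgroup.centralizer ({T} : Set G) with hC
  have hCA : C ≤ A := by
    intro x hx
    exact mem_fixSub_of_comm hx.1 (Subgroup.mem_centralizer_singleton_iff.mp hx.2).symm
  have hAH : A ≤ H := fixSub_le T
  have hAne : A ≠ H := by
    intro e
    apply hTH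
    apply h.mem_of_fix_all hExt hcent T
    intro x hx
    have : x ∈ A := by rw [e]; exact hx
    exact this.2
  have hAdvd : Nat.card A ∣ 32 := by rw [← h32]; exact Subgroup.card_dvd_of_le hAH
  have hVA : 4 ∣ Nat.card A := by rw [← hV4]; exact Subgroup.card_dvd_of_le (hV.trans hCA)
  have hVC : 4 ∣ Nat.card C := by rw [← hV4]; exact Subgroup.card_dvd_of_le hV
  have hCAdvd : Nat.card C ∣ Nat.card A := Subgroup.card_dvd_of_le hCA
  -- Step: card A ≤ 8
  have hA8 : Nat.card A ≤ 8 := by
    have hp5 : Fact (Nat.Prime 5) := ⟨by norm_num⟩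
    obtain ⟨f, hf5⟩ := exists_prime_orderOf_dvd_card' (G := G) 5 (by rw [hG]; norm_num)
    have hfix := h.fix_order_five hzc h32 hcent
    have hfH : f ∉ H := by
      intro hfH
      have h1 : orderOf (⟨f, hfH⟩ : H) ∣ Nat.card H := orderOf_dvd_natCard _
      rw [Subgroup.orderOf_mk, hf5, h32] at h1
      norm_num at h1
    have hcardQ : Nat.card (G ⧸ H) = 10 := by
      have := Subgroup.card_eq_card_quotient_mul_card_subgroup H
      rw [hG, h32] at this
      omega
    have hπf5 : ((f : G) : G ⧸ H) ^ 5 = 1 := by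
      rw [← QuotientGroup.mk_pow, ← hf5, pow_orderOf_eq_one]; rfl
    have hπf1 : ((f : G) : G ⧸ H) ≠ 1 := fun e => hfH ((QuotientGroup.eq_one_iff f).mp e)
    have hoπ : orderOf ((f : G) : G ⧸ H) = 5 := orderOf_eq_prime hπf5 hπf1
    have hN5 : Nat.card (Subgroup.zpowers ((f : G) : G ⧸ H)) = 5 := by
      rw [Nat.card_zpowers, hoπ]
    have hNidx : (Subgroup.zpowers ((f : G) : G ⧸ H)).index = 2 := by
      have := Subgroup.card_mul_index (Subgroup.zpowers ((f : G) : G ⧸ H))
      rw [hN5, hcardQ] at this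
      omega
    have hNn : (Subgroup.zpowers ((f : G) : G ⧸ H)).Normal := Subgroup.normal_of_index_eq_two hNidx
    have hmem : ((T : G) : G ⧸ H) * ((f : G) : G ⧸ H) * ((T : G) : G ⧸ H)⁻¹ ∈
        Subgroup.zpowers ((f : G) : G ⧸ H) := hNn.conj_mem _ (Subgroup.mem_zpowers _) _
    obtain ⟨j, hj⟩ := Subgroup.mem_zpowers_iff.mp hmem
    have haH : (f ^ j)⁻¹ * (T * f * T⁻¹) ∈ H := by
      rw [← QuotientGroup.eq]
      rw [QuotientGroup.mk_zpow, hj]
      rfl
    set a := (f ^ j)⁻¹ * (T * f * T⁻¹) with ha
    have hTf : T * f * T⁻¹ = f ^ j * a := by rw [ha]; group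
    by_cases hu : f ^ j * f⁻¹ = 1
    · -- commuting case: contradiction
      exfalso
      have hfj : f ^ j = f := by
        calc f ^ j = (f ^ j * f⁻¹) * f := by group
          _ = f := by rw [hu, one_mul]
      rw [hfj] at hTf
      have e1 : f⁻¹ * T * f = a * T := by
        calc f⁻¹ * T * f = f⁻¹ * (T * f * T⁻¹) * T := by group
          _ = f⁻¹ * (f * a) * T := by rw [hTf]
          _ = a * T := by group
      have e2 : f * T * f⁻¹ = (f * a⁻¹ * f⁻¹) * T := by
        have hT : T = (f * a * f⁻¹) * (f * T * f⁻¹) := by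
          calc T = f * (f⁻¹ * T * f) * f⁻¹ := by group
            _ = f * (a * T) * f⁻¹ := by rw [e1]
            _ = (f * a * f⁻¹) * (f * T * f⁻¹) := by group
        calc f * T * f⁻¹ = (f * a * f⁻¹)⁻¹ * ((f * a * f⁻¹) * (f * T * f⁻¹)) := by group
          _ = (f * a * f⁻¹)⁻¹ * T := by rw [← hT]
          _ = (f * a⁻¹ * f⁻¹) * T := by group
      have hfN : f ∈ Subgroup.normalizer (A : Set G) := by
        rw [Subgroup.mem_normalizer_iff]
        intro x
        constructor
        · intro hx
          have h1 := mem_fixSub_conj (hzc := hzc) f hx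
          rw [e2] at h1
          exact h.mem_fixSub_cancel_left (hn.conj_mem _ (H.inv_mem haH) f) h1
        · intro hx
          have h1 := mem_fixSub_conj (hzc := hzc) f⁻¹ hx
          rw [inv_inv, e1] at h1
          have h2 := h.mem_fixSub_cancel_left haH h1
          have e3 : f⁻¹ * (f * x * f⁻¹) * f = x := by group
          rwa [e3] at h2
      have hmod := card_modEq_card_inf_centralizer A f hfN 5
        (by
          apply IsPGroup.of_card (n := 1)
          rw [Nat.card_zpowers, hf5, pow_one])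
      have hc2 : Nat.card (A ⊓ Subgroup.centralizer ({f} : Set G) : Subgroup G) = 2 := by
        apply le_antisymm
        · apply card_le_two_of_forall (z := z)
          intro x hx
          apply hfix f hf5
          exact mem_fixSub_of_comm (hAH hx.1) (Subgroup.mem_centralizer_singleton_iff.mp hx.2).symm
        · have h1z : (⟨1, Subgroup.one_mem _⟩ : (A ⊓ Subgroup.centralizer ({f} : Set G) : Subgroup G)) ≠
              ⟨z, ⟨mem_fixSub_of_comm h.mem (hzc T), by
                show z ∈ Subgroup.centralizer ({f} : Set G)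
                rw [Subgroup.mem_centralizer_singleton_iff]; exact (hzc f).symm⟩⟩ := by
            intro e
            apply h.ne_one
            exact (congrArg Subtype.val e).symm
          have := Finite.one_lt_card_iff_nontrivial.mpr ⟨⟨_, _, h1z⟩⟩
          omega
      rw [hc2] at hmod
      have hle : Nat.card A ≤ 32 := Nat.le_of_dvd (by norm_num) hAdvd
      have hmod' : Nat.card A % 5 = 2 % 5 := hmod
      have h32A : Nat.card A = 32 := by
        interval_cases hc : Nat.card A <;> omega
      apply hAne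
      exact Subgroup.eq_of_le_of_card_ge hAH (by rw [h32A, h32])
    · -- the 5-element case
      set u := f ^ j * f⁻¹ with hu_def
      have hu5 : orderOf u = 5 := by
        apply orderOf_eq_prime _ hu
        have e : u = f ^ (j - 1) := by rw [zpow_sub_one]
        rw [e, ← zpow_natCast, ← zpow_mul, mul_comm, zpow_mul, zpow_natCast, ← hf5,
          pow_orderOf_eq_one, one_zpow]
      set B := A.map (MulAut.conj f).toMonoidHom with hB
      have hcardB : Nat.card B = Nat.card A :=
        Subgroup.card_map_of_injective (MulAut.conj f).injective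
      have hBH : B ≤ H := by
        rintro _ ⟨x, hx, rfl⟩
        exact hn.conj_mem x (hAH hx) f
      have hAB : ∀ x ∈ A ⊓ B, x = 1 ∨ x = z := by
        rintro x ⟨hxA, ⟨y, hyA, hyx⟩⟩
        have hyx' : f * y * f⁻¹ = x := hyx
        have h1 : f * y * f⁻¹ ∈ fixSub H z hzc (f * T * f⁻¹) := mem_fixSub_conj f hyA
        rw [hyx'] at h1
        have h2 : x ∈ fixSub H z hzc (T * (f * T * f⁻¹)⁻¹) :=
          mem_fixSub_mul hxA (mem_fixSub_inv h1)
        have e : T * (f * T * f⁻¹)⁻¹ = u * (f * a * f⁻¹) := by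
          calc T * (f * T * f⁻¹)⁻¹ = (T * f * T⁻¹) * f⁻¹ := by group
            _ = (f ^ j * a) * f⁻¹ := by rw [hTf]
            _ = u * (f * a * f⁻¹) := by rw [hu_def]; group
        rw [e] at h2
        have h3 := h.mem_fixSub_cancel_right (hn.conj_mem a haH f) h2
        exact hfix u hu5 _ h3
      have hc2 : Nat.card (A ⊓ B : Subgroup G) ≤ 2 := card_le_two_of_forall (z := z) hAB
      have hrel := Subgroup.relIndex_inf_le (H := A) (K := B) (L := H)
      have hA1 := card_mul_relIndex_of_le hAH
      have hB1 := card_mul_relIndex_of_le hBH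
      have hAB1 := card_mul_relIndex_of_le ((inf_le_left : A ⊓ B ≤ A).trans hAH)
      rw [h32] at hA1 hB1 hAB1
      rw [hcardB] at hB1
      by_contra hcon
      push Not at hcon
      have h16 : 16 ≤ Nat.card A := by
        have hle : Nat.card A ≤ 32 := Nat.le_of_dvd (by norm_num) hAdvd
        interval_cases hc : Nat.card A <;> omega
      have hrA : A.relIndex H ≤ 2 := by
        have : 16 * A.relIndex H ≤ Nat.card A * A.relIndex H := Nat.mul_le_mul_right _ h16
        omega
      have hrB : B.relIndex H ≤ 2 := by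
        have : 16 * B.relIndex H ≤ Nat.card A * B.relIndex H := Nat.mul_le_mul_right _ h16
        omega
      have hrC : (A ⊓ B).relIndex H ≤ 4 := hrel.trans (Nat.mul_le_mul hrA hrB)
      have : Nat.card (A ⊓ B : Subgroup G) * (A ⊓ B).relIndex H ≤ 2 * 4 := Nat.mul_le_mul hc2 hrC
      omega
  -- endgame
  have hCle : Nat.card C ≤ 8 := (Nat.le_of_dvd Nat.card_pos hCAdvd).trans hA8
  by_contra hne
  have hC8 : Nat.card C = 8 := by
    have hpos : 0 < Nat.card C := Nat.card_pos
    interval_cases hc : Nat.card C <;> omega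
  have hA8' : Nat.card A = 8 := by
    have := Nat.le_of_dvd Nat.card_pos hCAdvd
    omega
  have hCeqA : C = A := Subgroup.eq_of_le_of_card_ge hCA (by rw [hC8, hA8'])
  have hnorm : ∀ q ∈ H, T * q * T⁻¹ ∈ H := fun q hq => hn.conj_mem q hq T
  have hnt : ∃ q ∈ H, T * q * T⁻¹ * q⁻¹ ≠ 1 := by
    by_contra hcon
    push Not at hcon
    apply hTH
    apply hcent
    rw [Subgroup.mem_centralizer_iff]
    intro y hy
    exact (comm_of_commutator_eq_one (hcon y hy)).symm
  have hK := h.commutator_involution T hT2 hnorm hnt A (fun q => Iff.rfl)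
  set K := Subgroup.closure ((fun q : G => T * q * T⁻¹ * q⁻¹) '' (H : Set G)) with hKdef
  have hκK : ∀ x ∈ H, T * x * T⁻¹ * x⁻¹ ∈ K := fun x hx => Subgroup.subset_closure ⟨x, hx, rfl⟩
  have hKA : K ≤ A := by
    rw [hK]
    rintro _ ⟨u, -, rfl⟩
    exact u.2
  have hκsq : ∀ x ∈ H, (T * x * T⁻¹ * x⁻¹) * (T * x * T⁻¹ * x⁻¹) = 1 := by
    intro x hx
    have hk : T * x * T⁻¹ * x⁻¹ ∈ C := by rw [hCeqA]; exact hKA (hκK x hx)
    have hcomm : (T * x * T⁻¹ * x⁻¹) * T = T * (T * x * T⁻¹ * x⁻¹) :=
      Subgroup.mem_centralizer_singleton_iff.mp hk.2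
    have e1 : T * (T * x * T⁻¹ * x⁻¹) * T⁻¹ = (T * x * T⁻¹ * x⁻¹)⁻¹ := by
      calc T * (T * x * T⁻¹ * x⁻¹) * T⁻¹ = (T * T) * x * T⁻¹ * x⁻¹ * T⁻¹ := by group
        _ = x * T⁻¹ * x⁻¹ * T⁻¹ := by rw [hT2, one_mul]
        _ = x * T * x⁻¹ * T⁻¹ := by rw [hTinv]
        _ = (T * x * T⁻¹ * x⁻¹)⁻¹ := by group
    have e2 : T * (T * x * T⁻¹ * x⁻¹) * T⁻¹ = T * x * T⁻¹ * x⁻¹ := by
      rw [← hcomm]; group
    have e3 : (T * x * T⁻¹ * x⁻¹)⁻¹ = T * x * T⁻¹ * x⁻¹ := by rw [← e1, e2]
    calc (T * x * T⁻¹ * x⁻¹) * (T * x * T⁻¹ * x⁻¹)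
        = (T * x * T⁻¹ * x⁻¹)⁻¹ * (T * x * T⁻¹ * x⁻¹) := by rw [e3]
      _ = 1 := by group
  have hKcomm : ∀ a ∈ K, ∀ b ∈ K, a * b = b * a := by
    intro a ha b hb
    rw [hK] at ha
    obtain ⟨u, hu, rfl⟩ := ha
    have hbA : b ∈ A := hKA hb
    have := Subgroup.mem_center_iff.mp hu ⟨b, hbA⟩
    exact (congrArg Subtype.val this).symm
  have hKsq : ∀ a ∈ K, a * a = 1 := by
    intro a ha
    refine Subgroup.closure_induction (p := fun a _ => a * a = 1) ?_ ?_ ?_ ?_ ha
    · rintro _ ⟨x, hx, rfl⟩
      exact hκsq x hx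
    · simp
    · intro x y hx hy ihx ihy
      have hc := hKcomm x hx y hy
      calc (x * y) * (x * y) = x * (y * x) * y := by group
        _ = x * (x * y) * y := by rw [← hc]
        _ = (x * x) * (y * y) := by group
        _ = 1 := by rw [ihx, ihy, one_mul]
    · intro x hx ihx
      calc x⁻¹ * x⁻¹ = (x * x)⁻¹ := by group
        _ = 1 := by rw [ihx, inv_one]
  have hK4 : Nat.card K ≤ 4 := hminus K (hKA.trans hAH) (elemAb_of K hKcomm hKsq)
  have hcardZ : Nat.card (Subgroup.center ↥A) = Nat.card K := by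
    rw [hK]
    exact (Subgroup.card_map_of_injective (Subgroup.subtype_injective A)).symm
  have hZdvd : Nat.card (Subgroup.center ↥A) ∣ 8 := by
    rw [← hA8']
    exact Subgroup.card_subgroup_dvd_card _
  have hzA : z ∈ A := mem_fixSub_of_comm h.mem (hzc T)
  have hz'c : (⟨z, hzA⟩ : A) ∈ Subgroup.center ↥A := by
    rw [Subgroup.mem_center_iff]
    intro y
    apply Subtype.ext
    exact hzc y
  have hz'1 : (⟨⟨z, hzA⟩, hz'c⟩ : Subgroup.center ↥A) ≠ 1 := by
    intro e
    apply h.ne_one
    exact congrArg (fun w : Subgroup.center ↥A => ((w : A) : G)) e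
  have hZ2 : 2 ≤ Nat.card (Subgroup.center ↥A) := by
    have := Finite.one_lt_card_iff_nontrivial.mpr ⟨⟨_, _, hz'1⟩⟩
    omega
  have hcases : Nat.card (Subgroup.center ↥A) = 2 ∨ Nat.card (Subgroup.center ↥A) = 4 := by
    have hle : Nat.card (Subgroup.center ↥A) ≤ 4 := hcardZ ▸ hK4
    interval_cases hc : Nat.card (Subgroup.center ↥A) <;> omega
  rcases hcases with h2 | h4
  · have hall : ∀ x ∈ H, T * x * T⁻¹ * x⁻¹ ∈ Subgroup.zpowers z := by
      intro x hx
      have hk := hκK x hx
      rw [hK] at hk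
      obtain ⟨u, hu, hux⟩ := hk
      rcases card_two_cases' h2 ⟨⟨z, hzA⟩, hz'c⟩ hz'1 ⟨u, hu⟩ with e | e
      · have e' : (u : G) = 1 := congrArg (fun w : Subgroup.center ↥A => ((w : A) : G)) e
        rw [← hux]
        show (u : G) ∈ Subgroup.zpowers z
        rw [e']
        exact Subgroup.one_mem _
      · have e' : (u : G) = z := congrArg (fun w : Subgroup.center ↥A => ((w : A) : G)) e
        rw [← hux]
        show (u : G) ∈ Subgroup.zpowers z
        rw [e']
        exact Subgroup.mem_zpowers z
    exact hTH (h.mem_of_fix_all hExt hcent T hall)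
  · have hq : Nat.card (↥A ⧸ Subgroup.center ↥A) = 2 := by
      have := Subgroup.card_eq_card_quotient_mul_card_subgroup (Subgroup.center ↥A)
      rw [hA8', h4] at this
      omega
    have hp2 : Fact (Nat.Prime 2) := ⟨Nat.prime_two⟩
    have hcyc : IsCyclic (↥A ⧸ Subgroup.center ↥A) := isCyclic_of_prime_card hq
    have hcomm := commutative_of_cyclic_center_quotient
      (QuotientGroup.mk' (Subgroup.center ↥A)) (by rw [QuotientGroup.ker_mk'])
    have htop : Subgroup.center ↥A = ⊤ := by
      rw [eq_top_iff]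
      intro y _
      rw [Subgroup.mem_center_iff]
      intro w
      exact hcomm w y
    rw [htop, Subgroup.card_top, hA8'] at h4
    omega

/-- Groups of order `10` are solvable. -/
theorem isSolvable_of_card_ten {Q : Type*} [Group Q] [Finite Q] (hQ : Nat.card Q = 10) :
    Group.IsSolvable Q := by
  have hp5 : Fact (Nat.Prime 5) := ⟨by norm_num⟩
  have hp2 : Fact (Nat.Prime 2) := ⟨Nat.prime_two⟩
  obtain ⟨f, hf5⟩ := exists_prime_orderOf_dvd_card' (G := Q) 5 (by rw [hQ]; norm_num)
  have hN5 : Nat.card (Subgroup.zpowers f) = 5 := by rw [Nat.card_zpowers, hf5]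
  have hNidx : (Subgroup.zpowers f).index = 2 := by
    have := Subgroup.card_mul_index (Subgroup.zpowers f)
    rw [hN5, hQ] at this
    omega
  have hNn : (Subgroup.zpowers f).Normal := Subgroup.normal_of_index_eq_two hNidx
  have h1 : Group.IsSolvable (Subgroup.zpowers f) := by
    have : Group.IsNilpotent (Subgroup.zpowers f) :=
      (IsPGroup.of_card (p := 5) (n := 1) (by rw [hN5, pow_one])).isNilpotent
    infer_instance
  have h2 : Group.IsSolvable (Q ⧸ Subgroup.zpowers f) := by
    have hc : Nat.card (Q ⧸ Subgroup.zpowers f) = 2 := by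
      rw [← Subgroup.index_eq_card]; exact hNidx
    have : Group.IsNilpotent (Q ⧸ Subgroup.zpowers f) :=
      (IsPGroup.of_card (p := 2) (n := 1) (by rw [hc, pow_one])).isNilpotent
    infer_instance
  exact solvable_of_ker_le_range (Subgroup.zpowers f).subtype
    (QuotientGroup.mk' (Subgroup.zpowers f))
    (by rw [QuotientGroup.ker_mk', Subgroup.range_subtype])

/-- A finite group with a normal `2`-subgroup of index `10` is solvable. -/
theorem isSolvable_of_normal_two_group_index_ten [Finite G] (N : Subgroup G) [N.Normal]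
    (hN : IsPGroup 2 N) (hidx : Nat.card (G ⧸ N) = 10) : Group.IsSolvable G := by
  have hp2 : Fact (Nat.Prime 2) := ⟨Nat.prime_two⟩
  have h1 : Group.IsSolvable N := by
    have : Group.IsNilpotent N := hN.isNilpotent
    infer_instance
  have h2 : Group.IsSolvable (G ⧸ N) := isSolvable_of_card_ten hidx
  exact solvable_of_ker_le_range N.subtype (QuotientGroup.mk' N)
    (by rw [QuotientGroup.ker_mk', Subgroup.range_subtype])

end Cfsg.Agent.Helper89
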