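import Mathlib
import Cfsg.Prelude.Def_MonsterType
import Cfsg.Agent.S5421
import Cfsg.Agent.Lib.Helper89.ExtraCrit
import Cfsg.Agent.Lib.Helper89.LargeKey

set_option autoImplicit false

namespace Cfsg.Agent.Helper89

/-- **Large extraspecial subgroups in the quotient by a central involution.**
Let `τ` be a central involution of the finite group `H`, `N = {1, τ}`, and let `P ≤ H` contain `τ`
and `z` such that modulo `τ` the group `P` looks extraspecial with centre `⟨z⟩`.  Suppose `z` is not
fused to `z τ`, `C_H(z)` normalizes `P`, the elements of `C_H(z)` centralizing `P` modulo `τ` lie in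
`P`, and `a ∈ P` is an involution outside `⟨z, τ⟩`, not fused to `a τ`, such that `z` lies in a
2-subgroup `R` normalized by `C_H(a)`.  Then `P N / N` is a large extraspecial subgroup of
`H / N`. -/
theorem isLargeExtraspecial_quotient_involution {H : Type*} [Group H] [Finite H]
    (N : Subgroup H) [hn : N.Normal] (τ : H) (hN : ∀ x, x ∈ N ↔ x = 1 ∨ x = τ)
    (hτ1 : τ ≠ 1) (hτ2 : τ * τ = 1) (hτc : ∀ x : H, x * τ = τ * x)
    (P : Subgroup H) (z a : H)
    (hτP : τ ∈ P) (hzP : z ∈ P) (hz1 : z ≠ 1) (hzτ : z ≠ τ) (hz2 : z * z = 1)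
    (hzc : ∀ x ∈ P, x * z = z * x)
    (hsq : ∀ x ∈ P, x * x = 1 ∨ x * x = z)
    (hcomm : ∀ x ∈ P, ∀ y ∈ P, x * y * x⁻¹ * y⁻¹ = 1 ∨ x * y * x⁻¹ * y⁻¹ = z)
    (hcent : ∀ x ∈ P, (∀ y ∈ P, x * y = y * x) → x = 1 ∨ x = τ ∨ x = z ∨ x = z * τ)
    (hna : ∃ x ∈ P, ∃ y ∈ P, x * y * x⁻¹ * y⁻¹ = z)
    (hfix : ∀ c : H, c * z * c⁻¹ ≠ z * τ)
    (hnorm : ∀ c : H, c * z = z * c → ∀ x ∈ P, c * x * c⁻¹ ∈ P)
    (hself : ∀ c : H, c * z = z * c → (∀ y ∈ P, y * c = c * y ∨ y * c = c * y * τ) → c ∈ P)
    (haP : a ∈ P) (ha2 : a * a = 1) (ha1 : a ≠ 1) (haτ : a ≠ τ) (haz : a ≠ z) (hazτ : a ≠ z * τ)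
    (R : Subgroup H) (hzR : z ∈ R) (hR2 : IsPGroup 2 R)
    (hafix : ∀ c : H, c * a * c⁻¹ ≠ a * τ)
    (hRnorm : ∀ c : H, c * a = a * c → ∀ x ∈ R, c * x * c⁻¹ ∈ R) :
    Cfsg.IsLargeExtraspecial (P.map (QuotientGroup.mk' N)) := by
  classical
  set π := QuotientGroup.mk' N with hπ
  have hπeq : ∀ x y : H, π x = π y ↔ (y = x ∨ y = x * τ) := by
    intro x y
    rw [hπ, QuotientGroup.mk'_apply, QuotientGroup.mk'_apply, QuotientGroup.eq, hN]
    constructor
    · rintro (e | e)
      · left; exact (inv_mul_eq_one.mp e).symm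
      · right; exact inv_mul_eq_iff_eq_mul.mp e
    · rintro (e | e)
      · left; rw [e]; group
      · right; rw [e]; group
  have hπsurj : Function.Surjective π := QuotientGroup.mk'_surjective N
  have hπτ : π τ = 1 := by
    rw [hπ, QuotientGroup.mk'_apply, QuotientGroup.eq_one_iff]
    exact (hN τ).mpr (Or.inr rfl)
  set Pb := P.map π with hPb
  have hmemP : ∀ x : H, π x ∈ Pb ↔ x ∈ P := by
    intro x
    constructor
    · rintro ⟨y, hy, e⟩
      rcases (hπeq y x).mp e with e' | e'
      · rw [e']; exact hy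
      · rw [e']; exact P.mul_mem hy hτP
    · intro h; exact ⟨x, h, rfl⟩
  have hcommq : ∀ x y : H, π x * π y = π y * π x → (y * x = x * y ∨ y * x = x * y * τ) := by
    intro x y h
    rw [← map_mul, ← map_mul] at h
    exact (hπeq (x * y) (y * x)).mp h
  have hcommP : ∀ x ∈ P, ∀ y ∈ P, π x * π y = π y * π x → x * y = y * x := by
    intro x hx y hy h
    rcases hcommq x y h with e | e
    · exact e.symm
    · exfalso
      have hc : x * y * x⁻¹ * y⁻¹ = τ := by
        have h1 : x * y = y * x * τ := by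
          rw [e, mul_assoc (x * y), hτ2, mul_one]
        rw [h1]
        calc y * x * τ * x⁻¹ * y⁻¹ = y * (x * τ) * x⁻¹ * y⁻¹ := by group
          _ = y * (τ * x) * x⁻¹ * y⁻¹ := by rw [hτc x]
          _ = (y * τ) * y⁻¹ := by group
          _ = τ * y * y⁻¹ := by rw [hτc y]
          _ = τ := by group
      rcases hcomm x hx y hy with h1 | h1
      · rw [hc] at h1; exact hτ1 h1
      · rw [hc] at h1; exact hzτ h1.symm
  set zb : H ⧸ N := π z with hzb
  have hzb1 : zb ≠ 1 := by
    intro h
    have h' : π z = π 1 := by rw [map_one]; exact h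
    rcases (hπeq z 1).mp h' with e | e
    · exact hz1 e.symm
    · apply hzτ
      calc z = z * τ * τ := by rw [mul_assoc, hτ2, mul_one]
        _ = τ := by rw [← e, one_mul]
  have hzbP : zb ∈ Pb := (hmemP z).mpr hzP
  have hGood : Good ↥Pb ⟨zb, hzbP⟩ := by
    refine ⟨?_, ?_, ?_, ?_, ?_, ?_⟩
    · intro h; exact hzb1 (congrArg Subtype.val h)
    · apply Subtype.ext
      show zb * zb = 1
      rw [hzb, ← map_mul, hz2, map_one]
    · rintro ⟨y, hy⟩
      obtain ⟨x, rfl⟩ := hπsurj y
      have hx := (hmemP x).mp hy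
      apply Subtype.ext
      show π x * zb = zb * π x
      rw [hzb, ← map_mul, ← map_mul, hzc x hx]
    · rintro ⟨y, hy⟩
      obtain ⟨x, rfl⟩ := hπsurj y
      have hx := (hmemP x).mp hy
      rcases hsq x hx with e | e
      · left; apply Subtype.ext; show π x * π x = 1; rw [← map_mul, e, map_one]
      · right; apply Subtype.ext; show π x * π x = zb; rw [← map_mul, e]
    · rintro ⟨y, hy⟩ ⟨y', hy'⟩
      obtain ⟨x, rfl⟩ := hπsurj y
      obtain ⟨x', rfl⟩ := hπsurj y'
      have hx := (hmemP x).mp hy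
      have hx' := (hmemP x').mp hy'
      rcases hcomm x hx x' hx' with e | e
      · left; apply Subtype.ext; show π x * π x' * (π x)⁻¹ * (π x')⁻¹ = 1
        rw [← map_inv, ← map_inv, ← map_mul, ← map_mul, ← map_mul, e, map_one]
      · right; apply Subtype.ext; show π x * π x' * (π x)⁻¹ * (π x')⁻¹ = zb
        rw [← map_inv, ← map_inv, ← map_mul, ← map_mul, ← map_mul, e]
    · rintro ⟨y, hy⟩ hall
      obtain ⟨x, rfl⟩ := hπsurj y
      have hx := (hmemP x).mp hy
      have hxc : ∀ y ∈ P, x * y = y * x := by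
        intro y hy'
        apply hcommP x hx y hy'
        have := hall ⟨π y, (hmemP y).mpr hy'⟩
        exact congrArg Subtype.val this
      rcases hcent x hx hxc with e | e | e | e
      · left; apply Subtype.ext; show π x = 1; rw [e, map_one]
      · left; apply Subtype.ext; show π x = 1; rw [e]; exact hπτ
      · right; apply Subtype.ext; show π x = zb; rw [e]
      · right; apply Subtype.ext; show π x = zb; rw [e, map_mul, hπτ, mul_one]
  have hna' : ∃ g k : ↥Pb, g * k ≠ k * g := by
    obtain ⟨x, hx, y, hy, hxy⟩ := hna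
    refine ⟨⟨π x, (hmemP x).mpr hx⟩, ⟨π y, (hmemP y).mpr hy⟩, ?_⟩
    intro h
    have h' : π x * π y = π y * π x := congrArg Subtype.val h
    have h2 := hcommP x hx y hy h'
    apply hz1
    rw [← hxy]
    exact commutator_eq_one_of_comm h2
  have hL1 : Cfsg.IsExtraspecial 2 ↥Pb := hGood.isExtraspecial hna'
  obtain ⟨z', hES', hcenter'⟩ := ES.of_extraspecial Pb hL1
  have hzbcent : ∀ y ∈ Pb, zb * y = y * zb := by
    intro y hy
    obtain ⟨x, rfl⟩ := hπsurj y
    have hx := (hmemP x).mp hy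
    rw [hzb, ← map_mul, ← map_mul, hzc x hx]
  have hz'eq : z' = zb := by
    rcases hES'.cent zb hzbP hzbcent with e | e
    · exact absurd e hzb1
    · exact e.symm
  rw [hz'eq] at hES' hcenter'
  have hcz : ∀ x : H, π x * zb = zb * π x → x * z = z * x := by
    intro x h
    rcases hcommq x z h with e | e
    · exact e.symm
    · exfalso
      apply hfix x⁻¹
      rw [inv_inv]
      calc x⁻¹ * z * x = x⁻¹ * (z * x) := by group
        _ = x⁻¹ * (x * z * τ) := by rw [e]
        _ = z * τ := by group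
  have hL2 : Subgroup.centralizer (Pb : Set (H ⧸ N)) = (Subgroup.center ↥Pb).map Pb.subtype := by
    ext y
    rw [hcenter']
    constructor
    · intro hy
      rw [Subgroup.mem_centralizer_iff] at hy
      obtain ⟨x, rfl⟩ := hπsurj y
      have hxz : x * z = z * x := hcz x (hy zb hzbP).symm
      have hxP : x ∈ P := by
        apply hself x hxz
        intro y hy'
        have := hy (π y) ((hmemP y).mpr hy')
        exact hcommq x y this.symm
      apply hES'.cent (π x) ((hmemP x).mpr hxP)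
      intro y hy'
      exact (hy y hy').symm
    · rintro (e | e)
      · rw [e]; exact Subgroup.one_mem _
      · rw [e, Subgroup.mem_centralizer_iff]
        intro h hh
        exact hES'.central h hh
  have hL3 : Subgroup.centralizer
      (((Subgroup.center ↥Pb).map Pb.subtype : Subgroup (H ⧸ N)) : Set (H ⧸ N)) ≤
      Subgroup.normalizer (Pb : Set (H ⧸ N)) := by
    intro y hy
    rw [Subgroup.mem_centralizer_iff] at hy
    obtain ⟨x, rfl⟩ := hπsurj y
    have hxz : x * z = z * x := hcz x (hy zb ((hcenter' zb).mpr (Or.inr rfl))).symm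
    have hxz' : x⁻¹ * z = z * x⁻¹ := by
      calc x⁻¹ * z = x⁻¹ * (z * x) * x⁻¹ := by group
        _ = x⁻¹ * (x * z) * x⁻¹ := by rw [hxz]
        _ = z * x⁻¹ := by group
    rw [Subgroup.mem_normalizer_iff]
    intro h
    obtain ⟨u, rfl⟩ := hπsurj h
    rw [← map_inv, ← map_mul, ← map_mul, hmemP, hmemP]
    constructor
    · exact hnorm x hxz u
    · intro hu
      have := hnorm x⁻¹ hxz' _ hu
      have e : x⁻¹ * (x * u * x⁻¹) * x⁻¹⁻¹ = u := by group
      rwa [e] at this
  set b : H ⧸ N := π a with hb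
  have hbP : b ∈ Pb := (hmemP a).mpr haP
  have hb1 : b ≠ 1 := by
    intro h
    have h' : π a = π 1 := by rw [map_one]; exact h
    rcases (hπeq a 1).mp h' with e | e
    · exact ha1 e.symm
    · apply haτ
      calc a = a * τ * τ := by rw [mul_assoc, hτ2, mul_one]
        _ = τ := by rw [← e, one_mul]
  have hbz : b ≠ zb := by
    intro h
    rcases (hπeq z a).mp h.symm with e | e
    · exact haz e
    · exact hazτ e
  have hbZ : b ∉ (Subgroup.center ↥Pb).map Pb.subtype := by
    rw [hcenter']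
    push Not
    exact ⟨hb1, hbz⟩
  have hbo : orderOf b = 2 := by
    apply orderOf_eq_prime
    · rw [pow_two, hb, ← map_mul, ha2, map_one]
    · exact hb1
  have hca : ∀ x : H, π x * b = b * π x → x * a = a * x := by
    intro x h
    rcases hcommq x a h with e | e
    · exact e.symm
    · exfalso
      apply hafix x⁻¹
      rw [inv_inv]
      calc x⁻¹ * a * x = x⁻¹ * (a * x) := by group
        _ = x⁻¹ * (x * a * τ) := by rw [e]
        _ = a * τ := by group
  have hZ : (Subgroup.center ↥Pb).map Pb.subtype ≤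
      (Cfsg.pCore 2 ↥(Subgroup.centralizer ({b} : Set (H ⧸ N)))).map
        (Subgroup.centralizer ({b} : Set (H ⧸ N))).subtype := by
    set Cb := Subgroup.centralizer ({b} : Set (H ⧸ N)) with hCb
    set Rb := (R.map π).subgroupOf Cb with hRb
    have hRn : Rb.Normal := by
      constructor
      intro n hn k
      rw [hRb, Subgroup.mem_subgroupOf] at hn ⊢
      obtain ⟨r, hr, e⟩ := hn
      obtain ⟨c, hc⟩ := hπsurj (k : H ⧸ N)
      have hk : (k : H ⧸ N) * b = b * k := Subgroup.mem_centralizer_singleton_iff.mp k.2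
      have hca' : c * a = a * c := hca c (by rw [hc]; exact hk)
      refine ⟨c * r * c⁻¹, hRnorm c hca' r hr, ?_⟩
      rw [map_mul, map_mul, map_inv, hc, e]
      simp
    have hRp : IsPGroup 2 Rb := (hR2.map π).comap_subtype
    have hle : Rb ≤ Cfsg.pCore 2 ↥Cb := le_sSup ⟨hRn, hRp⟩
    intro x hx
    rcases (hcenter' x).mp hx with e | e
    · rw [e]; exact Subgroup.one_mem _
    · have hzbC : zb ∈ Cb := by
        rw [hCb, Subgroup.mem_centralizer_singleton_iff]
        rw [hzb, hb, ← map_mul, ← map_mul, hzc a haP]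
      rw [e]
      exact ⟨⟨zb, hzbC⟩, hle (Subgroup.mem_subgroupOf.mpr ⟨z, hzR, rfl⟩), rfl⟩
  exact Cfsg.Agent.S5421.result Pb hL1 hL2 hL3 b hbP hbZ hbo hZ

end Cfsg.Agent.Helper89
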