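import Mathlib
import Cfsg.Prelude.Def_MonsterType
import Cfsg.Agent.S5421
import Cfsg.Agent.Lib.Helper89.ExtraCrit
import Cfsg.Agent.Lib.Helper89.Large
import Cfsg.Agent.Lib.Helper89.PairRadical

set_option autoImplicit false

namespace Cfsg.Agent.Helper89

/-- **Large extraspecial subgroups in the quotient by a normal subgroup of odd order.**
Let `N` be a normal subgroup of odd order of the finite group `H`, and `P ≤ H` extraspecial with
centre `⟨z⟩`.  Suppose the elements of `H` centralizing `P` modulo `N` lie in `⟨z⟩ N`, the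
elements centralizing `z` modulo `N` normalize `P`, and `a ∈ P` is a non-central involution such
that `z` lies in a `2`-subgroup `R` normalized by all elements centralizing `a` modulo `N`.  Then
`P N / N` is a large extraspecial subgroup of `H / N`. -/
theorem isLargeExtraspecial_quotient_odd {H : Type*} [Group H] [Finite H]
    (N : Subgroup H) [hn : N.Normal] (hNodd : Odd (Nat.card N))
    (P : Subgroup H) (z a : H) (hES : ES P z)
    (hself : ∀ c : H, (∀ y ∈ P, c * y * c⁻¹ * y⁻¹ ∈ N) → c ∈ N ∨ z⁻¹ * c ∈ N)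
    (hnorm : ∀ c : H, c * z * c⁻¹ * z⁻¹ ∈ N → ∀ y ∈ P, c * y * c⁻¹ ∈ P)
    (haP : a ∈ P) (ha2 : a * a = 1) (ha1 : a ≠ 1) (haz : a ≠ z)
    (R : Subgroup H) (hzR : z ∈ R) (hR2 : IsPGroup 2 R)
    (hRnorm : ∀ c : H, c * a * c⁻¹ * a⁻¹ ∈ N → ∀ x ∈ R, c * x * c⁻¹ ∈ R) :
    Cfsg.IsLargeExtraspecial (P.map (QuotientGroup.mk' N)) := by
  classical
  set π := QuotientGroup.mk' N with hπ
  have hπsurj : Function.Surjective π := QuotientGroup.mk'_surjective N
  have hNP : N ⊓ P = ⊥ := odd_inf_two_group hNodd hES.pgroup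
  have hπone : ∀ x : H, π x = 1 ↔ x ∈ N := fun x => QuotientGroup.eq_one_iff x
  have hinj : ∀ x ∈ P, ∀ y ∈ P, π x = π y → x = y := by
    intro x hx y hy e
    have h1 : x⁻¹ * y ∈ N := by
      rw [← hπone, map_mul, map_inv, e, inv_mul_cancel]
    have h2 : x⁻¹ * y ∈ N ⊓ P := ⟨h1, P.mul_mem (P.inv_mem hx) hy⟩
    rw [hNP, Subgroup.mem_bot] at h2
    exact inv_mul_eq_one.mp h2
  set Pb := P.map π with hPb
  have hcommq : ∀ c y : H, π c * π y = π y * π c → c * y * c⁻¹ * y⁻¹ ∈ N := by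
    intro c y h
    rw [← hπone, map_mul, map_mul, map_mul, map_inv, map_inv]
    exact commutator_eq_one_of_comm h
  have hcommP : ∀ x ∈ P, ∀ y ∈ P, π x * π y = π y * π x → x * y = y * x := by
    intro x hx y hy h
    apply hinj _ (P.mul_mem hx hy) _ (P.mul_mem hy hx)
    rw [map_mul, map_mul, h]
  set zb : H ⧸ N := π z with hzb
  have hzb1 : zb ≠ 1 := by
    intro h
    have : z ∈ N ⊓ P := ⟨(hπone z).mp h, hES.mem⟩
    rw [hNP, Subgroup.mem_bot] at this
    exact hES.ne_one this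
  have hzbP : zb ∈ Pb := ⟨z, hES.mem, rfl⟩
  have hGood : Good ↥Pb ⟨zb, hzbP⟩ := by
    refine ⟨?_, ?_, ?_, ?_, ?_, ?_⟩
    · intro h; exact hzb1 (congrArg Subtype.val h)
    · apply Subtype.ext
      show zb * zb = 1
      rw [hzb, ← map_mul, hES.sq, map_one]
    · rintro ⟨_, x, hx, rfl⟩
      apply Subtype.ext
      show π x * zb = zb * π x
      rw [hzb, ← map_mul, ← map_mul, hES.central x hx]
    · rintro ⟨_, x, hx, rfl⟩
      rcases hES.sq_mem hx with e | e
      · left; apply Subtype.ext; show π x * π x = 1; rw [← map_mul, e, map_one]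
      · right; apply Subtype.ext; show π x * π x = zb; rw [← map_mul, e]
    · rintro ⟨_, x, hx, rfl⟩ ⟨_, x', hx', rfl⟩
      rcases hES.comm x hx x' hx' with e | e
      · left; apply Subtype.ext; show π x * π x' * (π x)⁻¹ * (π x')⁻¹ = 1
        rw [← map_inv, ← map_inv, ← map_mul, ← map_mul, ← map_mul, e, map_one]
      · right; apply Subtype.ext; show π x * π x' * (π x)⁻¹ * (π x')⁻¹ = zb
        rw [← map_inv, ← map_inv, ← map_mul, ← map_mul, ← map_mul, e]
    · rintro ⟨_, x, hx, rfl⟩ hall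
      have hxc : ∀ y ∈ P, x * y = y * x := by
        intro y hy'
        apply hcommP x hx y hy'
        have := hall ⟨π y, ⟨y, hy', rfl⟩⟩
        exact congrArg Subtype.val this
      rcases hES.cent x hx hxc with e | e
      · left; apply Subtype.ext; show π x = 1; rw [e, map_one]
      · right; apply Subtype.ext; show π x = zb; rw [e]
  have hna' : ∃ g k : ↥Pb, g * k ≠ k * g := by
    obtain ⟨q, hq, hqa⟩ := hES.exists_conj haP ha1 haz
    refine ⟨⟨π q, ⟨q, hq, rfl⟩⟩, ⟨π a, ⟨a, haP, rfl⟩⟩, ?_⟩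
    intro h
    have h' : π q * π a = π a * π q := congrArg Subtype.val h
    have h2 := hcommP q hq a haP h'
    apply hES.ne_one
    have : q * a * q⁻¹ = a := by rw [h2]; group
    rw [this] at hqa
    calc z = z * a * a⁻¹ := by group
      _ = 1 := by rw [← hqa]; group
  have hL1 : Cfsg.IsExtraspecial 2 ↥Pb := hGood.isExtraspecial hna'
  obtain ⟨z', hES', hcenter'⟩ := ES.of_extraspecial Pb hL1
  have hzbcent : ∀ y ∈ Pb, zb * y = y * zb := by
    rintro _ ⟨x, hx, rfl⟩
    rw [hzb, ← map_mul, ← map_mul, hES.central x hx]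
  have hz'eq : z' = zb := by
    rcases hES'.cent zb hzbP hzbcent with e | e
    · exact absurd e hzb1
    · exact e.symm
  rw [hz'eq] at hES' hcenter'
  have hL2 : Subgroup.centralizer (Pb : Set (H ⧸ N)) = (Subgroup.center ↥Pb).map Pb.subtype := by
    ext y
    rw [hcenter']
    constructor
    · intro hy
      rw [Subgroup.mem_centralizer_iff] at hy
      obtain ⟨c, rfl⟩ := hπsurj y
      have hall : ∀ y ∈ P, c * y * c⁻¹ * y⁻¹ ∈ N := by
        intro y hy'
        exact hcommq c y (hy (π y) ⟨y, hy', rfl⟩).symm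
      rcases hself c hall with e | e
      · left; exact (hπone c).mpr e
      · right
        have := (hπone _).mpr e
        rw [map_mul, map_inv] at this
        exact (inv_mul_eq_one.mp this).symm
    · rintro (e | e)
      · rw [e]; exact Subgroup.one_mem _
      · rw [e, Subgroup.mem_centralizer_iff]
        intro h hh
        exact hES'.central h hh
  have hL3 : Subgroup.centralizer
      (((Subgroup.center ↥Pb).map Pb.subtype : Subgroup (H ⧸ N)) : Set (H ⧸ N)) ≤
      Subgroup.normalizer (Pb : Set (H ⧸ N)) := by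
    intro y hy
    rw [Subgroup.mem_centralizer_iff] at hy
    obtain ⟨c, rfl⟩ := hπsurj y
    have hcz : π c * zb = zb * π c := (hy zb ((hcenter' zb).mpr (Or.inr rfl))).symm
    have hc1 : c * z * c⁻¹ * z⁻¹ ∈ N := hcommq c z hcz
    have hcz' : π c⁻¹ * zb = zb * π c⁻¹ := by
      rw [map_inv]
      calc (π c)⁻¹ * zb = (π c)⁻¹ * (zb * π c) * (π c)⁻¹ := by group
        _ = (π c)⁻¹ * (π c * zb) * (π c)⁻¹ := by rw [hcz]
        _ = zb * (π c)⁻¹ := by group
    have hc2 : c⁻¹ * z * c⁻¹⁻¹ * z⁻¹ ∈ N := hcommq c⁻¹ z hcz'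
    rw [Subgroup.mem_normalizer_iff]
    intro h
    constructor
    · rintro ⟨x, hx, rfl⟩
      refine ⟨c * x * c⁻¹, hnorm c hc1 x hx, ?_⟩
      rw [map_mul, map_mul, map_inv]
    · rintro ⟨x, hx, e⟩
      refine ⟨c⁻¹ * x * c⁻¹⁻¹, hnorm c⁻¹ hc2 x hx, ?_⟩
      rw [inv_inv, map_mul, map_mul, map_inv, e]
      group
  set b : H ⧸ N := π a with hb
  have hbP : b ∈ Pb := ⟨a, haP, rfl⟩
  have hb1 : b ≠ 1 := by
    intro h
    have : a ∈ N ⊓ P := ⟨(hπone a).mp h, haP⟩
    rw [hNP, Subgroup.mem_bot] at this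
    exact ha1 this
  have hbz : b ≠ zb := by
    intro h
    exact haz (hinj a haP z hES.mem h)
  have hbZ : b ∉ (Subgroup.center ↥Pb).map Pb.subtype := by
    rw [hcenter']
    push Not
    exact ⟨hb1, hbz⟩
  have hbo : orderOf b = 2 := by
    apply orderOf_eq_prime
    · rw [pow_two, hb, ← map_mul, ha2, map_one]
    · exact hb1
  have hZ : (Subgroup.center ↥Pb).map Pb.subtype ≤
      (Cfsg.pCore 2 ↥(Subgroup.centralizer ({b} : Set (H ⧸ N)))).map
        (Subgroup.centralizer ({b} : Set (H ⧸ N))).subtype := by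
    set Cb := Subgroup.centralizer ({b} : Set (H ⧸ N)) with hCb
    set Rb := (R.map π).subgroupOf Cb with hRb
    have hRn : Rb.Normal := by
      constructor
      intro n hn k
      rw [hRb, Subgroup.mem_subgroupOf] at hn ⊢
      obtain ⟨r, hr, e⟩ := hn
      obtain ⟨c, hc⟩ := hπsurj (k : H ⧸ N)
      have hk : (k : H ⧸ N) * b = b * k := Subgroup.mem_centralizer_singleton_iff.mp k.2
      have hca' : c * a * c⁻¹ * a⁻¹ ∈ N := hcommq c a (by rw [hc]; exact hk)
      refine ⟨c * r * c⁻¹, hRnorm c hca' r hr, ?_⟩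
      rw [map_mul, map_mul, map_inv, hc, e]
      simp
    have hRp : IsPGroup 2 Rb := (hR2.map π).comap_subtype
    have hle : Rb ≤ Cfsg.pCore 2 ↥Cb := le_sSup ⟨hRn, hRp⟩
    intro x hx
    rcases (hcenter' x).mp hx with e | e
    · rw [e]; exact Subgroup.one_mem _
    · have hzbC : zb ∈ Cb := by
        rw [hCb, Subgroup.mem_centralizer_singleton_iff]
        rw [hzb, hb, ← map_mul, ← map_mul, hES.central a haP]
      rw [e]
      exact ⟨⟨zb, hzbC⟩, hle (Subgroup.mem_subgroupOf.mpr ⟨z, hzR, rfl⟩), rfl⟩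
  exact Cfsg.Agent.S5421.result Pb hL1 hL2 hL3 b hbP hbZ hbo hZ

end Cfsg.Agent.Helper89
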