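import Mathlib
import Cfsg.Agent.Lib.Helper89.DoubleCent
import Cfsg.Agent.Lib.Helper92.LargeExtraSetup

set_option autoImplicit false

namespace Cfsg.Agent.Helper89

open Cfsg.Agent.Helper92

variable {G : Type*} [Group G]

/-- helper92's conjugation-form setting gives an `ES` pair. -/
theorem ES.of_LESetting {Q : G → Subgroup G} {z : G} (h : LESetting Q z) : ES (Q z) z where
  mem := h.mem_self
  ne_one := h.hz1
  sq := h.hz2
  central := fun x hx => comm_of_cjg (h.P1 z x hx)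
  comm := by
    intro x hx y hy
    rcases h.E1 x hx y hy with e | e
    · left
      unfold cjg at e
      rw [e]; group
    · right
      unfold cjg at e
      rw [e]; group
  cent := by
    intro x hx hxy
    apply h.E2 x hx
    intro a ha
    exact cjg_of_comm (hxy a ha).symm
  pgroup := h.P2 z

/-- A singular subgroup `U` (for the radical map `Q`): every nonidentity `u ∈ U` has `Q u`
extraspecial with centre `⟨u⟩`, `U` has exponent two and `U ≤ Q u`. -/
structure Sing (Q : G → Subgroup G) (U : Subgroup G) : Prop where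
  es : ∀ u ∈ U, u ≠ 1 → ES (Q u) u
  sq : ∀ u ∈ U, u * u = 1
  orth : ∀ u ∈ U, ∀ v ∈ U, u ≠ 1 → v ∈ Q u

theorem Sing.of_hyps [Finite G] (Q : G → Subgroup G)
    (hQ : ∀ x : G, Q x = (Cfsg.pCore 2 ↥(Subgroup.centralizer ({x} : Set G))).map
      (Subgroup.centralizer ({x} : Set G)).subtype)
    (z : G) (hz : orderOf z = 2) (hE : Cfsg.IsExtraspecial 2 ↥(Q z))
    (hC : Subgroup.centralizer ((Q z : Subgroup G) : Set G) ≤ Q z)
    (U : Subgroup G) (hU2 : ∀ u ∈ U, u * u = 1)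
    (hS : ∀ u ∈ U, u ≠ 1 → ∃ g : G, g * z * g⁻¹ = u)
    (hO : ∀ u ∈ U, ∀ v ∈ U, u ≠ 1 → v ≠ 1 → v ∈ Q u) : Sing Q U where
  es := by
    intro u hu hu1
    have hset := setting_of_hyps Q hQ z hz hE hC
    obtain ⟨g, hg⟩ := hS u hu hu1
    have hsa : LESetting Q u := by
      have := hset.conj g
      rwa [show cjg g z = u from hg] at this
    exact ES.of_LESetting hsa
  sq := hU2
  orth := by
    intro u hu v hv hu1
    by_cases hv1 : v = 1
    · rw [hv1]; exact Subgroup.one_mem _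
    · exact hO u hu v hv hu1 hv1

namespace Sing

variable {Q : G → Subgroup G} {U : Subgroup G}

theorem inv_eq (hs : Sing Q U) {u : G} (hu : u ∈ U) : u⁻¹ = u :=
  inv_eq_of_mul_eq_one_right (hs.sq u hu)

theorem comm (hs : Sing Q U) {u v : G} (hu : u ∈ U) (hv : v ∈ U) : u * v = v * u := by
  by_cases hu1 : u = 1
  · rw [hu1]; simp
  · exact ((hs.es u hu hu1).central v (hs.orth u hu v hv hu1)).symm

/-- `U ≤ Q u` for the nonidentity elements `u` of `U`. -/
theorem le_iInf (hs : Sing Q U) : U ≤ ⨅ u ∈ ((U : Set G) \ {1}), Q u := by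
  apply le_iInf₂
  intro u hu v hv
  exact hs.orth u hu.1 v hv (fun h => hu.2 (by rw [Set.mem_singleton_iff]; exact h))

theorem le_iSup {u : G} (hu : u ∈ U) (hu1 : u ≠ 1) :
    Q u ≤ ⨆ u ∈ ((U : Set G) \ {1}), Q u :=
  le_iSup₂_of_le u ⟨hu, fun h => hu1 (by rw [Set.mem_singleton_iff] at h; exact h)⟩ le_rfl

theorem iInf_le {u : G} (hu : u ∈ U) (hu1 : u ≠ 1) :
    (⨅ u ∈ ((U : Set G) \ {1}), Q u) ≤ Q u :=
  iInf₂_le u ⟨hu, fun h => hu1 (by rw [Set.mem_singleton_iff] at h; exact h)⟩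

/-- conjugating `v ∈ U` by `g ∈ Q u` stays in `U`. -/
theorem conj_mem (hs : Sing Q U) {u : G} (hu : u ∈ U) (hu1 : u ≠ 1) {g : G} (hg : g ∈ Q u)
    {v : G} (hv : v ∈ U) : g * v * g⁻¹ ∈ U := by
  rcases (hs.es u hu hu1).comm_or hg (hs.orth u hu v hv hu1) with h1 | h1
  · have : g * v * g⁻¹ = v := by rw [h1]; group
    rw [this]; exact hv
  · rw [conj_eq_of_commutator_eq h1]
    exact U.mul_mem hu hv

/-- the commutator of `g ∈ Q u` with `x ∈ Q u` lies in `U`. -/
theorem commutator_mem (hs : Sing Q U) {u : G} (hu : u ∈ U) (hu1 : u ≠ 1) {g : G} (hg : g ∈ Q u)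
    {x : G} (hx : x ∈ Q u) : g * x * g⁻¹ * x⁻¹ ∈ U := by
  rcases (hs.es u hu hu1).comm g hg x hx with h1 | h1
  · rw [h1]; exact U.one_mem
  · rw [h1]; exact hu

/-- The subgroup of elements normalizing `U` and acting trivially on `QU / U`. -/
def stab (U QU : Subgroup G) : Subgroup G where
  carrier := {g | (∀ v ∈ U, g * v * g⁻¹ ∈ U) ∧ (∀ v ∈ U, g⁻¹ * v * g ∈ U) ∧
    (∀ x ∈ QU, g * x * g⁻¹ * x⁻¹ ∈ U) ∧ (∀ x ∈ QU, g⁻¹ * x * g * x⁻¹ ∈ U)}
  one_mem' := by
    refine ⟨?_, ?_, ?_, ?_⟩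
    · intro v hv; simpa using hv
    · intro v hv; simpa using hv
    · intro x _; simp
    · intro x _; simp
  mul_mem' := by
    intro g k hg hk
    obtain ⟨g1, g2, g3, g4⟩ := hg
    obtain ⟨k1, k2, k3, k4⟩ := hk
    refine ⟨?_, ?_, ?_, ?_⟩
    · intro v hv
      have := g1 _ (k1 v hv)
      have e : g * k * v * (g * k)⁻¹ = g * (k * v * k⁻¹) * g⁻¹ := by group
      rw [e]; exact this
    · intro v hv
      have := k2 _ (g2 v hv)
      have e : (g * k)⁻¹ * v * (g * k) = k⁻¹ * (g⁻¹ * v * g) * k := by group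
      rw [e]; exact this
    · intro x hx
      have h1 := g1 _ (k3 x hx)
      have h2 := g3 x hx
      have e : g * k * x * (g * k)⁻¹ * x⁻¹ =
          (g * (k * x * k⁻¹ * x⁻¹) * g⁻¹) * (g * x * g⁻¹ * x⁻¹) := by group
      rw [e]; exact U.mul_mem h1 h2
    · intro x hx
      have h1 := k2 _ (g4 x hx)
      have h2 := k4 x hx
      have e : (g * k)⁻¹ * x * (g * k) * x⁻¹ =
          (k⁻¹ * (g⁻¹ * x * g * x⁻¹) * k) * (k⁻¹ * x * k * x⁻¹) := by group
      rw [e]; exact U.mul_mem h1 h2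
  inv_mem' := by
    intro g hg
    obtain ⟨g1, g2, g3, g4⟩ := hg
    refine ⟨?_, ?_, ?_, ?_⟩
    · intro v hv; simpa using g2 v hv
    · intro v hv; simpa using g1 v hv
    · intro x hx; simpa using g4 x hx
    · intro x hx; simpa using g3 x hx

theorem le_stab (hs : Sing Q U) :
    (⨆ u ∈ ((U : Set G) \ {1}), Q u) ≤ stab U (⨅ u ∈ ((U : Set G) \ {1}), Q u) := by
  apply iSup₂_le
  intro u hu g hg
  have huU : u ∈ U := hu.1
  have hu1 : u ≠ 1 := fun h => hu.2 (by rw [Set.mem_singleton_iff]; exact h)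
  have hginv : g⁻¹ ∈ Q u := (Q u).inv_mem hg
  refine ⟨?_, ?_, ?_, ?_⟩
  · intro v hv; exact hs.conj_mem huU hu1 hg hv
  · intro v hv
    have := hs.conj_mem huU hu1 hginv hv
    simpa using this
  · intro x hx
    exact hs.commutator_mem huU hu1 hg (iInf_le huU hu1 hx)
  · intro x hx
    have := hs.commutator_mem huU hu1 hginv (iInf_le huU hu1 hx)
    simpa using this

/-- `LU` normalizes `U`. -/
theorem le_normalizer (hs : Sing Q U) :
    (⨆ u ∈ ((U : Set G) \ {1}), Q u) ≤ Subgroup.normalizer (U : Set G) := by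
  intro g hg
  obtain ⟨g1, g2, -, -⟩ := hs.le_stab hg
  rw [Subgroup.mem_normalizer_iff]
  intro v
  constructor
  · intro hv; exact g1 v hv
  · intro hv
    have := g2 _ hv
    have e : g⁻¹ * (g * v * g⁻¹) * g = v := by group
    rwa [e] at this

/-- `LU` acts trivially on `QU / U`. -/
theorem commutator_mem_of_mem_iSup (hs : Sing Q U) {g : G}
    (hg : g ∈ ⨆ u ∈ ((U : Set G) \ {1}), Q u) {x : G}
    (hx : x ∈ ⨅ u ∈ ((U : Set G) \ {1}), Q u) : g * x * g⁻¹ * x⁻¹ ∈ U :=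
  (hs.le_stab hg).2.2.1 x hx

/-- The double centralizer statement inside `Q u`. -/
theorem exists_centralizing [Finite G] (hs : Sing Q U) {u : G} (hu : u ∈ U) (hu1 : u ≠ 1)
    {T : Set G} (hT : T ⊆ U) {x : G} (hx : x ∈ Q u) (hxn : x ∉ Subgroup.closure (T ∪ {u})) :
    ∃ g ∈ Q u, (∀ t ∈ T, g * t = t * g) ∧ g * x * g⁻¹ * x⁻¹ = u :=
  (hs.es u hu hu1).exists_centralizing (Set.toFinite T)
    (fun t ht => hs.orth u hu t (hT ht) hu1) x hx hxn

/-- `C_{LU}(U)` is transitive on the cosets `xU`, `x ∈ QU \ U`. -/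
theorem exists_conj_eq_mul [Finite G] (hs : Sing Q U) {x : G}
    (hx : x ∈ ⨅ u ∈ ((U : Set G) \ {1}), Q u) (hxU : x ∉ U) {u : G} (hu : u ∈ U) :
    ∃ g ∈ (⨆ u ∈ ((U : Set G) \ {1}), Q u) ⊓ Subgroup.centralizer (U : Set G),
      g * x * g⁻¹ = x * u := by
  by_cases hu1 : u = 1
  · refine ⟨1, Subgroup.one_mem _, ?_⟩
    rw [hu1]; group
  have hxQ : x ∈ Q u := iInf_le hu hu1 hx
  have hxn : x ∉ Subgroup.closure ((U : Set G) ∪ {u}) := by
    intro hh
    apply hxU
    have hle : Subgroup.closure ((U : Set G) ∪ {u}) ≤ U := by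
      rw [Subgroup.closure_le]
      intro y hy
      rcases hy with hy | hy
      · exact hy
      · rw [Set.mem_singleton_iff] at hy
        rw [hy]; exact hu
    exact hle hh
  obtain ⟨g, hgQ, hgU, hgx⟩ := hs.exists_centralizing hu hu1 (T := (U : Set G)) le_rfl hxQ hxn
  refine ⟨g, ⟨le_iSup hu hu1 hgQ, ?_⟩, ?_⟩
  · refine Subgroup.mem_centralizer_iff.mpr ?_
    intro v hv
    exact (hgU v hv).symm
  · rw [conj_eq_of_commutator_eq hgx]
    exact ((hs.es u hu hu1).central x hxQ).symm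

end Sing

end Cfsg.Agent.Helper89
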