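import Mathlib
import Cfsg.Agent.Lib.Helper89.Singular

set_option autoImplicit false

namespace Cfsg.Agent.Helper89

variable {G : Type*} [Group G]

/-- In an abelian subgroup `U` of exponent two, `⟨S, u⟩ ⊆ T ∪ T u` for a subgroup `T ⊇ S`. -/
theorem mem_or_mul_mem_of_mem_closure (U T : Subgroup G)
    (hab : ∀ a ∈ U, ∀ b ∈ U, a * b = b * a) (hinv : ∀ a ∈ U, a⁻¹ = a) (hTU : T ≤ U)
    {u : G} (hu : u ∈ U) {S : Set G} (hST : S ⊆ T) :
    ∀ x ∈ Subgroup.closure (S ∪ {u}), x ∈ U ∧ (x ∈ T ∨ x * u ∈ T) := by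
  have huu : u * u = 1 := by
    have := hinv u hu
    calc u * u = u⁻¹ * u := by rw [this]
      _ = 1 := by group
  intro x hx
  induction hx using Subgroup.closure_induction with
  | mem y hy =>
    rcases hy with hy | hy
    · exact ⟨hTU (hST hy), Or.inl (hST hy)⟩
    · rw [Set.mem_singleton_iff] at hy
      rw [hy]
      exact ⟨hu, Or.inr (by rw [huu]; exact T.one_mem)⟩
  | one => exact ⟨U.one_mem, Or.inl T.one_mem⟩
  | mul a b _ _ iha ihb =>
    obtain ⟨haU, ha⟩ := iha
    obtain ⟨hbU, hb⟩ := ihb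
    refine ⟨U.mul_mem haU hbU, ?_⟩
    rcases ha with ha | ha <;> rcases hb with hb | hb
    · exact Or.inl (T.mul_mem ha hb)
    · right
      have e : a * b * u = a * (b * u) := by group
      rw [e]; exact T.mul_mem ha hb
    · right
      have e : a * b * u = (a * u) * b := by
        calc a * b * u = a * (b * u) := by group
          _ = a * (u * b) := by rw [hab b hbU u hu]
          _ = (a * u) * b := by group
      rw [e]; exact T.mul_mem ha hb
    · left
      have e : a * b = (a * u) * (b * u) := by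
        calc a * b = a * (u * u) * b := by rw [huu, mul_one]
          _ = a * u * (u * b) := by group
          _ = a * u * (b * u) := by rw [hab u hu b hbU]
      rw [e]; exact T.mul_mem ha hb
  | inv a _ iha =>
    obtain ⟨haU, ha⟩ := iha
    refine ⟨U.inv_mem haU, ?_⟩
    rw [hinv a haU]
    exact ha

namespace Sing

variable {Q : G → Subgroup G} {U : Subgroup G}

/-- The subgroup of `U` on which conjugation by `g` agrees with `φ`. -/
def agree (U : Subgroup G) (φ : ↥U ≃* ↥U) (g : G) : Subgroup G where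
  carrier := {x | ∃ hx : x ∈ U, g * x * g⁻¹ = ((φ ⟨x, hx⟩ : ↥U) : G)}
  one_mem' := by
    refine ⟨U.one_mem, ?_⟩
    have : (⟨1, U.one_mem⟩ : ↥U) = 1 := rfl
    rw [this, map_one]; simp
  mul_mem' := by
    rintro a b ⟨ha, ha'⟩ ⟨hb, hb'⟩
    refine ⟨U.mul_mem ha hb, ?_⟩
    have : (⟨a * b, U.mul_mem ha hb⟩ : ↥U) = ⟨a, ha⟩ * ⟨b, hb⟩ := rfl
    rw [this, map_mul, Subgroup.coe_mul, ← ha', ← hb']; group
  inv_mem' := by
    rintro a ⟨ha, ha'⟩
    refine ⟨U.inv_mem ha, ?_⟩
    have : (⟨a⁻¹, U.inv_mem ha⟩ : ↥U) = (⟨a, ha⟩ : ↥U)⁻¹ := rfl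
    rw [this, map_inv, Subgroup.coe_inv, ← ha']; group

theorem agree_le (φ : ↥U ≃* ↥U) (g : G) : agree U φ g ≤ U := fun _ hx => hx.1

/-- `LU` induces every automorphism of the singular subgroup `U`. -/
theorem exists_conj_eq_aut [Finite G] (hs : Sing Q U) (φ : ↥U ≃* ↥U) :
    ∃ g ∈ ⨆ u ∈ ((U : Set G) \ {1}), Q u,
      ∀ u : ↥U, g * (u : G) * g⁻¹ = ((φ u : ↥U) : G) := by
  have key : ∀ S : Set ↥U, S.Finite → ∃ g ∈ ⨆ u ∈ ((U : Set G) \ {1}), Q u,
      ∀ s ∈ S, g * (s : G) * g⁻¹ = ((φ s : ↥U) : G) := by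
    intro S hfin
    induction S, hfin using Set.Finite.induction_on with
    | empty => exact ⟨1, Subgroup.one_mem _, fun s hs => absurd hs (Set.notMem_empty s)⟩
    | @insert v S hvS hfin ih =>
      obtain ⟨g0, hg0, hg0S⟩ := ih
      have hnorm := hs.le_stab hg0
      set v' : G := g0⁻¹ * ((φ v : ↥U) : G) * g0 with hv'
      have hv'U : v' ∈ U := hnorm.2.1 _ (φ v).2
      have hg0v' : g0 * v' * g0⁻¹ = ((φ v : ↥U) : G) := by rw [hv']; group
      by_cases hvv : v' = (v : G)
      · refine ⟨g0, hg0, ?_⟩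
        intro s hs
        rcases hs with rfl | hs
        · rw [← hvv]; exact hg0v'
        · exact hg0S s hs
      · set u : G := (v : G) * v' with hu
        have huU : u ∈ U := U.mul_mem v.2 hv'U
        have hu1 : u ≠ 1 := by
          intro h
          apply hvv
          have h2 : v' = (v : G)⁻¹ := eq_inv_of_mul_eq_one_right h
          rw [h2, hs.inv_eq v.2]
        have hST : ((fun s : ↥U => (s : G)) '' S) ⊆ agree U φ g0 := by
          rintro _ ⟨s, hs, rfl⟩
          exact ⟨s.2, hg0S s hs⟩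
        have hvn : (v : G) ∉ Subgroup.closure (((fun s : ↥U => (s : G)) '' S) ∪ {u}) := by
          intro hh
          obtain ⟨-, hcase⟩ := mem_or_mul_mem_of_mem_closure U (agree U φ g0)
            (fun a ha b hb => hs.comm ha hb) (fun a ha => hs.inv_eq ha) (agree_le φ g0) huU hST
            (v : G) hh
          rcases hcase with ⟨hx, hx'⟩ | ⟨hx, hx'⟩
          · apply hvv
            have e : (⟨(v : G), hx⟩ : ↥U) = v := Subtype.ext rfl
            rw [e] at hx'
            rw [hv', ← hx']; group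
          · -- `v * u = v'`
            have e1 : (v : G) * u = v' := by
              rw [hu, ← mul_assoc, hs.sq _ v.2, one_mul]
            have e2 : (φ ⟨(v : G) * u, hx⟩ : ↥U) = φ v := by
              apply Subtype.ext
              rw [← hx', ← hg0v', e1]
            have e3 : (⟨(v : G) * u, hx⟩ : ↥U) = v := φ.injective e2
            apply hvv
            rw [← e1]
            exact congrArg Subtype.val e3
        obtain ⟨g1, hg1Q, hg1S, hg1v⟩ := hs.exists_centralizing huU hu1
          (T := (fun s : ↥U => (s : G)) '' S) (by rintro _ ⟨s, -, rfl⟩; exact s.2)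
          (hs.orth u huU v v.2 hu1) hvn
        have hg1v' : g1 * (v : G) * g1⁻¹ = v' := by
          rw [conj_eq_of_commutator_eq hg1v, hu, hs.comm v.2 hv'U, mul_assoc, hs.sq _ v.2, mul_one]
        refine ⟨g0 * g1, Subgroup.mul_mem _ hg0 (le_iSup huU hu1 hg1Q), ?_⟩
        intro s hs
        rcases hs with rfl | hs
        · calc g0 * g1 * (s : G) * (g0 * g1)⁻¹ = g0 * (g1 * (s : G) * g1⁻¹) * g0⁻¹ := by group
            _ = g0 * v' * g0⁻¹ := by rw [hg1v']
            _ = _ := hg0v'
        · have hc : g1 * (s : G) = (s : G) * g1 := hg1S _ ⟨s, hs, rfl⟩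
          calc g0 * g1 * (s : G) * (g0 * g1)⁻¹ = g0 * ((g1 * (s : G)) * g1⁻¹) * g0⁻¹ := by group
            _ = g0 * (((s : G) * g1) * g1⁻¹) * g0⁻¹ := by rw [hc]
            _ = g0 * (s : G) * g0⁻¹ := by group
            _ = _ := hg0S s hs
  obtain ⟨g, hg, hgS⟩ := key Set.univ (Set.toFinite _)
  exact ⟨g, hg, fun u => hgS u (Set.mem_univ u)⟩

end Sing

end Cfsg.Agent.Helper89
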