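import Mathlib
import Cfsg.Prelude.Def_Local
import Cfsg.Agent.Lib.Helper54.PSolv
import Cfsg.Agent.Lib.Helper63.PLen
import Cfsg.Agent.Lib.Helper89.TH1Defs
import Cfsg.Agent.Lib.Helper15.TH1CW
import Cfsg.Agent.Lib.Helper15.TH1YM1
import Cfsg.Agent.Lib.Helper47.TH1HB2b
import Cfsg.Agent.Lib.Helper48.TH1R0
import Cfsg.Agent.Lib.Helper48.TH1S1
import Cfsg.Agent.Lib.Helper57.TH1HB2a
import Cfsg.Agent.Lib.Helper65.TH1CA
import Cfsg.Agent.Lib.Helper65.TH1HB1
import Cfsg.Agent.Lib.Helper77.TH1HOM
import Cfsg.Agent.Lib.Helper77.TH1YM2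
import Cfsg.Agent.Lib.Helper89.TH1CoreB
import Cfsg.Agent.Lib.Helper9.TH1COREA
import Cfsg.Agent.Lib.Helper94.TH1KX
import Cfsg.Agent.Lib.Helper94.TH1P2a

/-!
Assembly of the TH1 pieces: a finite solvable group with one class of involutions whose Sylow
2-subgroups contain more than one involution has 2-length 1.
-/

set_option autoImplicit false

namespace Cfsg.Agent.Helper89.TH1

open Cfsg Subgroup
open scoped commutatorElement
open Cfsg.Agent.Helper77.TH1 (homocyclic_of_transitive)
open Cfsg.Agent.Helper15.TH1 (cent_dichotomy)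
open Cfsg.Agent.Helper15.TH1 (exists_minimal_Y)
open Cfsg.Agent.Helper65.TH1 (caseA)
open Cfsg.Agent.Helper65.TH1 (H_hyps)
open Cfsg.Agent.Helper57.TH1 (exists_TN)
open Cfsg.Agent.Helper94.TH1 (exists_K)
open Cfsg.Agent.Helper94.TH1 (exists_aut_group)
open Cfsg.Agent.Helper47.TH1 (exists_EK)
open Cfsg.Agent.Helper48.TH1 (quot_hyps)
open Cfsg.Agent.Helper48.TH1 (exists_base)
open Cfsg.Agent.Helper9.TH1 (core_dim)
open Cfsg.Agent.Helper77.TH1 (core_of_minimal)
-- all pieces delivered

universe u

/-- `O_{2',2}(G)` of odd index gives 2-length at most 1. -/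
theorem plength_of_index {G : Type u} [Group G] [Finite G]
    (hidx : Odd (pCore 2 (G ⧸ pPrimeCore 2 G)).index) : PLengthLE 2 1 G := by
  have hNcop := Helper54.pPrimeCore_coprime (G := G) 2
  apply Helper63.PLengthLE_of_PL
  have hNn : (pPrimeCore 2 G).Normal := inferInstance
  have hRn : ((pCore 2 (G ⧸ pPrimeCore 2 G)).comap (QuotientGroup.mk' (pPrimeCore 2 G))).Normal :=
    Subgroup.Normal.comap inferInstance _
  refine Helper63.PL.step 0 ⊥ (pPrimeCore 2 G)
    ((pCore 2 (G ⧸ pPrimeCore 2 G)).comap (QuotientGroup.mk' (pPrimeCore 2 G))) ⊤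
    (Helper63.PL.base ⊥ _ bot_le inferInstance hNn ?_) (Helper63.le_comap_mk'_self _ _) le_top hRn
    inferInstance ?_ ?_
  · rw [relIndex_bot_left]; exact hNcop
  · rw [Helper63.relIndex_comap_mk']; exact IsPGroup.iff_card.mp Helper54.isPGroup_pCore
  · rw [relIndex_top_right, index_comap_of_surjective _ (QuotientGroup.mk'_surjective _)]
    exact Nat.coprime_two_right.mpr hidx

/-- The main claim, for groups with `O(G) = 1`. -/
theorem claimA : ∀ (n : ℕ) (G : Type u) [Group G] [Finite G], Nat.card G = n →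
    Group.IsSolvable G → pPrimeCore 2 G = ⊥ → TwoInv G → OneClass G →
    Odd (pCore 2 G).index := by
  intro n
  induction n using Nat.strong_induction_on with
  | _ n ih =>
    intro G _ _ hn hG hO h2 h1
    obtain ⟨W, hB⟩ := exists_base hG hO h2 h1
    obtain ⟨K, hK⟩ := exists_K hB
    rcases cent_dichotomy hB hK with hfix | hKW
    · exact caseA hB hK hfix
    · by_cases hKne : K = ⊥
      · -- then every `g` lies in `Q`
        have htop : pCore 2 G = ⊤ := by
          rw [eq_top_iff]
          intro g _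
          have h := hK.centR g (by
            intro k hk
            rw [hKne, mem_bot] at hk
            subst hk
            simp [commutatorElement_def])
          rw [hKne, sup_bot_eq] at h
          exact h
        rw [htop, index_top]
        exact odd_one
      · by_contra hnot
        obtain ⟨hH2, hH1, hHne⟩ := H_hyps hB hK hKne hKW
        -- induction hypothesis for `H / O(H)`
        have hHsolv : Group.IsSolvable ↥(normalizer (K : Set G)) := by
          have := hG
          infer_instance
        have hcardH : Nat.card ↥(normalizer (K : Set G)) < n := by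
          rw [← hn]
          by_contra hge
          exact hHne (eq_top_of_le_card _ (not_lt.mp hge))
        have hcardq : Nat.card (↥(normalizer (K : Set G)) ⧸ pPrimeCore 2 ↥(normalizer (K : Set G)))
            < n := by
          refine lt_of_le_of_lt ?_ hcardH
          exact Nat.card_le_card_of_surjective _ (QuotientGroup.mk'_surjective _)
        obtain ⟨hq2, hq1⟩ := quot_hyps hH2 hH1
        have hqsolv : Group.IsSolvable
            (↥(normalizer (K : Set G)) ⧸ pPrimeCore 2 ↥(normalizer (K : Set G))) := by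
          have := hHsolv
          infer_instance
        have hIH := ih _ hcardq
          (↥(normalizer (K : Set G)) ⧸ pPrimeCore 2 ↥(normalizer (K : Set G))) rfl hqsolv
          (Helper54.pPrimeCore_quotient_eq_bot 2) hq2 hq1
        have hidx : Odd (pPrimePCore 2 ↥(normalizer (K : Set G))).index := by
          unfold pPrimePCore
          rw [index_comap_of_surjective _ (QuotientGroup.mk'_surjective _)]
          exact hIH
        obtain ⟨T, N, hTN⟩ := exists_TN hB hK hKW hidx hnot
        obtain ⟨E, K₁, Q₀, hH⟩ := exists_EK hB hK hTN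
        obtain ⟨Y, hYQ, hNY, hKY, hYK, hmin⟩ := exists_minimal_Y hB hK hH
        have hC := core_of_minimal hB hK hKW hH hYQ hNY hKY hYK hmin
        obtain ⟨hcard, hnd⟩ := core_dim hC
        exact core_false hC hcard hnd

/-- Part (1). -/
theorem index_odd {G : Type u} [Group G] [Finite G] (hG : Group.IsSolvable G)
    (h2 : TwoInv G) (h1 : OneClass G) : Odd (pCore 2 (G ⧸ pPrimeCore 2 G)).index := by
  obtain ⟨hq2, hq1⟩ := quot_hyps h2 h1
  have hqsolv : Group.IsSolvable (G ⧸ pPrimeCore 2 G) := by
    have := hG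
    infer_instance
  exact claimA _ (G ⧸ pPrimeCore 2 G) rfl hqsolv (Helper54.pPrimeCore_quotient_eq_bot 2) hq2 hq1

/-- Part (2). -/
theorem sylow_struct {G : Type u} [Group G] [Finite G] (hG : Group.IsSolvable G) (h1 : OneClass G)
    (hidx : Odd (pCore 2 (G ⧸ pPrimeCore 2 G)).index) (S : Sylow 2 G) :
    (∃ m r : ℕ, Nonempty (↥(S : Subgroup G) ≃* (Fin r → Multiplicative (ZMod (2 ^ m))))) ∨
      (¬ IsMulCommutative (S : Subgroup G) ∧ ∃ Y : Subgroup (MulAut ↥(S : Subgroup G)),
        Group.IsSolvable Y ∧ ∀ x y : ↥(S : Subgroup G), x ≠ 1 → x ^ 2 = 1 → y ≠ 1 → y ^ 2 = 1 →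
          ∃ a ∈ Y, a x = y) := by
  obtain ⟨Y, hYs, hYt⟩ := exists_aut_group hG h1 hidx S
  by_cases hc : IsMulCommutative (S : Subgroup G)
  · left
    refine homocyclic_of_transitive (P := ↥(S : Subgroup G)) ?_ S.isPGroup' ?_
    · intro a b
      exact hc.is_comm.comm a b
    · intro x y hx1 hx2 hy1 hy2
      obtain ⟨a, _, ha⟩ := hYt x y hx1 hx2 hy1 hy2
      exact ⟨a, ha⟩
  · right
    exact ⟨hc, Y, hYs, hYt⟩

end Cfsg.Agent.Helper89.TH1
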